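import Groth.Agent.TateThmLib.DescTriv
import Groth.Agent.AVDualLib.Fam
import Groth.Agent.AVThetaLib.Perp
import Groth.Agent.CubeConsLib.Poincare
import Groth.Agent.AVRRLib.Degenerate

/-!
An ample class descends to a quotient by a graph subgroup (Zarhin's trick, without duals).
-/

set_option autoImplicit false
set_option maxHeartbeats 1000000
set_option maxRecDepth 8000
set_option backward.isDefEq.respectTransparency false
set_option linter.style.haveILetI false
set_option linter.unusedSectionVars false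

noncomputable section

universe u

open CategoryTheory CategoryTheory.Limits MonoidalCategory CartesianMonoidalCategory MonObj AlgebraicGeometry
open CubeConsLib AVThetaLib ThetaGrp AVDualLib

namespace TateThmLib

variable {k : Type u} [Field k]

theorem proper_tensor (A B : Over (Spec (CommRingCat.of k))) [IsProper A.hom] [IsProper B.hom] :
    IsProper (A ⊗ B).hom := by
  haveI : IsProper (pullback.fst A.hom B.hom) := MorphismProperty.pullback_fst (P := @IsProper) _ _ ‹IsProper B.hom›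
  exact inferInstanceAs (IsProper (pullback.fst A.hom B.hom ≫ A.hom))

theorem geomInt_tensor (A B : Over (Spec (CommRingCat.of k))) [IsProper A.hom] [IsProper B.hom]
    [GeometricallyIntegral A.hom] [GeometricallyIntegral B.hom] : GeometricallyIntegral (A ⊗ B).hom := by
  haveI : LocallyOfFinitePresentation A.hom := LocallyOfFinitePresentation.iff_locallyOfFiniteType.2 inferInstance
  haveI : LocallyOfFinitePresentation B.hom := LocallyOfFinitePresentation.iff_locallyOfFiniteType.2 inferInstance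
  exact geometricallyIntegral_prod A.hom B.hom

theorem whiskerRight_prop' (P : MorphismProperty Scheme.{u}) [P.IsStableUnderBaseChange]
    {X T : Over (Spec (CommRingCat.of k))} (t : T ⟶ X) (Y : Over (Spec (CommRingCat.of k))) (h : P t.left) :
    P (t ▷ Y).left :=
  MorphismProperty.of_isPullback (AVRRLib.isPullback_whiskerRight_left (Y := Y) t).flip h

theorem whiskerLeft_prop' (P : MorphismProperty Scheme.{u}) [P.IsStableUnderBaseChange] [P.RespectsIso]
    {X T : Over (Spec (CommRingCat.of k))} (Y : Over (Spec (CommRingCat.of k))) (t : T ⟶ X) (h : P t.left) :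
    P (Y ◁ t).left := by
  rw [show Y ◁ t = (β_ Y T).hom ≫ t ▷ Y ≫ (β_ X Y).hom by
    apply CartesianMonoidalCategory.hom_ext <;> simp, Over.comp_left, Over.comp_left]
  haveI : IsIso (β_ Y T).hom.left := inferInstanceAs (IsIso ((Over.forget _).map (β_ Y T).hom))
  haveI : IsIso (β_ X Y).hom.left := inferInstanceAs (IsIso ((Over.forget _).map (β_ X Y).hom))
  rw [MorphismProperty.cancel_left_of_respectsIso P, MorphismProperty.cancel_right_of_respectsIso P]
  exact whiskerRight_prop' P t Y h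

/-- Kernels are detected on points. -/
theorem isKernel_of_points {A B N : Over (Spec (CommRingCat.of k))} [GrpObj A] [GrpObj B] [GrpObj N] {f : A ⟶ B}
    {i : N ⟶ A} [Mono i]
    (h : ∀ {T : Over (Spec (CommRingCat.of k))} (x : T ⟶ A), x ≫ f = 1 ↔ ∃ n : T ⟶ N, n ≫ i = x) :
    AlgGrp.IsKernel i f := by
  have hη : toUnit N ≫ η[B] = 1 := (Hom.one_def).symm
  refine IsPullback.of_isLimit' ⟨((h i).2 ⟨𝟙 N, Category.id_comp _⟩).trans hη.symm⟩
    (PullbackCone.IsLimit.mk _ (fun s => ((h s.fst).1 (by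
      rw [s.condition, Hom.one_def, toUnit_unique s.snd (toUnit _)])).choose)
    (fun s => ((h s.fst).1 (by rw [s.condition, Hom.one_def, toUnit_unique s.snd (toUnit _)])).choose_spec)
    (fun s => Subsingleton.elim _ _) fun s m hm₁ _ => ?_)
  rw [← cancel_mono i, hm₁]
  exact ((h s.fst).1 (by rw [s.condition, Hom.one_def, toUnit_unique s.snd (toUnit _)])).choose_spec.symm

variable {A Z B G : Over (Spec (CommRingCat.of k))} [GrpObj A] [GrpObj Z] [GrpObj B] [GrpObj G]
  [IsCommMonObj A] [IsProper A.hom] [GeometricallyIntegral A.hom]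
  [IsProper Z.hom] [GeometricallyIntegral Z.hom] [IsProper B.hom] [GeometricallyIntegral B.hom]
  {L : A.left.Modules} (hL : PicF.IsInvertible L) {L' : B.left.Modules} (hB : PicF.IsInvertible L')
  {π : A ⟶ Z} [IsMonHom π] [Surjective π.left] [IsFinite π.left] [IsFinite G.hom] {iG : G ⟶ A} [IsMonHom iG] [Mono iG]

include hL in
/-- The Mumford class descends in one variable along a quotient by a subgroup of `K(L)`, normalised. -/
theorem exists_half_descent (hker : AlgGrp.IsKernel iG π) (hG : MumfordZero hL iG) :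
    ∃ (Q : (Z ⊗ A).left.Modules) (hQ : PicF.IsInvertible Q),
      (∀ {V : Over (Spec (CommRingCat.of k))} (x a : V ⟶ A), P hQ (lift (a ≫ π) x) = lam hL x a) ∧
      ∀ {V : Over (Spec (CommRingCat.of k))} (z : V ⟶ Z), P hQ (lift z (1 : V ⟶ A)) = 0 := by
  haveI : IsCommMonObj Z := isCommMonObj_field
  haveI := proper_tensor A A
  haveI := geomInt_tensor A A
  haveI := proper_tensor Z A
  haveI := geomInt_tensor Z A
  haveI : IsCommMonObj (A ⊗ A) := isCommMonObj_field
  obtain ⟨Λ', hΛ', cΛ'⟩ := AVIndexLib.exists_mumford hL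
  let Λ : (A ⊗ A).left.Modules := Λ'
  have hΛ : PicF.IsInvertible Λ := hΛ'
  have cΛ : (clA hΛ : PicA (A ⊗ A).left) = lam hL (fst A A) (snd A A) := cΛ'
  have hP : ∀ {V : Over (Spec (CommRingCat.of k))} (g : V ⟶ A ⊗ A),
      P hΛ g = lam hL (g ≫ fst A A) (g ≫ snd A A) := fun g => by
    show pullA g.left (clA hΛ : PicA (A ⊗ A).left) = _
    rw [cΛ, pullA_lam]
  let f : A ⊗ A ⟶ Z ⊗ A := π ▷ A
  let jC : A ⟶ A ⊗ A := lift (𝟙 A) 1
  haveI : IsMonHom jC := inferInstanceAs (IsMonHom (jA A))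
  haveI : IsMonHom f := isMonHom_of_mul _ fun T x y => by
    apply CartesianMonoidalCategory.hom_ext <;> simp [f, MonObj.mul_comp, Category.assoc]
  haveI : Surjective f.left := whiskerRight_prop' @Surjective π A ‹Surjective π.left›
  haveI : Mono (iG ≫ jC) := ⟨fun {T} a b h => by
    rw [← cancel_mono iG]
    have := congrArg (· ≫ fst A A) h
    simpa [jC] using this⟩
  have hNR : AlgGrp.IsKernel (iG ≫ jC) f := isKernel_of_points fun {T} x => by
    have e1 : (x ≫ fst A A) ≫ π = x ≫ f ≫ fst Z A := by simp [f]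
    have e2 : x ≫ snd A A = x ≫ f ≫ snd Z A := by simp [f]
    constructor
    · intro h
      rw [← Category.assoc, h, MonObj.one_comp] at e1 e2
      obtain ⟨n, hn⟩ := exists_lift_kernel hker _ e1
      refine ⟨n, CartesianMonoidalCategory.hom_ext _ _ ?_ ?_⟩
      · simp [jC, hn]
      · rw [e2]; simp [jC]
    · rintro ⟨n, rfl⟩
      apply CartesianMonoidalCategory.hom_ext
      · simp [jC, f, kernel_comp π hker n]
      · simp [jC, f]
  have hmz : MumfordZero hΛ (iG ≫ jC) := by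
    have hx : lam hL (snd (A ⊗ A) G ≫ iG) (fst (A ⊗ A) G ≫ snd A A) = 0 := by
      have h := congrArg (pullA (lift (fst (A ⊗ A) G ≫ snd A A) (snd (A ⊗ A) G)).left :
        PicA (A ⊗ G).left →+ PicA ((A ⊗ A) ⊗ G).left) ((Lam_eq_zero_iff hL iG).2 hG)
      rw [Lam, pullA_lam, map_zero, lift_fst, lift_snd_assoc] at h
      rw [lam_comm]
      exact h
    rw [MumfordZero, hP, hP, hP]
    simp only [jC, MonObj.mul_comp, Category.assoc, comp_lift, lift_fst, lift_snd, Category.comp_id, MonObj.comp_one,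
      _root_.mul_one, lam_mul_left]
    rw [hx, lam_comm hL _ (1 : (A ⊗ A) ⊗ G ⟶ A), lam_one_left, add_zero]
  obtain ⟨Q₀, hQ₀, ⟨e₀⟩⟩ := exists_descent_of_triv hΛ (jC := jC) (by
    rw [cΛ, pullA_lam]
    simp [jC, lam_comm hL _ (1 : A ⟶ A), lam_one_left]) hmz hNR
  have hP₀ : ∀ {V : Over (Spec (CommRingCat.of k))} (x a : V ⟶ A),
      P hQ₀ (lift (a ≫ π) x) = lam hL x a := fun {V} x a => by
    rw [show lift (a ≫ π) x = lift a x ≫ f by simp [f], ← pullA_P hQ₀ (lift a x) f,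
      show P hQ₀ f = (clA hΛ : PicA (A ⊗ A).left) from (P_eq hQ₀ f).trans ((clA_eq_iff _ hΛ).2 ⟨e₀⟩), cΛ, pullA_lam,
      lift_fst, lift_snd, lam_comm]
  let j₁ : Z ⟶ Z ⊗ A := lift (𝟙 Z) 1
  obtain ⟨Q, hQ, cQ⟩ := exists_sub hQ₀
    (AmpleDevLib.isInvertible_pb (fst Z A).left (AmpleDevLib.isInvertible_pb j₁.left hQ₀))
  have hPQ : ∀ {V : Over (Spec (CommRingCat.of k))} (g : V ⟶ Z ⊗ A),
      P hQ g = P hQ₀ g - P hQ₀ (lift (g ≫ fst Z A) 1) := fun {V} g => by
    show pullA g.left (clA hQ) = _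
    rw [cQ, map_sub, ← pullA_clA _ (AmpleDevLib.isInvertible_pb j₁.left hQ₀), ← pullA_clA _ hQ₀]
    congr 1
    rw [pullA_comp, pullA_comp, ← Over.comp_left, ← Over.comp_left]
    show P hQ₀ _ = P hQ₀ _
    congr 1
    apply CartesianMonoidalCategory.hom_ext <;> simp [j₁]
  exact ⟨Q, hQ, fun x a => by rw [hPQ, lift_fst, hP₀, hP₀, lam_one_left, sub_zero],
    fun z => by rw [hPQ, lift_fst, sub_self]⟩

variable {ι' : B ⟶ A} [IsMonHom ι'] {p : Z ⟶ B} [IsMonHom p]
  (hid : ∀ {V : Over (Spec (CommRingCat.of k))} (a : V ⟶ A) (w : V ⟶ B),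
    lam hL (w ≫ ι') a = lam hB (a ≫ π ≫ p) w)

include hL hid in
/-- The descended class on a shifted point. -/
theorem shift_eq {Q : (Z ⊗ A).left.Modules} (hQ : PicF.IsInvertible Q)
    (hlam : ∀ {V : Over (Spec (CommRingCat.of k))} (x a : V ⟶ A), P hQ (lift (a ≫ π) x) = lam hL x a)
    (hone : ∀ {V : Over (Spec (CommRingCat.of k))} (z : V ⟶ Z), P hQ (lift z (1 : V ⟶ A)) = 0)
    {V : Over (Spec (CommRingCat.of k))} (z : V ⟶ Z) (a : V ⟶ A) (w : V ⟶ B) :
    P hQ (lift z (a * (w ≫ ι'))) = P hQ (lift z a) + lam hB (z ≫ p) w := by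
  haveI := proper_tensor A B
  haveI := geomInt_tensor A B
  haveI := proper_tensor B B
  haveI := geomInt_tensor B B
  haveI : IsIntegral Z.left := GeometricallyIntegral.isIntegral_of_subsingleton Z.hom
  haveI : IsCommMonObj B := isCommMonObj_field
  haveI := AbSchLib.flat_of_surjective π
  haveI : LocallyOfFinitePresentation π.left := by
    haveI : IsLocallyNoetherian Z.left := LocallyOfFiniteType.isLocallyNoetherian Z.hom
    exact LocallyOfFinitePresentation.iff_locallyOfFiniteType.2 inferInstance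
  let g₁ : (A ⊗ B) ⊗ Z ⟶ Z ⊗ A :=
    lift (snd _ _) ((fst _ _ ≫ fst A B) * (fst _ _ ≫ snd A B ≫ ι'))
  let g₂ : (A ⊗ B) ⊗ Z ⟶ Z ⊗ A := lift (snd _ _) (fst _ _ ≫ fst A B)
  obtain ⟨Λ', hΛ', cΛ'⟩ := AVIndexLib.exists_mumford hB
  let Λ : (B ⊗ B).left.Modules := Λ'
  have hΛ : PicF.IsInvertible Λ := hΛ'
  have cΛ : (clA hΛ : PicA (B ⊗ B).left) = lam hB (fst B B) (snd B B) := cΛ'
  let g₃ : (A ⊗ B) ⊗ Z ⟶ B ⊗ B := lift (snd _ _ ≫ p) (fst _ _ ≫ snd A B)
  obtain ⟨D₁, hD₁, cD₁⟩ := exists_sub (AmpleDevLib.isInvertible_pb g₁.left hQ) (AmpleDevLib.isInvertible_pb g₂.left hQ)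
  obtain ⟨D, hD, cD⟩ := exists_sub hD₁ (AmpleDevLib.isInvertible_pb g₃.left hΛ)
  rw [← P_eq hQ, ← P_eq hQ] at cD₁
  rw [cD₁, ← P_eq hΛ] at cD
  have hpD : ∀ {V : Over (Spec (CommRingCat.of k))} (a : V ⟶ A) (w : V ⟶ B) (z : V ⟶ Z),
      pullA (lift (lift a w) z).left (clA hD) =
        P hQ (lift z (a * (w ≫ ι'))) - P hQ (lift z a) - lam hB (z ≫ p) w := fun a w z => by
    have hPΛ : ∀ {V : Over (Spec (CommRingCat.of k))} (g : V ⟶ B ⊗ B),
        P hΛ g = lam hB (g ≫ fst B B) (g ≫ snd B B) := fun g => by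
      show pullA g.left (clA hΛ : PicA (B ⊗ B).left) = _
      rw [cΛ, pullA_lam]
    rw [cD, map_sub, map_sub, pullA_P, pullA_P, pullA_P, hPΛ]
    simp [g₁, g₂, g₃, MonObj.comp_mul]
  let D' : (PicF.XT (A ⊗ B).hom Z).Modules := D
  have hD' : PicF.IsInvertible D' := hD
  have hD0 : clA hD' = 0 := by
    refine eq_zero_of_fppfLocal (A := A ⊗ B) (T := Z) hD' ?_ (Scheme.Hom.singleton_mem_fppfPrecoverage π.left) ?_
    · rw [← AVThetaLib.secT_eq]
      show pullA (lift (1 : Z ⟶ A ⊗ B) (𝟙 Z)).left (clA hD) = 0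
      rw [show (1 : Z ⟶ A ⊗ B) = lift 1 1 from CartesianMonoidalCategory.hom_ext _ _ (by simp [MonObj.one_comp])
          (by simp [MonObj.one_comp]), hpD, MonObj.one_comp, _root_.mul_one, hone, lam_comm, lam_one_left]
      simp
    · intro U u hu
      cases hu
      rw [← AVThetaLib.XTmap_eq]
      show pullA ((A ⊗ B) ◁ AbDual.ovrHom Z π.left).left (clA hD) = 0
      let W := AbDual.ovr Z π.left
      let t : W ⟶ A := Over.homMk (𝟙 A.left) (by
        show 𝟙 _ ≫ A.hom = π.left ≫ Z.hom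
        rw [Category.id_comp, Over.w π])
      have ht : AbDual.ovrHom Z π.left = t ≫ π := Over.OverMorphism.ext (Category.id_comp π.left).symm
      rw [show (A ⊗ B) ◁ AbDual.ovrHom Z π.left =
        lift (lift (fst (A ⊗ B) W ≫ fst A B) (fst (A ⊗ B) W ≫ snd A B)) (snd (A ⊗ B) W ≫ t ≫ π) by
        rw [ht]
        refine CartesianMonoidalCategory.hom_ext _ _ ?_ ?_
        · rw [lift_fst, whiskerLeft_fst, ← comp_lift, lift_fst_snd, Category.comp_id]
        · rw [lift_snd, whiskerLeft_snd], hpD]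
      simp only [← Category.assoc, hlam, lam_mul_left]
      rw [hid]
      simp only [Category.assoc]
      abel
  have h := hpD a w z
  rw [show clA hD = (0 : PicA ((A ⊗ B) ⊗ Z).left) from hD0, map_zero, sub_sub, eq_comm, sub_eq_zero] at h
  exact h

include hL hid in
/-- Descent of twice the class, when the subgroup lies on the graph over `K(L')`. -/
theorem exists_descended_square (hker : AlgGrp.IsKernel iG π) (hG : MumfordZero hL iG)
    (hgr : ∃ x : G ⟶ B, x ≫ ι' = iG ∧ MumfordZero hB x) :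
    ∃ (N : Z.left.Modules) (hN : PicF.IsInvertible N), pullA π.left (clA hN) = lam hL (𝟙 A) (𝟙 A) := by
  obtain ⟨Q, hQ, hlam, hone⟩ := exists_half_descent hL hker hG
  haveI : IsCommMonObj Z := isCommMonObj_field
  haveI := proper_tensor Z A
  haveI := geomInt_tensor Z A
  haveI := proper_tensor Z Z
  haveI := geomInt_tensor Z Z
  haveI : IsCommMonObj (Z ⊗ A) := isCommMonObj_field
  obtain ⟨x, hxι, hx⟩ := hgr
  let jC : A ⟶ Z ⊗ A := lift 1 (𝟙 A)
  haveI : IsMonHom jC := isMonHom_of_mul _ fun T x y => by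
    apply CartesianMonoidalCategory.hom_ext <;> simp [jC, MonObj.mul_comp]
  let f : Z ⊗ A ⟶ Z ⊗ Z := Z ◁ π
  haveI : IsMonHom f := isMonHom_of_mul _ fun T x y => by
    apply CartesianMonoidalCategory.hom_ext <;> simp [f, MonObj.mul_comp, Category.assoc]
  haveI : Surjective f.left := whiskerLeft_prop' @Surjective Z π ‹Surjective π.left›
  haveI : Mono (iG ≫ jC) := ⟨fun {T} a b h => by
    rw [← cancel_mono iG]
    have := congrArg (· ≫ snd Z A) h
    simpa [jC] using this⟩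
  have hNR : AlgGrp.IsKernel (iG ≫ jC) f := isKernel_of_points fun {T} y => by
    have e1 : (y ≫ snd Z A) ≫ π = y ≫ f ≫ snd Z Z := by simp [f]
    have e2 : y ≫ fst Z A = y ≫ f ≫ fst Z Z := by simp [f]
    constructor
    · intro h
      rw [← Category.assoc, h, MonObj.one_comp] at e1 e2
      obtain ⟨n, hn⟩ := exists_lift_kernel hker _ e1
      refine ⟨n, CartesianMonoidalCategory.hom_ext _ _ ?_ ?_⟩
      · rw [e2]; simp [jC]
      · simp [jC, hn]
    · rintro ⟨n, rfl⟩
      apply CartesianMonoidalCategory.hom_ext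
      · simp [jC, f]
      · simp [jC, f, kernel_comp π hker n]
  have hmz : MumfordZero hQ (iG ≫ jC) := by
    let z₁ := fst (Z ⊗ A) G ≫ fst Z A
    let a₁ := fst (Z ⊗ A) G ≫ snd Z A
    let w₁ := snd (Z ⊗ A) G ≫ x
    have e1 : (fst (Z ⊗ A) G * (snd (Z ⊗ A) G ≫ iG ≫ jC)) = lift z₁ (a₁ * (w₁ ≫ ι')) := by
      apply CartesianMonoidalCategory.hom_ext <;> simp [jC, z₁, a₁, w₁, MonObj.mul_comp, hxι]
    have e2 : fst (Z ⊗ A) G = lift z₁ a₁ := by apply CartesianMonoidalCategory.hom_ext <;> simp [z₁, a₁]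
    have e3 : snd (Z ⊗ A) G ≫ iG ≫ jC = lift (1 : (Z ⊗ A) ⊗ G ⟶ Z) ((1 : (Z ⊗ A) ⊗ G ⟶ A) * (w₁ ≫ ι')) := by
      apply CartesianMonoidalCategory.hom_ext <;> simp [jC, w₁, hxι]
    have h0 : lam hB (z₁ ≫ p) w₁ = 0 := by
      have h := congrArg (pullA (lift (z₁ ≫ p) (snd (Z ⊗ A) G)).left :
        PicA (B ⊗ G).left →+ PicA ((Z ⊗ A) ⊗ G).left) ((Lam_eq_zero_iff hB x).2 hx)
      rwa [Lam, pullA_lam, map_zero, lift_fst, lift_snd_assoc] at h
    rw [MumfordZero, e1, e3, shift_eq hL hB hid hQ hlam hone, shift_eq hL hB hid hQ hlam hone, h0, hone, ← e2,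
      MonObj.one_comp, lam_one_left, add_zero, add_zero, add_zero]
  obtain ⟨R, hR, ⟨eR⟩⟩ := exists_descent_of_triv hQ (jC := jC) (by
    show pullA (lift (1 : A ⟶ Z) (𝟙 A)).left (clA hQ) = 0
    rw [show (1 : A ⟶ Z) = (1 : A ⟶ A) ≫ π from (MonObj.one_comp π).symm, ← P]
    show P hQ _ = 0
    rw [hlam, lam_comm, lam_one_left]) hmz hNR
  let δ : Z ⟶ Z ⊗ Z := lift (𝟙 Z) (𝟙 Z)
  refine ⟨_, AmpleDevLib.isInvertible_pb δ.left hR, ?_⟩
  rw [← P_eq hR, pullA_P, show π ≫ δ = lift π (𝟙 A) ≫ f by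
      apply CartesianMonoidalCategory.hom_ext <;> simp [δ, f],
    ← pullA_P hR (lift π (𝟙 A)) f,
    show P hR f = (clA hQ : PicA (Z ⊗ A).left) from (P_eq hR f).trans ((clA_eq_iff _ hQ).2 ⟨eR⟩)]
  show P hQ (lift π (𝟙 A)) = _
  rw [show π = 𝟙 A ≫ π from (Category.id_comp π).symm, hlam]

end TateThmLib

end
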