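import Groth.Agent.TateThmLib.Engine
import Groth.Agent.S16588

/-!
Tate's theorem on homomorphisms over a finite field.
-/

set_option autoImplicit false
set_option maxHeartbeats 1000000
set_option maxRecDepth 8000
set_option backward.isDefEq.respectTransparency false
set_option linter.style.haveILetI false
set_option linter.unusedSectionVars false

noncomputable section

universe u

open CategoryTheory CategoryTheory.Limits MonoidalCategory CartesianMonoidalCategory MonObj AlgebraicGeometry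
open CubeConsLib
open scoped TensorProduct

namespace TateThmLib

variable {k Ω : Type u} [Field k] [Finite k] [Field Ω] [Algebra k Ω] [IsAlgClosure k Ω] {l : ℕ} [Fact l.Prime]
  (hl : (l : k) ≠ 0)

include hl in
theorem rangeProp_finite (X : Over (Spec (CommRingCat.of k))) [GrpObj X] [IsCommMonObj X] [IsProper X.hom]
    [GeometricallyIntegral X.hom] : RangeProp l Ω X := fun W hW => by
  haveI : IsAlgClosed Ω := IsAlgClosure.isAlgClosed k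
  exact exists_range_eq_finite hl X W hW

include hl in
theorem stable_compl_finite (X : Over (Spec (CommRingCat.of k))) [GrpObj X] [IsCommMonObj X] [IsProper X.hom]
    [GeometricallyIntegral X.hom] (W : Submodule ℚ_[l] (VT X l (SGA7.pt (K := k) Ω)))
    (hW : ∀ τ : Ω ≃ₐ[k] Ω, W.map ((galT X l τ).baseChange ℚ_[l]) ≤ W) :
    ∃ W', IsCompl W W' ∧ ∀ τ : Ω ≃ₐ[k] Ω, W'.map ((galT X l τ).baseChange ℚ_[l]) ≤ W' :=
  exists_stable_compl hl X (rangeProp_finite hl X) W hW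

include hl in
theorem commutant_finite (X : Over (Spec (CommRingCat.of k))) [GrpObj X] [IsCommMonObj X] [IsProper X.hom]
    [GeometricallyIntegral X.hom] (φ : Module.End ℚ_[l] (VT X l (SGA7.pt (K := k) Ω)))
    (hφ : ∀ τ : Ω ≃ₐ[k] Ω, φ ∘ₗ (galT X l τ).baseChange ℚ_[l] = (galT X l τ).baseChange ℚ_[l] ∘ₗ φ) :
    φ ∈ Submodule.span ℚ_[l] (gens (Ω := Ω) l X) := by
  haveI := proper_tensor X X
  haveI := geomInt_tensor X X
  haveI : IsCommMonObj (X ⊗ X) := isCommMonObj_field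
  exact mem_span_of_commute hl X (rangeProp_finite hl (X ⊗ X)) φ hφ

theorem span_conj {R : Type*} [CommRing R] {V W W' : Type*} [AddCommGroup V] [Module R V] [AddCommGroup W] [Module R W]
    [AddCommGroup W'] [Module R W'] (P : W →ₗ[R] W') (Q : V →ₗ[R] W) (S : Set (W →ₗ[R] W)) (T : Set (V →ₗ[R] W'))
    (h : ∀ x ∈ S, P ∘ₗ x ∘ₗ Q ∈ T) {x : W →ₗ[R] W} (hx : x ∈ Submodule.span R S) : P ∘ₗ x ∘ₗ Q ∈ Submodule.span R T := by
  induction hx using Submodule.span_induction with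
  | mem x hx => exact Submodule.subset_span (h x hx)
  | zero => rw [LinearMap.zero_comp, LinearMap.comp_zero]; exact Submodule.zero_mem _
  | add x y _ _ hx hy => rw [LinearMap.add_comp, LinearMap.comp_add]; exact Submodule.add_mem _ hx hy
  | smul a x _ hx => rw [LinearMap.smul_comp, LinearMap.comp_smul]; exact Submodule.smul_mem _ _ hx

theorem conj_commute {R V V₁ V₂ : Type*} [CommRing R] [AddCommGroup V] [Module R V] [AddCommGroup V₁] [Module R V₁]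
    [AddCommGroup V₂] [Module R V₂] (P : V →ₗ[R] V₁) (Q : V₂ →ₗ[R] V) (φ : V₁ →ₗ[R] V₂) (g : V →ₗ[R] V)
    (g₁ : V₁ →ₗ[R] V₁) (g₂ : V₂ →ₗ[R] V₂) (hP : P ∘ₗ g = g₁ ∘ₗ P) (hQ : Q ∘ₗ g₂ = g ∘ₗ Q) (hφ : φ ∘ₗ g₁ = g₂ ∘ₗ φ) :
    (Q ∘ₗ φ ∘ₗ P) ∘ₗ g = g ∘ₗ (Q ∘ₗ φ ∘ₗ P) := LinearMap.ext fun v => by
  show Q (φ (P (g v))) = g (Q (φ (P v)))
  rw [← LinearMap.comp_apply P g, hP, LinearMap.comp_apply, ← LinearMap.comp_apply φ g₁, hφ, LinearMap.comp_apply,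
    ← LinearMap.comp_apply Q g₂, hQ, LinearMap.comp_apply]

theorem conj_eq {R V V₁ V₂ : Type*} [CommRing R] [AddCommGroup V] [Module R V] [AddCommGroup V₁] [Module R V₁]
    [AddCommGroup V₂] [Module R V₂] (P₁ : V →ₗ[R] V₁) (P₂ : V →ₗ[R] V₂) (Q₁ : V₁ →ₗ[R] V) (Q₂ : V₂ →ₗ[R] V)
    (φ : V₁ →ₗ[R] V₂) (h₁ : P₁ ∘ₗ Q₁ = LinearMap.id) (h₂ : P₂ ∘ₗ Q₂ = LinearMap.id) :
    φ = P₂ ∘ₗ (Q₂ ∘ₗ φ ∘ₗ P₁) ∘ₗ Q₁ := LinearMap.ext fun v => by
  show φ v = P₂ (Q₂ (φ (P₁ (Q₁ v))))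
  rw [← LinearMap.comp_apply P₂ Q₂, h₂, ← LinearMap.comp_apply P₁ Q₁, h₁]
  rfl

variable (A B : Over (Spec (CommRingCat.of k))) [GrpObj A] [IsCommMonObj A] [IsProper A.hom] [GeometricallyIntegral A.hom]
  [GrpObj B] [IsCommMonObj B] [IsProper B.hom] [GeometricallyIntegral B.hom]

include hl in
/-- The rational form. -/
theorem hom_commutant (φ : VT A l (SGA7.pt (K := k) Ω) →ₗ[ℚ_[l]] VT B l (SGA7.pt (K := k) Ω))
    (hφ : ∀ τ : Ω ≃ₐ[k] Ω, φ ∘ₗ (galT A l τ).baseChange ℚ_[l] = (galT B l τ).baseChange ℚ_[l] ∘ₗ φ) :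
    φ ∈ Submodule.span ℚ_[l] (homs l B Ω A) := by
  haveI := proper_tensor A B
  haveI := geomInt_tensor A B
  haveI : IsCommMonObj (A ⊗ B) := isCommMonObj_field
  haveI : IsMonHom (1 : A ⟶ B) := inferInstanceAs (IsMonHom (0 : EndAV.Hom A B).toHom)
  haveI : IsMonHom (1 : B ⟶ A) := inferInstanceAs (IsMonHom (0 : EndAV.Hom B A).toHom)
  let p₁ : EndAV.Hom (A ⊗ B) A := EndAV.Hom.of (fst A B)
  let p₂ : EndAV.Hom (A ⊗ B) B := EndAV.Hom.of (snd A B)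
  let i₁ : EndAV.Hom A (A ⊗ B) := EndAV.Hom.of (lift (𝟙 A) 1)
  let i₂ : EndAV.Hom B (A ⊗ B) := EndAV.Hom.of (lift 1 (𝟙 B))
  have h11 : bV l (SGA7.pt (K := k) Ω) p₁ ∘ₗ bV l (SGA7.pt (K := k) Ω) i₁ = LinearMap.id := by
    rw [← bV_comp, show (i₁ ≫ p₁ : EndAV.Hom A A) = 𝟙 (CommGrp.mk A) from EndAV.Hom.ext (lift_fst _ _), bV_id]
  have h22 : bV l (SGA7.pt (K := k) Ω) p₂ ∘ₗ bV l (SGA7.pt (K := k) Ω) i₂ = LinearMap.id := by
    rw [← bV_comp, show (i₂ ≫ p₂ : EndAV.Hom B B) = 𝟙 (CommGrp.mk B) from EndAV.Hom.ext (lift_snd _ _), bV_id]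
  have hc : ∀ τ : Ω ≃ₐ[k] Ω, _ := fun τ =>
    conj_commute (bV l (SGA7.pt (K := k) Ω) p₁) (bV l (SGA7.pt (K := k) Ω) i₂) φ ((galT (A ⊗ B) l τ).baseChange ℚ_[l])
      ((galT A l τ).baseChange ℚ_[l]) ((galT B l τ).baseChange ℚ_[l]) (bV_natural l p₁ τ) (bV_natural l i₂ τ) (hφ τ)
  have hΦ := commutant_finite hl (A ⊗ B) (bV l (SGA7.pt (K := k) Ω) i₂ ∘ₗ φ ∘ₗ bV l (SGA7.pt (K := k) Ω) p₁) hc
  rw [conj_eq (bV l (SGA7.pt (K := k) Ω) p₁) (bV l (SGA7.pt (K := k) Ω) p₂) (bV l (SGA7.pt (K := k) Ω) i₁) (bV l (SGA7.pt (K := k) Ω) i₂) φ h11 h22]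
  refine span_conj _ _ _ _ (fun x hx => ?_) hΦ
  obtain ⟨c, rfl⟩ := bV_of_mem hx
  refine ⟨(i₁ ≫ c) ≫ p₂, ?_⟩
  show bV l (SGA7.pt (K := k) Ω) ((i₁ ≫ c) ≫ p₂) = _
  rw [bV_comp, bV_comp]

include hl in
/-- **Tate's theorem.** -/
theorem tate_hom (u : AbDual.TateMod A l (SGA7.pt (K := k) Ω) →ₗ[ℤ_[l]] AbDual.TateMod B l (SGA7.pt (K := k) Ω))
    (hu : ∀ τ : Ω ≃ₐ[k] Ω, u ∘ₗ galT A l τ = galT B l τ ∘ₗ u) :
    u ∈ Submodule.span ℤ_[l] (Set.range (EndAV.Hom.tateMap (A := A) (B := B) l (SGA7.pt (K := k) Ω))) := by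
  haveI : IsAlgClosed Ω := IsAlgClosure.isAlgClosed k
  have hlΩ : (l : Ω) ≠ 0 := fun h0 => hl ((algebraMap k Ω).injective (by rw [map_natCast, map_zero]; exact h0))
  obtain ⟨g, hg⟩ := AVAmpleLib.exists_dim_field B
  obtain ⟨_, _, -⟩ := AVAmpleLib.tate_free_finite_finrank_ext Ω B hg l hlΩ
  let S := Submodule.span ℤ_[l] (Set.range (EndAV.Hom.tateMap (A := A) (B := B) l (SGA7.pt (K := k) Ω)))
  have h1 := hom_commutant hl A B (u.baseChange ℚ_[l]) fun τ => by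
    rw [← LinearMap.baseChange_comp, ← LinearMap.baseChange_comp, hu τ]
  have key : ∀ x ∈ Submodule.span ℚ_[l] (homs l B Ω A), ∃ d : ℤ_[l], d ≠ 0 ∧ ∃ s ∈ S,
      algebraMap ℤ_[l] ℚ_[l] d • x = s.baseChange ℚ_[l] := by
    intro x hx
    induction hx using Submodule.span_induction with
    | mem x hx =>
      obtain ⟨g, rfl⟩ := hx
      exact ⟨1, one_ne_zero, _, Submodule.subset_span ⟨g, rfl⟩, by rw [map_one, one_smul]; rfl⟩
    | zero => exact ⟨1, one_ne_zero, 0, S.zero_mem, by rw [smul_zero, LinearMap.baseChange_zero]⟩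
    | add x y _ _ hx hy =>
      obtain ⟨d, hd, s, hs, e⟩ := hx
      obtain ⟨d', hd', s', hs', e'⟩ := hy
      refine ⟨d * d', mul_ne_zero hd hd', d' • s + d • s', S.add_mem (S.smul_mem _ hs) (S.smul_mem _ hs'), ?_⟩
      rw [LinearMap.baseChange_add, LinearMap.baseChange_smul, LinearMap.baseChange_smul, ← e, ← e', smul_add,
        ← algebraMap_smul ℚ_[l] d', ← algebraMap_smul ℚ_[l] d, smul_smul, smul_smul, map_mul]
      rw [mul_comm (algebraMap ℤ_[l] ℚ_[l] d') (algebraMap ℤ_[l] ℚ_[l] d)]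
    | smul a x _ hx =>
      obtain ⟨d, hd, s, hs, e⟩ := hx
      obtain ⟨⟨z, d'⟩, hzd⟩ := IsLocalization.surj (nonZeroDivisors ℤ_[l]) a
      refine ⟨d * d', mul_ne_zero hd (nonZeroDivisors.coe_ne_zero d'), z • s, S.smul_mem _ hs, ?_⟩
      rw [LinearMap.baseChange_smul, ← e, ← algebraMap_smul ℚ_[l] z, smul_smul, smul_smul, map_mul, ← hzd]
      ring_nf
  obtain ⟨d, hd, s, hs, e⟩ := key _ h1
  have e' : d • u = s := by
    refine LinearMap.ext fun x => ?_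
    have hinj : Function.Injective
        (TensorProduct.mk ℤ_[l] ℚ_[l] (AbDual.TateMod B l (SGA7.pt (K := k) Ω)) 1) :=
      Module.Flat.tensorProduct_mk_injective _ _ _
    refine hinj ?_
    have := LinearMap.congr_fun e ((1 : ℚ_[l]) ⊗ₜ x)
    rw [LinearMap.smul_apply, LinearMap.baseChange_tmul, LinearMap.baseChange_tmul] at this
    show (1 : ℚ_[l]) ⊗ₜ[ℤ_[l]] (d • u x) = _
    rw [TensorProduct.tmul_smul, ← algebraMap_smul ℚ_[l] d]
    exact this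
  refine Groth.Agent.S16588.result k Ω l hl A B u d.valuation ?_
  have := Submodule.smul_mem S ((PadicInt.unitCoeff hd)⁻¹ : ℤ_[l]ˣ).1 (e' ▸ hs : d • u ∈ S)
  rwa [smul_smul, show ((PadicInt.unitCoeff hd)⁻¹ : ℤ_[l]ˣ).1 * d = (l : ℤ_[l]) ^ d.valuation by
    conv_lhs => arg 2; rw [PadicInt.unitCoeff_spec hd]
    rw [Units.inv_mul_cancel_left]] at this

end TateThmLib

end
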