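import Groth.Agent.TateThmLib.FrobHom
import Groth.Agent.AVAmpleLib.BcDeg
import Groth.Agent.AVAmpleLib.WeilField

/-!
Isogenies from maps of Tate modules.
-/

set_option autoImplicit false
set_option maxHeartbeats 1000000
set_option maxRecDepth 8000
set_option backward.isDefEq.respectTransparency false
set_option linter.style.haveILetI false
set_option linter.unusedSectionVars false

noncomputable section

universe u

open CategoryTheory CategoryTheory.Limits MonoidalCategory CartesianMonoidalCategory MonObj AlgebraicGeometry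
open scoped TensorProduct
open Polynomial (aeval)

namespace TateThmLib

section LinAlg

/-- A point with integral coordinates where a non-zero polynomial does not vanish. -/
theorem exists_int_eval_ne_zero {K : Type*} [Field K] [CharZero K] {σ : Type*} (F : MvPolynomial σ K) (hF : F ≠ 0) :
    ∃ x : σ → ℤ, MvPolynomial.eval (fun i => (x i : K)) F ≠ 0 := by
  by_contra hall
  push Not at hall
  refine hF (MvPolynomial.funext_set (fun _ => Set.range (Int.cast : ℤ → K))
    (fun _ => Set.infinite_range_of_injective Int.cast_injective) fun y hy => ?_)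
  choose x hx using fun i => hy i trivial
  rw [map_zero, ← funext hx]
  exact hall x

/-- An integral combination which is bijective. -/
theorem exists_int_bijective {K V W : Type*} [Field K] [CharZero K] [AddCommGroup V] [Module K V] [AddCommGroup W]
    [Module K W] [FiniteDimensional K V] [FiniteDimensional K W] {I : Type*} [Fintype I] (M : I → (V →ₗ[K] W))
    {φ : V →ₗ[K] W} (hφ : φ ∈ Submodule.span K (Set.range M)) (hb : Function.Bijective φ) :
    ∃ x : I → ℤ, Function.Bijective ⇑(∑ i, x i • M i) := by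
  classical
  let bW := Module.finBasis K W
  let bV' := bW.map (LinearEquiv.ofBijective φ hb).symm
  obtain ⟨c, hc⟩ := (Submodule.mem_span_range_iff_exists_fun K).1 hφ
  let F : MvPolynomial I K :=
    (∑ i, (MvPolynomial.X i : MvPolynomial I K) • ((LinearMap.toMatrix bV' bW (M i)).map MvPolynomial.C)).det
  have hev : ∀ y : I → K, MvPolynomial.eval y F = (LinearMap.toMatrix bV' bW (∑ i, y i • M i)).det := fun y => by
    rw [show MvPolynomial.eval y F = (MvPolynomial.eval y) F from rfl, RingHom.map_det]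
    congr 1
    ext p q
    simp [Matrix.sum_apply, map_sum]
  have hone : LinearMap.toMatrix bV' bW φ = 1 := by
    ext i j
    rw [LinearMap.toMatrix_apply, Matrix.one_apply, Module.Basis.map_apply]
    have : φ ((LinearEquiv.ofBijective φ hb).symm (bW j)) = bW j := (LinearEquiv.ofBijective φ hb).apply_symm_apply _
    rw [this, Module.Basis.repr_self, Finsupp.single_apply]
    simp only [eq_comm]
  have hF : F ≠ 0 := fun h0 => by
    have := hev c
    rw [hc, h0, map_zero, hone, Matrix.det_one] at this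
    exact zero_ne_one this
  obtain ⟨x, hx⟩ := exists_int_eval_ne_zero F hF
  refine ⟨x, ?_⟩
  rw [hev] at hx
  have hsum : (∑ i, x i • M i) = ∑ i, (x i : K) • M i := by simp only [Int.cast_smul_eq_zsmul]
  rw [hsum]
  exact (LinearEquiv.ofIsUnitDet (f := ∑ i, (x i : K) • M i) (v := bV') (v' := bW) (isUnit_iff_ne_zero.2 hx)).bijective

/-- An approximation modulo `l` of an isomorphism of lattices is an isomorphism. -/
theorem bijective_of_congr {l : ℕ} [Fact l.Prime] {M N : Type*} [AddCommGroup M] [Module ℤ_[l] M] [AddCommGroup N]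
    [Module ℤ_[l] N] [Module.Finite ℤ_[l] M] [Module.Finite ℤ_[l] N] (e f w : M →ₗ[ℤ_[l]] N) (he : Function.Bijective e)
    (h : f = e + (l : ℤ_[l]) • w) : Function.Bijective f := by
  let e' := LinearEquiv.ofBijective e he
  let p : Module.End ℤ_[l] M := e'.symm.toLinearMap ∘ₗ f
  have hp : Function.Surjective p := by
    rw [← LinearMap.range_eq_top, eq_top_iff]
    refine Submodule.le_of_le_smul_of_le_jacobson_bot (I := IsLocalRing.maximalIdeal ℤ_[l]) Module.Finite.fg_top
      (le_of_eq (IsLocalRing.jacobson_eq_maximalIdeal ⊥ bot_ne_top).symm) ?_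
    intro x _
    refine Submodule.mem_sup.2 ⟨p x, LinearMap.mem_range_self _ _, (l : ℤ_[l]) • -(e'.symm (w x)), ?_, ?_⟩
    · refine Submodule.smul_mem_smul ?_ trivial
      rw [PadicInt.maximalIdeal_eq_span_p]
      exact Ideal.mem_span_singleton_self _
    · show e'.symm (f x) + _ = x
      rw [h, LinearMap.add_apply, LinearMap.smul_apply, map_add, map_smul, smul_neg, add_neg_cancel_right]
      exact e'.symm_apply_apply x
  have hb := OrzechProperty.bijective_of_surjective_endomorphism p hp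
  have : (f : M → N) = e' ∘ p := funext fun x => (e'.apply_symm_apply (f x)).symm
  rw [this]
  exact e'.bijective.comp hb

end LinAlg

section AV

variable {k Ω : Type u} [Field k] [Finite k] [Field Ω] [Algebra k Ω] [IsAlgClosure k Ω] {l : ℕ} [Fact l.Prime]
  {A B : Over (Spec (CommRingCat.of k))} [GrpObj A] [IsCommMonObj A] [IsProper A.hom] [GeometricallyIntegral A.hom]
  [GrpObj B] [IsCommMonObj B] [IsProper B.hom] [GeometricallyIntegral B.hom] (hl : (l : k) ≠ 0)

include hl in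
theorem natCast_Ω_ne_zero : (l : Ω) ≠ 0 := fun h0 =>
  hl ((algebraMap k Ω).injective (by rw [map_natCast, map_zero]; exact h0))

include hl in
theorem bV_injective : Function.Injective (bV l (SGA7.pt (K := k) Ω) : EndAV.Hom A B →+ _) := by
  haveI : IsAlgClosed Ω := IsAlgClosure.isAlgClosed k
  haveI := (free_finite (A := B) (Ω := Ω) hl).1
  intro f g h
  refine AVAmpleLib.tateMap_injective_ext (A := A) (B := B) Ω l (natCast_Ω_ne_zero hl) (LinearMap.ext fun x => ?_)
  refine Module.Flat.tensorProduct_mk_injective ℤ_[l] (AbDual.TateMod B l (SGA7.pt (K := k) Ω)) ℚ_[l] ?_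
  exact LinearMap.congr_fun h ((1 : ℚ_[l]) ⊗ₜ x)

include hl in
theorem endV_injective : Function.Injective (endV A l (SGA7.pt (K := k) Ω)) := fun _ _ h =>
  bV_injective (A := A) (B := A) hl h

include hl in
/-- An endomorphism bijective on the rational Tate module divides a non-zero integer. -/
theorem exists_mul_eq_int (φ : EndAV.End A) (hb : Function.Bijective (endV A l (SGA7.pt (K := k) Ω) φ)) :
    ∃ (χ : EndAV.End A) (n : ℕ), 0 < n ∧ φ * χ = n ∧ χ * φ = n := by
  haveI := AVAmpleLib.fg_end A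
  obtain ⟨Q, hQm, hQ⟩ : IsIntegral ℤ φ := .of_finite ℤ φ
  replace hQ : aeval φ Q = 0 := hQ
  obtain ⟨R, hQR, hR⟩ := Polynomial.exists_eq_pow_rootMultiplicity_mul_and_not_dvd Q hQm.ne_zero 0
  set m := Q.rootMultiplicity 0
  rw [Polynomial.C_0, sub_zero] at hQR hR
  have hR0 : R.coeff 0 ≠ 0 := fun h => hR (Polynomial.X_dvd_iff.2 h)
  have hRφ : aeval φ R = 0 := by
    refine endV_injective (Ω := Ω) hl (LinearMap.ext fun x => ?_)
    rw [map_zero, LinearMap.zero_apply]
    rw [hQR, map_mul, map_pow, Polynomial.aeval_X] at hQ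
    have h1 := LinearMap.congr_fun (congrArg (endV A l (SGA7.pt (K := k) Ω)) hQ) x
    rw [map_mul, map_pow, map_zero, LinearMap.zero_apply, Module.End.mul_apply] at h1
    have hi : Function.Injective ⇑(endV A l (SGA7.pt (K := k) Ω) φ ^ m) := by
      rw [Module.End.coe_pow]
      exact hb.injective.iterate m
    exact hi (h1.trans (map_zero _).symm)
  rw [← Polynomial.X_mul_divX_add R, map_add, map_mul, Polynomial.aeval_X, Polynomial.aeval_C, add_eq_zero_iff_eq_neg] at hRφ
  have hcomm : aeval φ R.divX * φ = φ * aeval φ R.divX := by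
    conv_lhs => arg 2; rw [← Polynomial.aeval_X (R := ℤ) φ]
    conv_rhs => arg 1; rw [← Polynomial.aeval_X (R := ℤ) φ]
    rw [← map_mul, ← map_mul, mul_comm]
  rw [eq_intCast] at hRφ
  rcases Int.natAbs_eq (R.coeff 0) with h | h
  · refine ⟨-aeval φ R.divX, (R.coeff 0).natAbs, Int.natAbs_pos.2 hR0, ?_, ?_⟩
    · rw [mul_neg, hRφ, neg_neg, ← Int.cast_natCast, ← h]
    · rw [neg_mul, hcomm, hRφ, neg_neg, ← Int.cast_natCast, ← h]
  · refine ⟨aeval φ R.divX, (R.coeff 0).natAbs, Int.natAbs_pos.2 hR0, ?_, ?_⟩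
    · rw [hRφ, ← Int.cast_natCast (R.coeff 0).natAbs]
      conv_lhs => rw [h]
      rw [Int.cast_neg, neg_neg]
    · rw [hcomm, hRφ, ← Int.cast_natCast (R.coeff 0).natAbs]
      conv_lhs => rw [h]
      rw [Int.cast_neg, neg_neg]

include hl in
/-- An endomorphism bijective on the Tate module divides an integer prime to `l`. -/
theorem exists_mul_eq_int' (φ : EndAV.End A)
    (hb : Function.Bijective (EndAV.End.tateRep (A := A) l (SGA7.pt (K := k) Ω) φ)) :
    ∃ (χ : EndAV.End A) (n : ℕ), 0 < n ∧ ¬ l ∣ n ∧ φ * χ = n ∧ χ * φ = n := by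
  haveI : IsAlgClosed Ω := IsAlgClosure.isAlgClosed k
  obtain ⟨g, hg⟩ := AVAmpleLib.exists_dim_field A
  obtain ⟨P, hPm, -, -, hP⟩ := AVAmpleLib.exists_charpoly_bc Ω A hg φ
  obtain ⟨_, _⟩ := free_finite (A := A) (Ω := Ω) hl
  have hPl := hP l (natCast_Ω_ne_zero hl)
  have h0 := AVAmpleLib.aeval_charpoly_eq_zero Ω l (natCast_Ω_ne_zero hl) φ hPl
  have hdiv : ¬ (l : ℤ) ∣ P.coeff 0 := by
    intro hd
    have hu : IsUnit (LinearMap.det (EndAV.End.tateRep (A := A) l (SGA7.pt (K := k) Ω) φ)) :=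
      LinearEquiv.isUnit_det' (LinearEquiv.ofBijective _ hb)
    rw [LinearMap.det_eq_sign_charpoly_coeff, hPl, Polynomial.coeff_map] at hu
    obtain ⟨c, hc⟩ := hd
    have hu' := isUnit_of_mul_isUnit_right hu
    rw [hc, map_mul, map_natCast] at hu'
    exact PadicInt.p_nonunit (isUnit_of_mul_isUnit_left hu')
  have hP0 : P.coeff 0 ≠ 0 := fun h => hdiv (h ▸ dvd_zero _)
  rw [← Polynomial.X_mul_divX_add P, map_add, map_mul, Polynomial.aeval_X, Polynomial.aeval_C, add_eq_zero_iff_eq_neg,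
    eq_intCast] at h0
  have hcomm : aeval φ P.divX * φ = φ * aeval φ P.divX := by
    conv_lhs => arg 2; rw [← Polynomial.aeval_X (R := ℤ) φ]
    conv_rhs => arg 1; rw [← Polynomial.aeval_X (R := ℤ) φ]
    rw [← map_mul, ← map_mul, mul_comm]
  have hn : ¬ l ∣ (P.coeff 0).natAbs := fun h => hdiv (Int.natCast_dvd.2 h)
  rcases Int.natAbs_eq (P.coeff 0) with h | h
  · refine ⟨-aeval φ P.divX, (P.coeff 0).natAbs, Int.natAbs_pos.2 hP0, hn, ?_, ?_⟩
    · rw [mul_neg, h0, neg_neg, ← Int.cast_natCast, ← h]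
    · rw [neg_mul, hcomm, h0, neg_neg, ← Int.cast_natCast, ← h]
  · refine ⟨aeval φ P.divX, (P.coeff 0).natAbs, Int.natAbs_pos.2 hP0, hn, ?_, ?_⟩
    · rw [h0, ← Int.cast_natCast (P.coeff 0).natAbs]
      conv_lhs => rw [h]
      rw [Int.cast_neg, neg_neg]
    · rw [hcomm, h0, ← Int.cast_natCast (P.coeff 0).natAbs]
      conv_lhs => rw [h]
      rw [Int.cast_neg, neg_neg]

include hl in
/-- Homomorphisms both ways bijective on rational Tate modules give an isogeny pair. -/
theorem exists_isogeny_pair (f : EndAV.Hom A B) (g : EndAV.Hom B A)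
    (hf : Function.Bijective (bV l (SGA7.pt (K := k) Ω) f)) (hg : Function.Bijective (bV l (SGA7.pt (K := k) Ω) g)) :
    ∃ (v : EndAV.Hom B A) (n : ℕ), 0 < n ∧ f.toHom ≫ v.toHom = (𝟙 A) ^ n ∧ v.toHom ≫ f.toHom = (𝟙 B) ^ n := by
  obtain ⟨χ, n, hn, h₁, h₂⟩ := exists_mul_eq_int (Ω := Ω) hl (EndAV.End.of (f.toHom ≫ g.toHom)) (by
    rw [endV_apply]
    show Function.Bijective (bV l (SGA7.pt (K := k) Ω) (f ≫ g : EndAV.Hom A A))
    rw [bV_comp]
    exact hg.comp hf)
  let v : EndAV.Hom B A := EndAV.Hom.of (g.toHom ≫ EndAV.End.toHom χ)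
  have h1 : f.toHom ≫ v.toHom = (𝟙 A) ^ n := by
    rw [← EndAV.End.toHom_natCast, ← h₂, EndAV.End.toHom_mul, EndAV.End.toHom_of, Category.assoc]
    rfl
  refine ⟨v, n, hn, h1, ?_⟩
  have e1 : (f ≫ v : EndAV.Hom A A) = n • 𝟙 (CommGrp.mk A) := EndAV.Hom.ext (by rw [EndAV.Hom.toHom_nsmul]; exact h1)
  have e2 : (v ≫ f : EndAV.Hom B B) = n • 𝟙 (CommGrp.mk B) := by
    refine bV_injective (Ω := Ω) hl (LinearMap.ext fun y => ?_)
    obtain ⟨x, rfl⟩ := hf.surjective y
    rw [bV_comp, map_nsmul, bV_id, LinearMap.comp_apply, LinearMap.smul_apply, LinearMap.id_apply,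
      ← LinearMap.comp_apply (bV l (SGA7.pt (K := k) Ω) v), ← bV_comp, e1, map_nsmul, bV_id, LinearMap.smul_apply,
      LinearMap.id_apply, map_nsmul]
  exact (congrArg EndAV.Hom.toHom e2).trans (EndAV.Hom.toHom_nsmul _ _)

variable (Ω) in
include hl in
/-- A bijective combination of homomorphisms gives an isogeny. -/
theorem isogenous_of_span {φ : VT A l (SGA7.pt (K := k) Ω) →ₗ[ℚ_[l]] VT B l (SGA7.pt (K := k) Ω)}
    (hφ : φ ∈ Submodule.span ℚ_[l] (homs l B Ω A)) (hb : Function.Bijective φ)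
    {ψ : VT B l (SGA7.pt (K := k) Ω) →ₗ[ℚ_[l]] VT A l (SGA7.pt (K := k) Ω)}
    (hψ : ψ ∈ Submodule.span ℚ_[l] (homs l A Ω B)) (hb' : Function.Bijective ψ) :
    ∃ (u : A ⟶ B) (_ : IsMonHom u) (v : B ⟶ A) (_ : IsMonHom v) (n : ℕ), 0 < n ∧
      u ≫ v = (𝟙 A) ^ n ∧ v ≫ u = (𝟙 B) ^ n := by
  haveI : IsAlgClosed Ω := IsAlgClosure.isAlgClosed k
  obtain ⟨_, _⟩ := free_finite (A := A) (Ω := Ω) hl
  obtain ⟨_, _⟩ := free_finite (A := B) (Ω := Ω) hl
  obtain ⟨t, ht, hφt⟩ := Submodule.mem_span_finite_of_mem_span hφ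
  obtain ⟨t', ht', hψt⟩ := Submodule.mem_span_finite_of_mem_span hψ
  choose fs hfs using fun i : t => ht i.2
  choose gs hgs using fun i : t' => ht' i.2
  have hs : (t : Set _) ⊆ Set.range fun i : t => bV l (SGA7.pt (K := k) Ω) (fs i) := fun x hx => ⟨⟨x, hx⟩, hfs _⟩
  have hs' : (t' : Set _) ⊆ Set.range fun i : t' => bV l (SGA7.pt (K := k) Ω) (gs i) := fun x hx => ⟨⟨x, hx⟩, hgs _⟩
  obtain ⟨x, hx⟩ := exists_int_bijective (fun i : t => bV l (SGA7.pt (K := k) Ω) (fs i))
    (Submodule.span_mono hs hφt) hb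
  obtain ⟨y, hy⟩ := exists_int_bijective (fun i : t' => bV l (SGA7.pt (K := k) Ω) (gs i))
    (Submodule.span_mono hs' hψt) hb'
  obtain ⟨v, n, hn, h₁, h₂⟩ := exists_isogeny_pair (Ω := Ω) hl (∑ i, x i • fs i) (∑ i, y i • gs i)
    (by simp only [map_sum, map_zsmul]; exact hx) (by simp only [map_sum, map_zsmul]; exact hy)
  exact ⟨_, inferInstance, v.toHom, inferInstance, n, hn, h₁, h₂⟩

include hl in
/-- An isogeny is bijective on rational Tate modules. -/
theorem bijective_of_pair (f : EndAV.Hom A B) (g : EndAV.Hom B A) {n : ℕ} (hn : 0 < n)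
    (h₁ : f.toHom ≫ g.toHom = (𝟙 A) ^ n) (h₂ : g.toHom ≫ f.toHom = (𝟙 B) ^ n) :
    Function.Bijective (bV l (SGA7.pt (K := k) Ω) f) := by
  have hn0 : (n : ℚ_[l]) ≠ 0 := Nat.cast_ne_zero.2 hn.ne'
  have e1 : (f ≫ g : EndAV.Hom A A) = n • 𝟙 (CommGrp.mk A) := EndAV.Hom.ext (by rw [EndAV.Hom.toHom_nsmul]; exact h₁)
  have e2 : (g ≫ f : EndAV.Hom B B) = n • 𝟙 (CommGrp.mk B) := EndAV.Hom.ext (by rw [EndAV.Hom.toHom_nsmul]; exact h₂)
  constructor
  · intro x y hxy
    have := congrArg (bV l (SGA7.pt (K := k) Ω) g) hxy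
    rw [← LinearMap.comp_apply, ← LinearMap.comp_apply, ← bV_comp, e1, map_nsmul, bV_id, LinearMap.smul_apply,
      LinearMap.smul_apply, LinearMap.id_apply, LinearMap.id_apply, ← Nat.cast_smul_eq_nsmul ℚ_[l],
      ← Nat.cast_smul_eq_nsmul ℚ_[l]] at this
    exact (smul_right_injective _ hn0) this
  · intro y
    refine ⟨bV l (SGA7.pt (K := k) Ω) g ((n : ℚ_[l])⁻¹ • y), ?_⟩
    rw [← LinearMap.comp_apply, ← bV_comp, e2, map_nsmul, bV_id, LinearMap.smul_apply, LinearMap.id_apply,
      ← Nat.cast_smul_eq_nsmul ℚ_[l], smul_inv_smul₀ hn0]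

end AV

end TateThmLib

end
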