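import Groth.Agent.TateThmLib.EndDim

/-!
Numerical consequences of the dimension formula.
-/

set_option autoImplicit false
set_option maxHeartbeats 1000000
set_option synthInstance.maxHeartbeats 200000
set_option maxRecDepth 8000
set_option backward.isDefEq.respectTransparency false
set_option linter.style.haveILetI false
set_option linter.unusedSectionVars false

noncomputable section

universe u

open CategoryTheory CategoryTheory.Limits MonoidalCategory CartesianMonoidalCategory MonObj AlgebraicGeometry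
open scoped TensorProduct
open Polynomial (aeval)
open UniqueFactorizationMonoid

namespace TateThmLib

theorem charpoly_scalar {R V : Type*} [CommRing R] [Nontrivial R] [AddCommGroup V] [Module R V] [Module.Free R V]
    [Module.Finite R V] (c : R) :
    (c • (1 : Module.End R V)).charpoly = (Polynomial.X - Polynomial.C c) ^ Module.finrank R V := by
  classical
  let b := Module.Free.chooseBasis R V
  rw [← LinearMap.charpoly_toMatrix _ b, map_smul, LinearMap.toMatrix_one, Matrix.smul_one_eq_diagonal,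
    Matrix.charpoly_diagonal, Finset.prod_const, Finset.card_univ, ← Module.finrank_eq_card_chooseBasisIndex]

theorem sum_sq_le_iff {M : Type*} [DecidableEq M] (s : Multiset M) (d : M → ℕ) (hd : ∀ a ∈ s, 0 < d a) :
    (∑ a ∈ s.toFinset, s.count a * s.count a * d a = ∑ a ∈ s.toFinset, s.count a * d a ↔ s.Nodup) ∧
      (∑ a ∈ s.toFinset, s.count a * s.count a * d a = ∑ a ∈ s.toFinset, d a ↔ s.Nodup) := by
  have hc : ∀ a ∈ s.toFinset, 1 ≤ s.count a ∧ 0 < d a := fun a ha =>
    ⟨Multiset.count_pos.2 (Multiset.mem_toFinset.1 ha), hd a (Multiset.mem_toFinset.1 ha)⟩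
  have h₁ : ∀ a ∈ s.toFinset, s.count a * d a ≤ s.count a * s.count a * d a := fun a ha =>
    Nat.mul_le_mul_right _ (Nat.le_mul_self _)
  have h₂ : ∀ a ∈ s.toFinset, d a ≤ s.count a * s.count a * d a := fun a ha =>
    Nat.le_mul_of_pos_left _ (Nat.mul_pos (hc a ha).1 (hc a ha).1)
  constructor
  · rw [eq_comm, Finset.sum_eq_sum_iff_of_le h₁, Multiset.nodup_iff_count_le_one]
    refine ⟨fun h a => ?_, fun h a ha => ?_⟩
    · by_cases ha : a ∈ s
      · have h1 := h a (Multiset.mem_toFinset.2 ha)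
        have hp := hc a (Multiset.mem_toFinset.2 ha)
        have := Nat.eq_of_mul_eq_mul_right hp.2 h1
        nlinarith
      · rw [Multiset.count_eq_zero.2 ha]; exact zero_le_one
    · simp [le_antisymm (h a) (hc a ha).1]
  · rw [eq_comm, Finset.sum_eq_sum_iff_of_le h₂, Multiset.nodup_iff_count_le_one]
    refine ⟨fun h a => ?_, fun h a ha => ?_⟩
    · by_cases ha : a ∈ s
      · have h1 := h a (Multiset.mem_toFinset.2 ha)
        have hp := hc a (Multiset.mem_toFinset.2 ha)
        have h2 : s.count a * s.count a * d a = 1 * d a := by rw [_root_.one_mul, ← h1]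
        have := Nat.eq_of_mul_eq_mul_right hp.2 h2
        nlinarith
      · rw [Multiset.count_eq_zero.2 ha]; exact zero_le_one
    · simp [le_antisymm (h a) (hc a ha).1]

variable {k Ω : Type u} [Field k] [Finite k] [Field Ω] [Algebra k Ω] [IsAlgClosure k Ω] {l : ℕ} [Fact l.Prime]
  {A : Over (Spec (CommRingCat.of k))} [GrpObj A] [IsCommMonObj A] [IsProper A.hom] [GeometricallyIntegral A.hom]
  {πA : A ⟶ A} [IsMonHom πA] (hπA : IsFrob πA) (hl : (l : k) ≠ 0) {P : Polynomial ℤ}
  [Module.Free ℤ_[l] (AbDual.TateMod A l (SGA7.pt (K := k) Ω))]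
  [Module.Finite ℤ_[l] (AbDual.TateMod A l (SGA7.pt (K := k) Ω))]
  (hP : (TF l Ω πA).charpoly = P.map (Int.castRingHom ℤ_[l]))

include hπA in
theorem minpoly_frob : Squarefree (minpoly ℚ (EndAV.toEnd0 (EndAV.End.of πA))) ∧
    IsIntegral ℚ (EndAV.toEnd0 (EndAV.End.of πA)) := by
  obtain ⟨h, hle, happ⟩ := hπA
  exact AVAmpleLib.squarefree_minpoly_frob πA h hle happ Nat.card_pos

theorem finite_end0 (X : Over (Spec (CommRingCat.of k))) [GrpObj X] [IsCommMonObj X] [IsProper X.hom]
    [GeometricallyIntegral X.hom] : Module.Finite ℚ (EndAV.End0 X) := by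
  haveI := AVAmpleLib.fg_end X
  exact inferInstanceAs (Module.Finite ℚ (ℚ ⊗[ℤ] EndAV.End X))

include hπA hl hP in
theorem commutative_iff {g : ℕ} (hg : topologicalKrullDim A.left = (g : ℕ)) :
    ((∀ a b : EndAV.End A, a * b = b * a) ↔ Squarefree (P.map (Int.castRingHom ℚ))) ∧
      (Squarefree (P.map (Int.castRingHom ℚ)) ↔ Module.finrank ℚ (EndAV.End0 A) = 2 * g) := by
  classical
  haveI := finite_end0 A
  have hs := squarefree_iff_nodup_normalizedFactors (monic_PQ hP).ne_zero
  obtain ⟨e₁, e₂⟩ := sum_sq_le_iff (normalizedFactors (P.map (Int.castRingHom ℚ))) Polynomial.natDegree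
    fun a ha => (irreducible_of_normalized_factor a ha).natDegree_pos
  refine ⟨?_, ?_⟩
  · rw [← qadj_eq_top_iff hπA, hs, ← e₂, ← finrank_end0_eq hπA hl hP, ← finrank_qadj_eq hπA hl hP]
    constructor
    · intro h; rw [h, ← Subalgebra.finrank_toSubmodule, Algebra.top_toSubmodule, finrank_top]
    · intro h
      rw [← Algebra.toSubmodule_eq_top]
      exact Submodule.eq_top_of_finrank_eq h.symm
  · rw [hs, ← e₁, ← finrank_end0_eq hπA hl hP, ← card_eq_sum (monic_PQ hP), natDegree_PQ hl hP hg]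

include hπA hl hP in
/-- When `ℚ[π]` is a field. -/
theorem exists_index {g : ℕ} (hg : topologicalKrullDim A.left = (g : ℕ))
    (hK : Irreducible (minpoly ℚ (EndAV.toEnd0 (EndAV.End.of πA)))) :
    ∃ d : ℕ, Module.finrank ℚ (EndAV.End0 A) = Module.finrank ℚ (EndAV.QAdj (EndAV.End.of πA)) * d ^ 2 ∧
      d * Module.finrank ℚ (EndAV.QAdj (EndAV.End.of πA)) = 2 * g ∧
      P.map (Int.castRingHom ℚ) = minpoly ℚ (EndAV.toEnd0 (EndAV.End.of πA)) ^ d := by
  classical
  obtain ⟨hsq, hint⟩ := minpoly_frob hπA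
  let m := minpoly ℚ (EndAV.toEnd0 (EndAV.End.of πA))
  have hm : normalizedFactors m = {m} := by
    rw [normalizedFactors_irreducible hK, (minpoly.monic hint).normalize_eq_self]
  let s := normalizedFactors (P.map (Int.castRingHom ℚ))
  have hs : ∀ Q ∈ s, Q = m := fun Q hQ => by
    have := (mem_factors_iff hπA hl hP Q).2 hQ
    rw [show normalizedFactors (minpoly ℚ (EndAV.toEnd0 (EndAV.End.of πA))) = {m} from hm, Multiset.mem_singleton] at this
    exact this
  have hrep : s = Multiset.replicate (Multiset.card s) m := Multiset.eq_replicate.2 ⟨rfl, hs⟩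
  have hmem : m ∈ s := (mem_factors_iff hπA hl hP m).1 (by
    rw [show normalizedFactors (minpoly ℚ (EndAV.toEnd0 (EndAV.End.of πA))) = {m} from hm]
    exact Multiset.mem_singleton_self m)
  have hfin : s.toFinset = {m} := Finset.eq_singleton_iff_unique_mem.2
    ⟨Multiset.mem_toFinset.2 hmem, fun Q hQ => hs Q (Multiset.mem_toFinset.1 hQ)⟩
  have hPm : P.map (Int.castRingHom ℚ) = m ^ Multiset.card s := by
    have h := prod_normalizedFactors (monic_PQ hP).ne_zero
    change Associated s.prod _ at h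
    rw [hrep, Multiset.prod_replicate] at h
    exact (Polynomial.eq_of_monic_of_associated ((minpoly.monic hint).pow _) (monic_PQ hP) h).symm
  have hcount : s.count m = Multiset.card s := by
    conv_lhs => rw [hrep]
    exact Multiset.count_replicate_self _ _
  refine ⟨Multiset.card s, ?_, ?_, hPm⟩
  · rw [finrank_end0_eq hπA hl hP, finrank_qadj_eq hπA hl hP, hfin, Finset.sum_singleton, Finset.sum_singleton,
      show (normalizedFactors (P.map (Int.castRingHom ℚ))).count m = Multiset.card s from hcount]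
    ring
  · rw [finrank_adjoin_singleton hint, ← natDegree_PQ hl hP hg, hPm, Polynomial.natDegree_pow]

include hπA hl hP in
theorem scalar_iff {g : ℕ} (hg : topologicalKrullDim A.left = (g : ℕ)) :
    (Module.finrank ℚ (EndAV.End0 A) = (2 * g) ^ 2 ↔ ∃ n : ℤ, EndAV.End.of πA = (n : EndAV.End A)) ∧
      ((∃ n : ℤ, EndAV.End.of πA = (n : EndAV.End A)) ↔
        ∃ a : ℤ, P = (Polynomial.X - Polynomial.C a) ^ (2 * g)) := by
  classical
  haveI : IsAlgClosed Ω := IsAlgClosure.isAlgClosed k
  obtain ⟨hsq, hint⟩ := minpoly_frob hπA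
  have hinj : Function.Injective (Int.castRingHom ℤ_[l]) := RingHom.injective_int _
  have hrk : Module.finrank ℤ_[l] (AbDual.TateMod A l (SGA7.pt (K := k) Ω)) = 2 * g :=
    (AVAmpleLib.tate_free_finite_finrank_ext Ω A hg l (natCast_Ω_ne_zero hl)).2.2
  have hAtoN : (∃ a : ℤ, P = (Polynomial.X - Polynomial.C a) ^ (2 * g)) → ∃ n : ℤ, EndAV.End.of πA = (n : EndAV.End A) := by
    rintro ⟨a, ha⟩
    refine ⟨a, AVAmpleLib.toEnd0_injective (A := A) ?_⟩
    rcases Nat.eq_zero_or_pos (2 * g) with h0 | hpos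
    · have h1 := minpoly_dvd_PQ hπA hl hP
      rw [ha, h0, pow_zero, Polynomial.map_one] at h1
      have h2 := minpoly.aeval ℚ (EndAV.toEnd0 (EndAV.End.of πA))
      rw [(minpoly.monic hint).eq_one_of_isUnit (isUnit_of_dvd_one h1), map_one] at h2
      haveI : Subsingleton (EndAV.End0 A) := subsingleton_of_zero_eq_one h2.symm
      exact Subsingleton.elim _ _
    · have h1 := minpoly_dvd_PQ hπA hl hP
      rw [ha, Polynomial.map_pow] at h1
      have h2 := (hsq.dvd_pow_iff_dvd hpos.ne').1 h1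
      have h3 := minpoly.aeval ℚ (EndAV.toEnd0 (EndAV.End.of πA))
      obtain ⟨c, hc⟩ := h2
      have h4 : aeval (EndAV.toEnd0 (EndAV.End.of πA)) ((Polynomial.X - Polynomial.C a).map (Int.castRingHom ℚ)) = 0 := by
        rw [hc, map_mul, h3, MulZeroClass.zero_mul]
      rw [Polynomial.map_sub, Polynomial.map_X, Polynomial.map_C, map_sub, Polynomial.aeval_X, Polynomial.aeval_C,
        sub_eq_zero] at h4
      rw [h4, map_intCast, eq_intCast, map_intCast]
  have hNtoA : (∃ n : ℤ, EndAV.End.of πA = (n : EndAV.End A)) →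
      (∃ a : ℤ, P = (Polynomial.X - Polynomial.C a) ^ (2 * g)) ∧ Module.finrank ℚ (EndAV.End0 A) = (2 * g) ^ 2 := by
    rintro ⟨n, hn⟩
    have hT : TF l Ω πA = algebraMap ℤ_[l] _ (n : ℤ_[l]) := by
      rw [map_intCast, ← map_intCast (EndAV.End.tateRep (A := A) l (SGA7.pt (K := k) Ω)) n, ← hn]
      rfl
    refine ⟨⟨n, Polynomial.map_injective _ hinj ?_⟩, ?_⟩
    · rw [← hP, hT, Algebra.algebraMap_eq_smul_one, charpoly_scalar, hrk]
      simp
    · rw [finrank_end0, ← finrank_span_homs Ω hl, span_homs_eq hπA hπA hl]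
      have e : kerL (VF l Ω πA) (VF l Ω πA) = ⊤ := eq_top_iff.2 fun φ _ => by
        rw [mem_kerL, VF, hT, Algebra.algebraMap_eq_smul_one, LinearMap.baseChange_smul, Module.End.one_eq_id,
          LinearMap.baseChange_id]
        rw [← algebraMap_smul ℚ_[l] (n : ℤ_[l]), LinearMap.comp_smul, LinearMap.smul_comp, LinearMap.comp_id, LinearMap.id_comp]
      rw [e, finrank_top, Module.finrank_linearMap, Module.finrank_baseChange, hrk, pow_two]
  refine ⟨⟨fun h => hAtoN ?_, fun h => (hNtoA h).2⟩, ⟨fun h => (hNtoA h).1, hAtoN⟩⟩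
  -- the centralizer of the Frobenius is everything, so the Frobenius is a scalar
  have hVrk : Module.finrank ℚ_[l] (VT A l (SGA7.pt (K := k) Ω)) = 2 * g := by rw [Module.finrank_baseChange, hrk]
  have etop : kerL (VF l Ω πA) (VF l Ω πA) = ⊤ := by
    refine Submodule.eq_top_of_finrank_eq ?_
    rw [← span_homs_eq hπA hπA hl, finrank_span_homs Ω hl, ← finrank_end0, h, Module.finrank_linearMap, hVrk, pow_two]
  have hcen : VF l Ω πA ∈ Submonoid.center (Module.End ℚ_[l] (VT A l (SGA7.pt (K := k) Ω))) :=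
    Submonoid.mem_center_iff.2 fun φ => mem_kerL.1 (etop ▸ Submodule.mem_top)
  obtain ⟨c, hc0, hc⟩ := (Module.End.mem_submonoidCenter_iff (R := ℚ_[l])).1 hcen
  rcases Nat.eq_zero_or_pos g with rfl | hgpos
  · refine ⟨0, Polynomial.map_injective _ hinj ?_⟩
    rw [MulZeroClass.mul_zero, pow_zero, Polynomial.map_one, ← hP]
    exact (LinearMap.charpoly_monic _).natDegree_eq_zero.1 (by rw [LinearMap.charpoly_natDegree, hrk])
  let L := AlgebraicClosure ℚ_[l]
  have hcp : (VF l Ω πA).charpoly = (Polynomial.X - Polynomial.C c) ^ (2 * g) := by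
    rw [show VF l Ω πA = c • (1 : Module.End ℚ_[l] _) from hc.trans (LinearMap.ext fun _ => rfl), charpoly_scalar, hVrk]
  obtain ⟨Q₀, hQ₀m, hQ₀, -⟩ := AVAmpleLib.exists_int_minpoly (EndAV.End.of πA)
  have hdeg : (minpoly ℚ (EndAV.toEnd0 (EndAV.End.of πA))).natDegree ≤ 1 := by
    have h1 := Polynomial.map_dvd (algebraMap ℚ L) (minpoly_dvd_PQ hπA hl hP)
    rw [← map_PQ (L := L) hP, hcp, Polynomial.map_pow] at h1
    have h2 := ((PerfectField.separable_iff_squarefree.2 hsq).map (f := algebraMap ℚ L)).squarefree.dvd_pow_iff_dvd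
      (show 2 * g ≠ 0 by omega) |>.1 h1
    have h3 := Polynomial.natDegree_le_of_dvd h2 ((Polynomial.monic_X_sub_C _).map _).ne_zero
    rw [Polynomial.natDegree_map_eq_of_injective (algebraMap ℚ L).injective] at h3
    exact h3.trans (Polynomial.natDegree_map_le.trans (Polynomial.natDegree_X_sub_C_le _))
  have hirr : Irreducible (minpoly ℚ (EndAV.toEnd0 (EndAV.End.of πA))) := by
    refine Polynomial.irreducible_of_degree_eq_one (Polynomial.degree_eq_iff_natDegree_eq_of_pos Nat.one_pos |>.2 ?_)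
    refine le_antisymm hdeg (Nat.one_le_iff_ne_zero.2 fun h0 => ?_)
    have h1 := minpoly.aeval ℚ (EndAV.toEnd0 (EndAV.End.of πA))
    rw [(minpoly.monic hint).natDegree_eq_zero.1 h0, map_one] at h1
    haveI : Subsingleton (EndAV.End0 A) := subsingleton_of_zero_eq_one h1.symm
    rw [Module.finrank_zero_of_subsingleton] at h
    exact absurd h (by positivity)
  obtain ⟨d, -, hd2, hd3⟩ := exists_index hπA hl hP hg hirr
  have hdeg1 : (minpoly ℚ (EndAV.toEnd0 (EndAV.End.of πA))).natDegree = 1 := le_antisymm hdeg hirr.natDegree_pos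
  rw [finrank_adjoin_singleton hint, hdeg1, _root_.mul_one] at hd2
  have hQd : Q₀.natDegree = 1 := by
    rw [← Polynomial.natDegree_map_eq_of_injective (RingHom.injective_int (Int.castRingHom ℚ)) Q₀, hQ₀, hdeg1]
  refine ⟨-Q₀.coeff 0, Polynomial.map_injective _ (RingHom.injective_int (Int.castRingHom ℚ)) ?_⟩
  rw [hd3, hd2, Polynomial.map_pow, ← hQ₀]
  congr 2
  rw [map_neg, sub_neg_eq_add]
  exact hQ₀m.eq_X_add_C hQd

end TateThmLib

end
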