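import Groth.Agent.TateThmLib.Poincare
import Groth.Agent.RosatiLib.Deg
import Groth.Agent.AVBiextLib.Lambda
import Groth.Agent.AVDualLib.Polar
import Groth.Agent.AVIndexLib.TransDeg
import Groth.Agent.HilbPolyLib.BaseField

/-!
A polarisation over a field gives an ample class with known Euler characteristic over the same field.
-/

set_option autoImplicit false
set_option maxHeartbeats 1000000
set_option maxRecDepth 8000
set_option backward.isDefEq.respectTransparency false
set_option linter.style.haveILetI false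
set_option linter.unusedSectionVars false

noncomputable section

universe u

open CategoryTheory CategoryTheory.Limits MonoidalCategory CartesianMonoidalCategory MonObj AlgebraicGeometry
open CubeConsLib AVAmpleLib AVIndexLib AVBiextLib

namespace TateThmLib

variable {k : Type u} [Field k] {B Bt : Over (Spec (CommRingCat.of k))} [GrpObj B] [IsProper B.hom]
  [GeometricallyIntegral B.hom] [GrpObj Bt] {φ : AgPol.DualMap B Bt}

/-- The biextension of a polarisation on a geometric fibre is the Mumford class of an ample class. -/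
theorem exists_fibre_ample (hB : AbDual.IsDualAV Scheme.fppfPrecoverage B Bt φ)
    {P : (PicF.XT B.hom Bt).Modules} (hP : PicF.IsInvertible P) (hPξ : AbDual.IsPoincareCl B Bt φ (PicF.cl P))
    (f : B ⟶ Bt) [IsMonHom f] (hpol : AgPol.IsPolarization B Bt φ f) {Ω : Type u} [Field Ω] [IsAlgClosed Ω]
    (t : Spec (CommRingCat.of Ω) ⟶ Spec (CommRingCat.of k)) :
    ∃ (L : (Red.bc t B).left.Modules) (hL : PicF.IsInvertible L), CohB1.IsAmple L ∧
      bc2 t (Ecl hP f) = CubeConsLib.lam hL (fst (Red.bc t B) (Red.bc t B)) (snd _ _) := by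
  haveI := AVAmpleLib.smooth_hom B
  haveI := geometricallyConnected_of_integral B.hom
  haveI : LocallyOfFinitePresentation B.hom := LocallyOfFinitePresentation.iff_locallyOfFiniteType.2 inferInstance
  obtain ⟨L, hLa, hl⟩ := hpol.2 Ω t
  let hL : PicF.IsInvertible L := hLa.1
  obtain ⟨N, hN, cN, hφ⟩ := exists_of_isLambda hL hl
  refine ⟨L, hL, hLa, ?_⟩
  haveI : IsProper (Red.bc t B).hom := MorphismProperty.pullback_snd (P := @IsProper) _ _ ‹_›
  haveI : GeometricallyIntegral (Red.bc t B).hom :=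
    inferInstanceAs (GeometricallyIntegral (Limits.pullback.snd B.hom t))
  haveI : IsIntegral (Red.bc t B).left := GeometricallyIntegral.isIntegral_of_subsingleton (Red.bc t B).hom
  have hE0 := isPicZeroCl_EMod hPξ f
  have hEi := AmpleDevLib.isInvertible_pb (p2 t B).left (AmpleDevLib.isInvertible_pb (PicF.XTmap B.hom f) hP)
  have cE : (clA hEi : PicA (Red.bc t B ⊗ Red.bc t B).left) = bc2 t (Ecl hP f) := (pullA_clA _ _).symm
  have e := eq_of_phi_eq (isDualAV_bcDual t hB) hEi hN (isPicZeroCl_bc2 t hE0) (isPicZeroCl_mumford hL cN) ?_ ?_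
    (by rw [toDn_phi_bc2 t hB hE0, hφ, phi_EMod hB hPξ])
  · exact (cE.symm.trans e).trans cN
  · rw [secT_eq_lift]
    show ev2 (clA hEi : PicA (Red.bc t B ⊗ Red.bc t B).left) 1 (𝟙 (Red.bc t B)) = 0
    rw [cE, ev2_bc2, toDn_one, ev2_one_left hP hPξ]
  · rw [secT_eq_lift]
    show pullA (lift (1 : Red.bc t B ⟶ Red.bc t B) (𝟙 _)).left
      (clA hN : PicA (Red.bc t B ⊗ Red.bc t B).left) = 0
    rw [cN, pullA_lam, lift_fst, lift_snd, lam_one_left]

/-- The class of `L ⊗ [-1]^* L` is ample. -/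
theorem isAmple_lam_self {A : Over (Spec (CommRingCat.of k))} [GrpObj A] [IsProper A.hom] [GeometricallyIntegral A.hom]
    {L M : A.left.Modules} (hL : PicF.IsInvertible L) (hLa : CohB1.IsAmple L) (hM : PicF.IsInvertible M)
    (e : clA hM = CubeConsLib.lam hL (𝟙 A) (𝟙 A)) : CohB1.IsAmple M := by
  haveI : IsIso ((𝟙 A)⁻¹ : A ⟶ A) := ⟨(𝟙 A)⁻¹, by rw [GrpObj.comp_inv, Category.comp_id, inv_inv],
    by rw [GrpObj.comp_inv, Category.comp_id, inv_inv]⟩
  haveI : IsIso ((𝟙 A)⁻¹ : A ⟶ A).left := inferInstanceAs (IsIso ((Over.forget _).map _))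
  let Li := (Scheme.Modules.pullback ((𝟙 A)⁻¹ : A ⟶ A).left).obj L
  have hLi : PicF.IsInvertible Li := AmpleDevLib.isInvertible_pb _ hL
  have hLia : CohB1.IsAmple Li := AmpleDevLib.isAmple_pb _ hL hLa
  have hT := HilbPolyLib.isInvertible_tensor hL hLi
  have e2 : clA hT = clA hM := by
    rw [e, clA_tensor hL hLi, ← pullA_clA _ hL, CubeConsLib.lam,
      show (𝟙 A * 𝟙 A : A ⟶ A) = 𝟙 A ^ (2 : ℤ) by rw [zpow_two],
      zpow_formula hL (𝟙 A) 2, P_id, P_zero hL, smul_zero, add_zero,
      show ((2 : ℤ) * (2 + 1) / 2) = 3 by norm_num, show ((2 : ℤ) * (2 - 1) / 2) = 1 by norm_num, one_smul,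
      show ((3 : ℤ)) = 1 + 1 + 1 by norm_num, add_smul, add_smul, one_smul]
    show clA hL + P hL (𝟙 A)⁻¹ = _
    abel
  obtain ⟨i⟩ := (clA_eq_iff hT hM).1 e2
  exact AmpleDevLib.isAmple_of_iso hT hM i (MiscFlat6.isAmple_tensor hLa hLia)

theorem finrank_pullback_map {B C : Over (Spec (CommRingCat.of k))} (f : B ⟶ C) [IsFinite f.left] [Flat f.left]
    {Ω : Type u} [Field Ω] (t : Spec (CommRingCat.of Ω) ⟶ Spec (CommRingCat.of k)) (x : (Red.bc t C).left) :
    ((Over.pullback t).map f).left.finrank x = f.left.finrank (Limits.pullback.fst C.hom t x) := by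
  let q := ((Over.pullback t).map f).left
  have hq : IsPullback q (Limits.pullback.fst B.hom t) (Limits.pullback.fst C.hom t) f.left := by
    refine IsPullback.of_right (h₁₂ := Limits.pullback.snd C.hom t) (v₁₃ := t) (h₂₂ := C.hom) ?_ ?_
      (IsPullback.of_hasPullback C.hom t).flip
    · rw [Over.w f, show q ≫ Limits.pullback.snd C.hom t = Limits.pullback.snd B.hom t from
        Over.w ((Over.pullback t).map f)]
      exact (IsPullback.of_hasPullback B.hom t).flip
    · exact Limits.pullback.lift_fst _ _ _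
  exact Scheme.Hom.finrank_of_isPullback _ _ _ _ hq.flip x

/-- A polarisation of degree `d²` gives an ample class of Euler characteristic `2^g d`. -/
theorem exists_ample_of_polarization [IsIntegral B.left] (hB : AbDual.IsDualAV Scheme.fppfPrecoverage B Bt φ)
    {lam : B ⟶ Bt} (hpol : AgPol.IsPolarization B Bt φ lam) {d : ℕ} (hdeg : AgPol.HasDegSq lam d) {g : ℕ}
    (hgpos : 0 < g) (hg : topologicalKrullDim B.left = (g : ℕ)) :
    ∃ (M : B.left.Modules) (hM : PicF.IsInvertible M), CohB1.IsAmple M ∧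
      chi B (clA hM) = ((2 ^ g * d : ℕ) : ℤ) := by
  obtain ⟨hpBt, hiBt⟩ := dual_av hB
  haveI := hpBt
  haveI := hiBt
  obtain ⟨P, hP, hPξ⟩ := exists_poincare hB
  haveI := hpol.1
  obtain ⟨hdf, hdfl, -, hdd⟩ := hdeg
  haveI := hdf
  haveI := hdfl
  haveI : IsCommMonObj B := isCommMonObj_field
  haveI := AVAmpleLib.smooth_hom B
  haveI := geometricallyConnected_of_integral B.hom
  haveI : LocallyOfFinitePresentation B.hom := LocallyOfFinitePresentation.iff_locallyOfFiniteType.2 inferInstance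
  let M : B.left.Modules := (Scheme.Modules.pullback (Limits.pullback.lift (𝟙 B.left) (lam ^ 1).left
    ((Category.id_comp B.hom).trans (Over.w (lam ^ 1)).symm) : B.left ⟶ PicF.XT B.hom Bt)).obj P
  obtain ⟨hM, cM⟩ := graph_class hP lam 1 (L := M) rfl
  obtain ⟨N, hN, hiso, hφN, -⟩ := exists_lambda hB hP hPξ lam hpol 1 hM cM
  have hl : AgPol.IsLambda B Bt φ M (lam ^ (2 * 1)) := ⟨N, hN, hiso, hφN⟩
  let Ω := AlgebraicClosure k
  let t := Spec.map (CommRingCat.ofHom (algebraMap k Ω))
  haveI : Flat t := by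
    rw [HasRingHomProperty.Spec_iff (P := @Flat)]
    show RingHom.Flat (algebraMap k Ω)
    rw [RingHom.flat_algebraMap_iff]
    infer_instance
  haveI : Surjective t := ⟨fun x => ⟨IsLocalRing.closedPoint Ω, Subsingleton.elim (α := PrimeSpectrum k) _ _⟩⟩
  let B' := Red.bc t B
  let Bt' := Red.bc t Bt
  haveI : IsProper B'.hom := inferInstanceAs (IsProper (Limits.pullback.snd B.hom t))
  haveI : GeometricallyIntegral B'.hom := inferInstanceAs (GeometricallyIntegral (Limits.pullback.snd B.hom t))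
  haveI : IsProper Bt'.hom := inferInstanceAs (IsProper (Limits.pullback.snd Bt.hom t))
  haveI : GeometricallyIntegral Bt'.hom := inferInstanceAs (GeometricallyIntegral (Limits.pullback.snd Bt.hom t))
  haveI : IsIntegral B'.left := GeometricallyIntegral.isIntegral_of_subsingleton B'.hom
  have hg' : topologicalKrullDim B'.left = (g : ℕ) := (dim_pullback_eq B).trans hg
  let M' : B'.left.Modules := (Scheme.Modules.pullback (Limits.pullback.fst B.hom t)).obj M
  have hM' : PicF.IsInvertible M' := AmpleDevLib.isInvertible_pb (Limits.pullback.fst B.hom t) hM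
  -- ampleness
  obtain ⟨L, hL, hLa, cE⟩ := exists_fibre_ample hB hP hPξ lam hpol t
  have c' : clA hM' = CubeConsLib.lam hL (𝟙 B') (𝟙 B') := by
    rw [← pullA_clA _ hM, show Limits.pullback.fst B.hom t = (toDn t (𝟙 B')).left by simp [toDn_left, B'], cM]
    refine (pullA_ev2 (Ecl hP lam) (toDn t (𝟙 B')) (𝟙 B) (𝟙 B ^ 1)).trans ?_
    rw [pow_one, Category.comp_id, ← ev2_bc2, cE, ev2, pullA_lam, lift_fst, lift_snd]
  have hMa' : CohB1.IsAmple M' := isAmple_lam_self hL hLa hM' c'
  refine ⟨M, hM, MiscFlat6.isAmple_of_isAmple_pb_fpqc B.hom t hM hMa', ?_⟩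
  -- the degree
  obtain ⟨N₁, hN₁, cN₁, hφ₁⟩ := exists_of_isLambda hM' (AVDualLib.isLambda_bc φ hB hM hl t)
  have hB' := isDualAV_bcDual t hB
  obtain ⟨hmh, hfin, -, hflat⟩ := isogeny_phiL hB' hM' hMa' hN₁ cN₁
  haveI := hmh
  haveI := hfin
  haveI := hflat
  let b : Bt'.left := (η[Bt'] : 𝟙_ (Over (Spec (CommRingCat.of Ω))) ⟶ Bt').left (IsLocalRing.closedPoint Ω)
  have h1 := euler_family_deg hB' hN₁ (isPicZeroCl_mumford hM' cN₁) hgpos hg' b
  haveI := proper_tensor B' B'
  haveI := geomInt_tensor B' B'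
  haveI : IsIntegral (B' ⊗ B').left := GeometricallyIntegral.isIntegral_of_subsingleton (B' ⊗ B').hom
  have h2 := RosatiLib.chi_lam hg' hM' (AVAmpleLib.finite_translationFixing hM' hMa')
  rw [← cN₁, chi_clA] at h2
  have h3 : (chi B' (clA hM')) ^ 2 =
      (((AgPol.bcDual t B Bt φ B' (PicF.cl N₁)).left.finrank b : ℕ) : ℤ) :=
    mul_left_cancel₀ (pow_ne_zero g (neg_ne_zero.2 one_ne_zero)) (h2.symm.trans h1)
  rw [hφ₁] at h3
  haveI : IsMonHom (𝟙 B ^ (2 : ℤ)) := AVThetaLib.isMonHom_of_mul _ fun T x y => by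
    simp only [GrpObj.comp_zpow, Category.comp_id, mul_zpow]
  haveI := AVAmpleLib.isFinite_zpow B (two_ne_zero (α := ℤ))
  haveI := AVAmpleLib.flat_zpow B (two_ne_zero (α := ℤ))
  have e2 : lam ^ (2 * 1) = (𝟙 B ^ (2 : ℤ)) ≫ lam := by
    rw [show (2 : ℤ) = ((2 : ℕ) : ℤ) from rfl, zpow_natCast, monHom_pow, Category.id_comp]
  haveI : IsFinite (lam ^ (2 * 1)).left := by rw [e2, Over.comp_left]; infer_instance
  haveI : Flat (lam ^ (2 * 1)).left := by rw [e2, Over.comp_left]; infer_instance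
  rw [finrank_pullback_map (lam ^ (2 * 1)) t b, e2,
    AVIndexLib.finrank_comp_isogeny (𝟙 B ^ (2 : ℤ)) lam hg hg (dim_dual hB hg)
      ((η[B] : 𝟙_ (Over (Spec (CommRingCat.of k))) ⟶ B).left (IsLocalRing.closedPoint k)),
    AVAmpleLib.finrank_zpow B (two_ne_zero (α := ℤ)) hg, hdd] at h3
  have hχ : chi B (clA hM) = chi B' (clA hM') := by
    rw [chi_clA, chi_clA]
    letI : B.left.Over (Spec (CommRingCat.of k)) := ⟨B.hom⟩
    haveI : IsProper (B.left ↘ Spec (CommRingCat.of k)) := inferInstanceAs (IsProper B.hom)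
    exact (HilbPolyLib.euler_bc Ω (CurvLib.isCoh_of_isInvertible hM).1).symm
  rw [hχ]
  have hpos := RosatiLib.chi_pos hg' hMa'
  refine (pow_left_inj₀ hpos.le (by positivity) two_ne_zero).1 ?_
  rw [h3]
  push_cast
  norm_num
  ring

end TateThmLib

end
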