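import Groth.Agent.TateThmLib.SpanBC
import Groth.Agent.AVIndexLib.FieldExt
import Groth.Agent.AVIndexLib.Square
import Groth.Agent.CubeConsLib.Transpose
import Groth.Agent.AVAmpleLib.AmpleClosed
import Groth.Agent.GenusZeroLib.Zeros
import Groth.Agent.CurveAmpLib.Affine

/-!
Vanishing and sections of ample invertible modules on abelian varieties over any field.
-/

set_option autoImplicit false
set_option maxHeartbeats 1000000
set_option maxRecDepth 8000
set_option backward.isDefEq.respectTransparency false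
set_option linter.style.haveILetI false
set_option linter.unusedSectionVars false

noncomputable section

universe u

open CategoryTheory CategoryTheory.Limits MonoidalCategory CartesianMonoidalCategory MonObj AlgebraicGeometry
open CubeConsLib AVAmpleLib
open TwistLib (genSet)

namespace TateThmLib

/-- Vanishing for an ample module over an algebraically closed field. -/
theorem vanishing_closed {Ω : Type u} [Field Ω] [IsAlgClosed Ω] {A : Over (Spec (CommRingCat.of Ω))} [GrpObj A]
    [IsProper A.hom] [GeometricallyIntegral A.hom] {L : A.left.Modules} (hL : PicF.IsInvertible L) (hLa : CohB1.IsAmple L) :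
    (∀ j : ℕ, 0 < j → Subsingleton (Coh.HH A.left L j)) ∧ ¬ Subsingleton (Coh.HH A.left L 0) := by
  haveI : IsIntegral A.left := GeometricallyIntegral.isIntegral_of_subsingleton A.hom
  have hnd := AVAmpleLib.finite_translationFixing hL hLa
  obtain ⟨g, hg⟩ := AVAmpleLib.exists_dim A
  obtain ⟨i, j, -, hi, -, hvan, -⟩ := AVIndexLib.exists_index hL hg hnd (CubeConsLib.clA_dual hL)
  obtain ⟨n₀, hn₀⟩ := SerreVanLib.exists_vanishing A.hom hL hLa (Coh.structureModule A.left)
    (DevissLib.isCoh_structureModule _)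
  obtain rfl : i = 0 := by
    by_contra h0
    refine hi ((AVIndexLib.index_square hL hnd (n := n₀ + 1) (by omega) i).2 ?_)
    exact SerreVanLib.subsingleton_HH_of_iso (HilbPolyLib.unitLeft _).symm i
      (hn₀ _ (by nlinarith) i (Nat.pos_of_ne_zero h0))
  exact ⟨fun j hj => hvan j (by omega), hi⟩

variable {k : Type u} [Field k] {Z : Over (Spec (CommRingCat.of k))} [GrpObj Z] [IsProper Z.hom]
  [GeometricallyIntegral Z.hom] {L : Z.left.Modules}

/-- Vanishing for an ample module over any field. -/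
theorem vanishing (hL : PicF.IsInvertible L) (hLa : CohB1.IsAmple L) :
    (∀ j : ℕ, 0 < j → Subsingleton (Coh.HH Z.left L j)) ∧ ¬ Subsingleton (Coh.HH Z.left L 0) := by
  let Ω := AlgebraicClosure k
  letI : GrpObj ((bcF Ω).obj Z) := Functor.grpObjObj
  haveI : IsProper ((bcF Ω).obj Z).hom := inferInstanceAs (IsProper (pullback.snd Z.hom _))
  haveI : GeometricallyIntegral ((bcF Ω).obj Z).hom := inferInstanceAs (GeometricallyIntegral (pullback.snd Z.hom _))
  haveI : IsAffineHom (AVIndexLib.prBc (X := Z) Ω) :=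
    MorphismProperty.pullback_fst Z.hom (Spec.map (CommRingCat.ofHom (algebraMap k Ω))) inferInstance
  obtain ⟨h1, h0⟩ := vanishing_closed (A := (bcF Ω).obj Z)
    (AmpleDevLib.isInvertible_pb (AVIndexLib.prBc Ω) hL) (AmpleDevLib.isAmple_pb (AVIndexLib.prBc Ω) hL hLa)
  exact ⟨fun j hj => (AVIndexLib.subsingleton_HH_bc_iff Ω hL j).1 (h1 j hj),
    fun h => h0 ((AVIndexLib.subsingleton_HH_bc_iff Ω hL 0).2 h)⟩

theorem exists_section_ne_zero (hL : PicF.IsInvertible L) (hLa : CohB1.IsAmple L) : ∃ σ : Γ(L, ⊤), σ ≠ 0 := by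
  by_contra h
  push Not at h
  letI : Z.left.Over (Spec (CommRingCat.of k)) := ⟨Z.hom⟩
  haveI : Subsingleton Γ(L, ⊤) := ⟨fun a b => (h a).trans (h b).symm⟩
  letI := GenusZeroLib.kmod k L
  exact (vanishing hL hLa).2 (GenusZeroLib.e0k k L).injective.subsingleton

section Generated

attribute [local instance] VeryAmpleLib.bcOver

/-- A basis of the sections of the square of an ample module generates everywhere. -/
theorem exists_genAt_square (hL : PicF.IsInvertible L) (hLa : CohB1.IsAmple L) {m : ℕ}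
    (v : Fin m → Γ(CohB1.tensorPow L 2, ⊤))
    (hli : letI : Z.left.Over (Spec (CommRingCat.of k)) := ⟨Z.hom⟩
      letI := GenusZeroLib.kmod k (CohB1.tensorPow L 2); LinearIndependent k v)
    (hm : letI : Z.left.Over (Spec (CommRingCat.of k)) := ⟨Z.hom⟩
      m = Module.finrank k (Coh.HH Z.left (CohB1.tensorPow L 2) 0)) (x : Z.left) :
    ∃ l, x ∈ genSet (AmpleThLib.tensorPow_isInvertible hL 2) (v l) := by
  let Ω := AlgebraicClosure k
  letI : Z.left.Over (Spec (CommRingCat.of k)) := ⟨Z.hom⟩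
  haveI : IsProper (Z.left ↘ Spec (CommRingCat.of k)) := inferInstanceAs (IsProper Z.hom)
  letI : GrpObj ((bcF Ω).obj Z) := Functor.grpObjObj
  haveI : IsProper ((bcF Ω).obj Z).hom := inferInstanceAs (IsProper (pullback.snd Z.hom _))
  haveI : GeometricallyIntegral ((bcF Ω).obj Z).hom := inferInstanceAs (GeometricallyIntegral (pullback.snd Z.hom _))
  haveI : IsIntegral Z.left := GeometricallyIntegral.isIntegral_of_subsingleton Z.hom
  haveI : IsIntegral ((bcF Ω).obj Z).left :=
    GeometricallyIntegral.isIntegral_of_subsingleton ((bcF Ω).obj Z).hom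
  let Z' := Curv2.bc k Z.left Ω
  let g : Z' ⟶ Z.left := Curv2.bcFst k Z.left Ω
  haveI : IsIntegral Z' := inferInstanceAs (IsIntegral ((bcF Ω).obj Z).left)
  haveI : Surjective (Spec.map (CommRingCat.ofHom (algebraMap k Ω))) := inferInstance
  haveI : Surjective g := MorphismProperty.pullback_fst Z.hom (Spec.map (CommRingCat.ofHom (algebraMap k Ω))) ‹_›
  let M := CohB1.tensorPow L 2
  have hM : PicF.IsInvertible M := AmpleThLib.tensorPow_isInvertible hL 2
  have hMa : CohB1.IsAmple M := (AmpleThLib.isAmple_tensorPow_iff hL two_pos).1 hLa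
  obtain ⟨s, hs⟩ := exists_section_ne_zero hM hMa
  obtain ⟨σ, hσ⟩ := exists_section_ne_zero hL hLa
  let L' : Z'.Modules := KFlatLib.pb g L
  have hL' : PicF.IsInvertible L' := AmpleDevLib.isInvertible_pb g hL
  let σ' : Γ(L', ⊤) := KFlatLib.puSec g σ
  have hne : ((genSet hL' σ' : Z'.Opens) : Set Z').Nonempty := by
    rw [show genSet hL' σ' = g ⁻¹ᵁ genSet hL σ from AmpleDevLib.genSet_puSec g hL σ]
    obtain ⟨y, hy⟩ := g.surjective (genericPoint Z.left)
    exact ⟨y, show g y ∈ genSet hL σ from hy ▸ GenusZeroLib.genericPoint_mem_genSet hL hσ⟩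
  obtain ⟨y, rfl⟩ := g.surjective x
  obtain ⟨a, hy, τ, hτ⟩ := AVAmpleLib.exists_translated_locus (A := (bcF Ω).obj Z) hL' hne σ' rfl y
  have hN := AmpleDevLib.isInvertible_pb g hM
  obtain ⟨φ⟩ : Nonempty (CohB1.tensorMod L' L' ≅ KFlatLib.pb g M) := by
    rw [← clA_eq_iff (HilbPolyLib.isInvertible_tensor hL' hL') hN, clA_tensor hL' hL', ← pullA_clA g hM,
      show clA hM = 2 • clA hL from clA_pow hL 2, map_nsmul, pullA_clA g hL, two_nsmul]
  obtain ⟨c, hc⟩ := span_bc (K := Ω) hM v hli hm s hs (CurveAmpLib.isAffineOpen_genSet Z.hom hM hMa s)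
    (φ.hom.app ⊤ τ)
  have hyt : y ∈ genSet hN (φ.hom.app ⊤ τ) := by
    rw [AmpleThLib.genSet_iso (AmpleThLib.shT_isInvertible hL' hL') hN φ τ, hτ]
    exact hy
  obtain ⟨l, hl⟩ := TwistLib.exists_genAt_of_generatedBy hN
    (fun l => (show Γ(KFlatLib.pb g M, ⊤) from KFlatLib.puSec g (v l))) y (by
      rw [eq_top_iff]
      rintro z -
      obtain ⟨d, rfl⟩ := (show AmpleLib.GenAt (KFlatLib.pb g M) (φ.hom.app ⊤ τ) _ from hyt).2 z
      dsimp only
      refine Submodule.smul_mem _ d ?_
      rw [hc]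
      refine (map_sum ((KFlatLib.pb g M).presheaf.germ ⊤ y trivial).hom _ (Finset.univ : Finset (Fin m))).symm ▸
        Submodule.sum_mem _ fun l _ => ?_
      exact (AmpleLib.germ_smul _ (GenusZeroLib.ρ (X := Z') Ω (c l)) _ trivial).symm ▸
        Submodule.smul_mem _ _ (Submodule.subset_span ⟨l, rfl⟩))
  refine ⟨l, ?_⟩
  have : y ∈ genSet hN (KFlatLib.puSec g (v l)) := hl
  rwa [AmpleDevLib.genSet_puSec g hM (v l)] at this

end Generated

end TateThmLib

end
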