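import Groth.Agent.TateThmLib.ChartFinite
import Groth.Agent.TateThmLib.GenSections
import Groth.Agent.AVRRLib.RR
import Groth.Agent.AmpleDevLib.Components

/-!
Over a finite field there are finitely many abelian varieties with an ample module of given dimension and Euler
characteristic.
-/

set_option autoImplicit false
set_option maxHeartbeats 1000000
set_option maxRecDepth 8000
set_option backward.isDefEq.respectTransparency false
set_option linter.style.haveILetI false
set_option linter.unusedSectionVars false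

noncomputable section

universe u

open CategoryTheory CategoryTheory.Limits MonoidalCategory CartesianMonoidalCategory MonObj AlgebraicGeometry
open CubeConsLib AVAmpleLib
open TwistLib (genSet)

namespace TateThmLib

theorem ChartData.sec_finrank {k : Type u} [Field k] {J : Type} [DecidableEq J] (D : ChartData k J) (i₀ : J) (e : ℕ)
    (hfin : letI := Module.compHom Γ(CohB1.tensorPow D.M e, ⊤) D.cst; Module.Finite k Γ(CohB1.tensorPow D.M e, ⊤)) :
    FiniteDimensional k (D.sec i₀ e ∅) ∧ Module.finrank k (D.sec i₀ e ∅) =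
      (letI := Module.compHom Γ(CohB1.tensorPow D.M e, ⊤) D.cst; Module.finrank k Γ(CohB1.tensorPow D.M e, ⊤)) := by
  letI := Module.compHom Γ(CohB1.tensorPow D.M e, ⊤) D.cst
  haveI := hfin
  let φ : Γ(CohB1.tensorPow D.M e, ⊤) →ₗ[k] D.K :=
    { toFun := D.val i₀ e (W := ⊤) trivial
      map_add' := map_add _
      map_smul' := fun c s => (D.val_smul i₀ e (W := ⊤) trivial (D.cst c) s).trans (Algebra.smul_def c _).symm }
  have hrange : LinearMap.range φ = D.sec i₀ e ∅ := by
    ext x
    refine ⟨fun ⟨y, hy⟩ => ?_, fun ⟨y, hy⟩ => ?_⟩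
    · obtain ⟨y', hy'⟩ := D.sec_congr i₀ e (show (⊤ : D.X.Opens) = D.V ∅ from Finset.inf_empty.symm) trivial
        (D.eta_memV ∅) y
      exact ⟨y', hy'.trans hy⟩
    · obtain ⟨y', hy'⟩ := D.sec_congr i₀ e (show D.V ∅ = (⊤ : D.X.Opens) from Finset.inf_empty) (D.eta_memV ∅)
        trivial y
      exact ⟨y', hy'.trans hy⟩
  rw [← hrange]
  exact ⟨inferInstance, (LinearEquiv.ofInjective φ (D.val_injective i₀ e (W := ⊤) trivial)).finrank_eq.symm⟩

variable {k : Type u} [Field k] {Z : Over (Spec (CommRingCat.of k))} [GrpObj Z] [IsProper Z.hom]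
  [GeometricallyIntegral Z.hom] {L : Z.left.Modules}

local instance overZ : Z.left.Over (Spec (CommRingCat.of k)) := ⟨Z.hom⟩

local instance properZ : IsProper (Z.left ↘ Spec (CommRingCat.of k)) := inferInstanceAs (IsProper Z.hom)

local instance intZ : IsIntegral Z.left := GeometricallyIntegral.isIntegral_of_subsingleton Z.hom

theorem finite_sections {M : Z.left.Modules} (hM : PicF.IsInvertible M) :
    letI := GenusZeroLib.kmod k M; Module.Finite k Γ(M, ⊤) := by
  letI := GenusZeroLib.kmod k M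
  haveI := CurvLib.finite_HH (k := k) (X := Z.left) (CurvLib.isCoh_of_isInvertible hM) 0
  exact Module.Finite.equiv (GenusZeroLib.e0k k M)

theorem finrank_sections {g : ℕ} (hg : topologicalKrullDim Z.left = (g : ℕ)) (hL : PicF.IsInvertible L)
    (hLa : CohB1.IsAmple L) {M : Z.left.Modules} (hM : PicF.IsInvertible M) {e : ℕ} (he : 0 < e)
    (hc : clA hM = (e : ℤ) • clA hL) :
    (Module.finrank k (Coh.HH Z.left M 0) : ℚ) = (e : ℚ) ^ g * (chi Z (clA hL) : ℚ) := by
  have hMa : CohB1.IsAmple M := by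
    obtain ⟨φ⟩ := (clA_eq_iff (AmpleThLib.tensorPow_isInvertible hL e) hM).1 (by rw [clA_pow hL e, hc, natCast_zsmul])
    exact AmpleDevLib.isAmple_of_iso (AmpleThLib.tensorPow_isInvertible hL e) hM φ ((AmpleThLib.isAmple_tensorPow_iff hL he).1 hLa)
  have h := CurvLib.euler_eq_finrank (k := k) fun n hn => (vanishing hM hMa).1 n hn
  have h2 : (chi Z (clA hM) : ℤ) = (Module.finrank k (Coh.HH Z.left M 0) : ℤ) := (chi_clA Z hM).trans h
  rw [hc] at h2
  have h3 := AVRRLib.chi_zsmul hg hL (e : ℤ)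
  rw [h2] at h3
  push_cast at h3
  exact h3

variable {m : ℕ} [NeZero m] (hL : PicF.IsInvertible L) (hLa : CohB1.IsAmple L)
  (v : Fin m → Γ(CohB1.tensorPow L 2, ⊤))
  (hli : letI := GenusZeroLib.kmod k (CohB1.tensorPow L 2); LinearIndependent k v)
  (hm : m = Module.finrank k (Coh.HH Z.left (CohB1.tensorPow L 2) 0))

include hL hLa hli hm in
/-- The chart datum of a basis of sections of the square. -/
theorem exists_chartData :
    ∃ D : ChartData k (Fin m), ∃ h : D.X = Z.left, h ▸ D.cst = GenusZeroLib.ρ k ∧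
      (∀ e p, 1 ≤ e → Subsingleton (Coh.HH D.X (CohB1.tensorPow D.M e) (p + 1))) ∧
      ∀ e, 1 ≤ e → FiniteDimensional k (D.sec 0 e ∅) ∧
        Module.finrank k (D.sec 0 e ∅) = Module.finrank k (Coh.HH Z.left (CohB1.tensorPow (CohB1.tensorPow L 2) e) 0) := by
  letI := GenusZeroLib.kmod k (CohB1.tensorPow L 2)
  have hM := AmpleThLib.tensorPow_isInvertible hL 2
  have hMa : CohB1.IsAmple (CohB1.tensorPow L 2) := (AmpleThLib.isAmple_tensorPow_iff hL two_pos).1 hLa
  haveI : Z.left.IsSeparated := ⟨by rw [← Limits.terminal.comp_from Z.hom]; infer_instance⟩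
  have hne : ∀ l, v l ≠ 0 := fun l => hli.ne_zero l
  let D : ChartData k (Fin m) :=
    { X := Z.left
      cst := GenusZeroLib.ρ k
      M := CohB1.tensorPow L 2
      inv := hM
      σ := v
      gen := fun l => GenusZeroLib.genericPoint_mem_genSet hM (hne l)
      aff := fun l => CurveAmpLib.isAffineOpen_genSet Z.hom hM hMa (v l)
      cover := exists_genAt_square hL hLa v hli hm }
  refine ⟨D, rfl, rfl, fun e p he => ?_, fun e he => ?_⟩
  · exact (vanishing (AmpleThLib.tensorPow_isInvertible hM e)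
      ((AmpleThLib.isAmple_tensorPow_iff hM he).1 hMa)).1 (p + 1) (Nat.succ_pos p)
  · obtain ⟨h1, h2⟩ := D.sec_finrank 0 e (finite_sections (Z := Z) (AmpleThLib.tensorPow_isInvertible hM e))
    letI := GenusZeroLib.kmod k (CohB1.tensorPow (CohB1.tensorPow L 2) e)
    exact ⟨h1, h2.trans (GenusZeroLib.e0k k (CohB1.tensorPow (CohB1.tensorPow L 2) e)).finrank_eq.symm⟩

theorem over_iso_of_chart {J : Type} {Z' : Over (Spec (CommRingCat.of k))} [GrpObj Z'] [IsProper Z'.hom]
    [GeometricallyIntegral Z'.hom] (D D' : ChartData k J) (h : D.X = Z.left) (h' : D'.X = Z'.left)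
    (hc : h ▸ D.cst = GenusZeroLib.ρ k) (hc' : h' ▸ D'.cst = GenusZeroLib.ρ k) (e : D.X ≅ D'.X)
    (he : ∀ c, e.hom.appTop (D'.cst c) = D.cst c) : Nonempty (Z ≅ Z') := by
  obtain ⟨X, cst, M, inv, σ, gen, aff, cover⟩ := D
  obtain ⟨X', cst', M', inv', σ', gen', aff', cover'⟩ := D'
  dsimp only at h h'
  subst h h'
  dsimp only at hc hc' he e
  subst hc hc'
  refine ⟨Over.isoMk e (ext_of_isAffine ?_)⟩
  rw [← cancel_epi (Scheme.ΓSpecIso (CommRingCat.of k)).inv]
  exact CommRingCat.hom_ext (RingHom.ext fun c => he c)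

theorem clA_square {M : Z.left.Modules} (hL : PicF.IsInvertible L) (hM : PicF.IsInvertible M) (hM2 : M = CohB1.tensorPow L 2) :
    clA hM = ((2 : ℕ) : ℤ) • clA hL := by
  subst hM2
  rw [natCast_zsmul]
  exact clA_pow hL 2

/-- Over a finite field there are finitely many abelian varieties of given dimension with an ample module of given
Euler characteristic, up to isomorphism of varieties. -/
theorem exists_iso_of_bounded [Finite k] {I : Type u} [Infinite I] (Z : I → Over (Spec (CommRingCat.of k)))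
    [∀ i, GrpObj (Z i)] [∀ i, IsProper (Z i).hom] [∀ i, GeometricallyIntegral (Z i).hom] [∀ i, IsIntegral (Z i).left]
    {g : ℕ} (hg : ∀ i, topologicalKrullDim (Z i).left = (g : ℕ))
    (L : ∀ i, (Z i).left.Modules) (hL : ∀ i, PicF.IsInvertible (L i)) (hLa : ∀ i, CohB1.IsAmple (L i))
    (c : ℤ) (hc : ∀ i, chi (Z i) (clA (hL i)) = c) : ∃ i i', i ≠ i' ∧ Nonempty (Z i ≅ Z i') := by
  have h2 : ∀ i, (Module.finrank k (Coh.HH (Z i).left (CohB1.tensorPow (L i) 2) 0) : ℚ) = (2 : ℚ) ^ g * c := fun i => by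
    rw [finrank_sections (hg i) (hL i) (hLa i) (AmpleThLib.tensorPow_isInvertible (hL i) 2) two_pos
      (clA_square (hL i) _ rfl), hc i]
    norm_num
  obtain ⟨i₁⟩ : Nonempty I := inferInstance
  let m := Module.finrank k (Coh.HH (Z i₁).left (CohB1.tensorPow (L i₁) 2) 0)
  have hm : ∀ i, m = Module.finrank k (Coh.HH (Z i).left (CohB1.tensorPow (L i) 2) 0) := fun i => by
    exact_mod_cast (h2 i₁).trans (h2 i).symm
  haveI : NeZero m := ⟨fun h0 => by
    haveI := CurvLib.finite_HH (k := k) (X := (Z i₁).left)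
      (CurvLib.isCoh_of_isInvertible (AmpleThLib.tensorPow_isInvertible (hL i₁) 2)) 0
    exact (vanishing (AmpleThLib.tensorPow_isInvertible (hL i₁) 2)
      ((AmpleThLib.isAmple_tensorPow_iff (hL i₁) two_pos).1 (hLa i₁))).2 (Module.finrank_zero_iff.1 h0)⟩
  have hbasis : ∀ i, ∃ v : Fin m → Γ(CohB1.tensorPow (L i) 2, ⊤),
      letI := GenusZeroLib.kmod k (CohB1.tensorPow (L i) 2); LinearIndependent k v := fun i => by
    letI := GenusZeroLib.kmod k (CohB1.tensorPow (L i) 2)
    haveI := finite_sections (Z := Z i) (AmpleThLib.tensorPow_isInvertible (hL i) 2)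
    exact ⟨_, (Module.finBasisOfFinrankEq k Γ(CohB1.tensorPow (L i) 2, ⊤)
      ((GenusZeroLib.e0k k (CohB1.tensorPow (L i) 2)).finrank_eq.symm.trans (hm i).symm)).linearIndependent⟩
  choose v hv using hbasis
  choose D hDX hcst hvan hsec using fun i => exists_chartData (hL i) (hLa i) (v i) (hv i) (hm i)
  obtain ⟨i, i', hne, e, he⟩ := exists_chart_iso (0 : Fin m) D hvan
    (fun e => Module.finrank k (Coh.HH (Z i₁).left (CohB1.tensorPow (CohB1.tensorPow (L i₁) 2) e) 0))
    (fun i e he => (hsec i e (by omega)).1) fun i e he => by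
      rw [(hsec i e (by omega)).2]
      have h4 : ∀ i, (Module.finrank k (Coh.HH (Z i).left (CohB1.tensorPow (CohB1.tensorPow (L i) 2) e) 0) : ℚ) =
          ((e * 2 : ℕ) : ℚ) ^ g * c := fun i => by
        rw [finrank_sections (hg i) (hL i) (hLa i)
          (AmpleThLib.tensorPow_isInvertible (AmpleThLib.tensorPow_isInvertible (hL i) 2) e) (e := e * 2) (by omega)
          (by rw [clA_pow (AmpleThLib.tensorPow_isInvertible (hL i) 2) e, clA_pow (hL i) 2, smul_smul, natCast_zsmul]), hc i]
      exact_mod_cast (h4 i).trans (h4 i₁).symm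
  exact ⟨i, i', hne, over_iso_of_chart (D i) (D i') (hDX i) (hDX i') (hcst i) (hcst i') e he⟩

end TateThmLib

end
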