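import Mathlib.LinearAlgebra.Eigenspace.Semisimple
import Mathlib.LinearAlgebra.Matrix.Charpoly.LinearMap
import Mathlib.LinearAlgebra.Matrix.Charpoly.Coeff
import Mathlib.RingTheory.Polynomial.UniqueFactorization
import Mathlib.FieldTheory.Separable
import Mathlib.FieldTheory.IsAlgClosed.Basic
import Mathlib.FieldTheory.IsAlgClosed.AlgebraicClosure
import Mathlib.LinearAlgebra.Charpoly.ToMatrix
import Mathlib.Algebra.MvPolynomial.Funext

/-!
Intertwiners of two diagonalisable matrices, and their invariance under extension of the field.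
-/

set_option autoImplicit false
set_option linter.unusedSectionVars false

noncomputable section

open Polynomial Matrix

namespace TateThmLib

variable {K : Type*} [Field K] {m n : Type*} [Fintype m] [Fintype n] [DecidableEq m] [DecidableEq n]

/-- The intertwiners. -/
def kerI (A : Matrix m m K) (B : Matrix n n K) : Submodule K (Matrix n m K) where
  carrier := {X | X * A = B * X}
  add_mem' {X Y} hX hY := by
    show (X + Y) * A = B * (X + Y)
    rw [Matrix.add_mul, Matrix.mul_add, show X * A = B * X from hX, show Y * A = B * Y from hY]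
  zero_mem' := by show (0 : Matrix n m K) * A = B * 0; simp
  smul_mem' c X hX := by
    show (c • X) * A = B * (c • X)
    rw [Matrix.smul_mul, Matrix.mul_smul, show X * A = B * X from hX]

theorem mem_kerI {A : Matrix m m K} {B : Matrix n n K} {X : Matrix n m K} : X ∈ kerI A B ↔ X * A = B * X := Iff.rfl

variable {L : Type*} [Field L] [Algebra K L]

theorem map_apply_mul (φ : L →ₗ[K] K) {p q r : Type*} [Fintype q] (X : Matrix p q L) (A : Matrix q r K) :
    (X * A.map (algebraMap K L)).map φ = X.map φ * A := by
  ext i j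
  simp only [Matrix.map_apply, Matrix.mul_apply, map_sum]
  refine Finset.sum_congr rfl fun t _ => ?_
  rw [mul_comm, ← Algebra.smul_def, map_smul, smul_eq_mul, mul_comm]

theorem map_mul_apply (φ : L →ₗ[K] K) {p q r : Type*} [Fintype q] (A : Matrix p q K) (X : Matrix q r L) :
    (A.map (algebraMap K L) * X).map φ = A * X.map φ := by
  ext i j
  simp only [Matrix.map_apply, Matrix.mul_apply, map_sum]
  refine Finset.sum_congr rfl fun t _ => ?_
  rw [← Algebra.smul_def, map_smul, smul_eq_mul]

theorem linearIndependent_map {ι : Type*} {v : ι → Matrix n m K} (hv : LinearIndependent K v) :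
    LinearIndependent L fun i => (v i).map (algebraMap K L) := by
  classical
  rw [linearIndependent_iff']
  intro s c hc i hi
  let b := Module.Basis.ofVectorSpace K L
  refine b.ext_elem fun j => ?_
  rw [map_zero, Finsupp.zero_apply]
  refine linearIndependent_iff'.1 hv s (fun t => b.repr (c t) j) ?_ i hi
  ext p q
  have := congrArg (fun X : Matrix n m L => b.repr (X p q) j) hc
  simp only [Matrix.sum_apply, Matrix.smul_apply, Matrix.map_apply, smul_eq_mul, map_sum, Finsupp.coe_finset_sum,
    Finset.sum_apply, Matrix.zero_apply, map_zero, Finsupp.zero_apply] at this ⊢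
  refine (Finset.sum_congr rfl fun t _ => ?_).trans this
  rw [mul_comm (c t), ← Algebra.smul_def, map_smul, Finsupp.smul_apply, smul_eq_mul, mul_comm]

/-- Intertwiners over an extension come from the ground field. -/
theorem kerI_map_eq_span (A : Matrix m m K) (B : Matrix n n K) :
    kerI (A.map (algebraMap K L)) (B.map (algebraMap K L)) =
      Submodule.span L ((fun X : Matrix n m K => X.map (algebraMap K L)) '' (kerI A B : Set (Matrix n m K))) := by
  classical
  refine le_antisymm (fun X hX => ?_) (Submodule.span_le.2 ?_)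
  · let b := Module.Basis.ofVectorSpace K L
    let s := Finset.univ.biUnion fun pq : n × m => (b.repr (X pq.1 pq.2)).support
    have hX' : X = ∑ j ∈ s, b j • ((X.map (b.coord j)).map (algebraMap K L)) := by
      ext p q
      simp only [Matrix.sum_apply, Matrix.smul_apply, Matrix.map_apply, smul_eq_mul, Module.Basis.coord_apply]
      conv_lhs => rw [← b.linearCombination_repr (X p q)]
      rw [Finsupp.linearCombination_apply]
      have hsub : (b.repr (X p q)).support ⊆ s :=
        Finset.subset_biUnion_of_mem (fun pq : n × m => (b.repr (X pq.1 pq.2)).support) (Finset.mem_univ (p, q))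
      refine (Finsupp.sum_of_support_subset _ hsub _ (fun j _ => zero_smul K (b j))).trans ?_
      exact Finset.sum_congr rfl fun j _ => by rw [Algebra.smul_def, mul_comm]
    rw [hX']
    refine Submodule.sum_mem _ fun j _ => Submodule.smul_mem _ _ (Submodule.subset_span ⟨_, ?_, rfl⟩)
    rw [SetLike.mem_coe, mem_kerI, ← map_apply_mul (b.coord j) X A, mem_kerI.1 hX, map_mul_apply]
  · rintro _ ⟨X, hX, rfl⟩
    rw [SetLike.mem_coe, mem_kerI, ← Matrix.map_mul, ← Matrix.map_mul, mem_kerI.1 hX]

theorem finrank_kerI_map (A : Matrix m m K) (B : Matrix n n K) :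
    Module.finrank L (kerI (A.map (algebraMap K L)) (B.map (algebraMap K L))) = Module.finrank K (kerI A B) := by
  let b := Module.finBasis K (kerI A B)
  have hli : LinearIndependent L fun i => ((b i : Matrix n m K)).map (algebraMap K L) :=
    linearIndependent_map (b.linearIndependent.map' (kerI A B).subtype (Submodule.ker_subtype _))
  have e : kerI (A.map (algebraMap K L)) (B.map (algebraMap K L)) =
      Submodule.span L (Set.range fun i => ((b i : Matrix n m K)).map (algebraMap K L)) := by
    rw [kerI_map_eq_span]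
    refine le_antisymm (Submodule.span_le.2 ?_) (Submodule.span_mono ?_)
    · rintro _ ⟨X, hX, rfl⟩
      have hs := b.sum_repr ⟨X, hX⟩
      have hs' : X = ∑ i, b.repr ⟨X, hX⟩ i • (b i : Matrix n m K) := by
        have := congrArg Subtype.val hs
        simp only [AddSubmonoidClass.coe_finsetSum, SetLike.val_smul] at this
        exact this.symm
      have : X.map (algebraMap K L) = ∑ i, algebraMap K L (b.repr ⟨X, hX⟩ i) • ((b i : Matrix n m K)).map (algebraMap K L) := by
        conv_lhs => rw [hs']
        ext p q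
        simp [Matrix.sum_apply, Algebra.smul_def]
      show X.map (algebraMap K L) ∈ Submodule.span L _
      rw [this]
      exact Submodule.sum_mem _ fun i _ => Submodule.smul_mem _ _ (Submodule.subset_span ⟨i, rfl⟩)
    · rintro _ ⟨i, rfl⟩
      exact ⟨_, (b i).2, rfl⟩
  rw [e, finrank_span_eq_card hli, Fintype.card_fin]

/-- Diagonal intertwiners. -/
theorem finrank_kerI_diagonal [DecidableEq K] (a : m → K) (b : n → K) :
    Module.finrank K (kerI (diagonal a) (diagonal b)) =
      ((Finset.univ : Finset (n × m)).filter fun p => b p.1 = a p.2).card := by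
  let S := {p : n × m // b p.1 = a p.2}
  let e : kerI (diagonal a) (diagonal b) ≃ₗ[K] (S → K) :=
    { toFun := fun X s => X.1 s.1.1 s.1.2
      map_add' := fun X Y => rfl
      map_smul' := fun c X => rfl
      invFun := fun v => ⟨Matrix.of fun i j => if h : b i = a j then v ⟨(i, j), h⟩ else 0, by
        rw [mem_kerI]
        ext i j
        rw [Matrix.mul_diagonal, Matrix.diagonal_mul, Matrix.of_apply]
        by_cases h : b i = a j
        · rw [dif_pos h, h, mul_comm]
        · rw [dif_neg h, zero_mul, mul_zero]⟩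
      left_inv := fun X => by
        refine Subtype.ext (Matrix.ext fun i j => ?_)
        show (Matrix.of fun i j => if h : b i = a j then X.1 i j else 0) i j = X.1 i j
        rw [Matrix.of_apply]
        by_cases h : b i = a j
        · rw [dif_pos h]
        · rw [dif_neg h]
          have := congrFun (congrFun (mem_kerI.1 X.2) i) j
          rw [Matrix.mul_diagonal, Matrix.diagonal_mul, mul_comm, ← sub_eq_zero, ← sub_mul, mul_eq_zero] at this
          exact (this.resolve_left (sub_ne_zero.2 (Ne.symm h))).symm
      right_inv := fun v => funext fun s => by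
        show (Matrix.of fun i j => if h : b i = a j then v ⟨(i, j), h⟩ else 0) s.1.1 s.1.2 = v s
        rw [Matrix.of_apply, dif_pos s.2] }
  rw [e.finrank_eq, Module.finrank_fintype_fun_eq_card, Fintype.card_subtype]

theorem finrank_kerI_conj (P : (Matrix m m K)ˣ) (Q : (Matrix n n K)ˣ) (A : Matrix m m K) (B : Matrix n n K) :
    Module.finrank K (kerI (P.1 * A * (P⁻¹).1) (Q.1 * B * (Q⁻¹).1)) = Module.finrank K (kerI A B) := by
  let e : Matrix n m K ≃ₗ[K] Matrix n m K :=
    { toFun := fun X => Q.1 * X * (P⁻¹).1
      map_add' := fun X Y => by rw [Matrix.mul_add, Matrix.add_mul]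
      map_smul' := fun c X => by simp
      invFun := fun X => (Q⁻¹).1 * X * P.1
      left_inv := fun X => by
        show (Q⁻¹).1 * (Q.1 * X * (P⁻¹).1) * P.1 = X
        rw [← Matrix.mul_assoc, ← Matrix.mul_assoc, Q.inv_mul, Matrix.one_mul, Matrix.mul_assoc, P.inv_mul, Matrix.mul_one]
      right_inv := fun X => by
        show Q.1 * ((Q⁻¹).1 * X * P.1) * (P⁻¹).1 = X
        rw [← Matrix.mul_assoc, ← Matrix.mul_assoc, Q.mul_inv, Matrix.one_mul, Matrix.mul_assoc, P.mul_inv, Matrix.mul_one] }
  have he : (kerI A B).map e.toLinearMap = kerI (P.1 * A * (P⁻¹).1) (Q.1 * B * (Q⁻¹).1) := by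
    refine le_antisymm ?_ fun Y hY => ⟨e.symm Y, ?_, e.apply_symm_apply Y⟩
    · rintro _ ⟨X, hX, rfl⟩
      show Q.1 * X * (P⁻¹).1 * (P.1 * A * (P⁻¹).1) = Q.1 * B * (Q⁻¹).1 * (Q.1 * X * (P⁻¹).1)
      calc Q.1 * X * (P⁻¹).1 * (P.1 * A * (P⁻¹).1) = Q.1 * (X * ((P⁻¹).1 * P.1) * A) * (P⁻¹).1 := by simp only [Matrix.mul_assoc]
        _ = Q.1 * (B * (((Q⁻¹).1 * Q.1) * X)) * (P⁻¹).1 := by
          rw [P.inv_mul, Q.inv_mul, Matrix.mul_one, Matrix.one_mul, mem_kerI.1 hX]
        _ = _ := by simp only [Matrix.mul_assoc]
    · show (Q⁻¹).1 * Y * P.1 * A = B * ((Q⁻¹).1 * Y * P.1)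
      calc (Q⁻¹).1 * Y * P.1 * A = (Q⁻¹).1 * (Y * (P.1 * A * (P⁻¹).1)) * P.1 := by
            simp only [Matrix.mul_assoc, P.inv_mul, Matrix.mul_one]
        _ = (Q⁻¹).1 * (Q.1 * B * (Q⁻¹).1 * Y) * P.1 := by rw [mem_kerI.1 hY]
        _ = ((Q⁻¹).1 * Q.1) * (B * ((Q⁻¹).1 * Y * P.1)) := by simp only [Matrix.mul_assoc]
        _ = _ := by rw [Q.inv_mul, Matrix.one_mul]
  rw [← he, LinearEquiv.finrank_map_eq]

variable [IsAlgClosed L]

/-- A matrix killed by a separable polynomial is diagonalisable over an algebraic closure. -/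
theorem exists_diagonalize (A : Matrix m m K) {q : K[X]} (hq : q.Separable) (hA : aeval A q = 0) :
    ∃ (P : (Matrix m m L)ˣ) (a : m → L), A.map (algebraMap K L) = P.1 * diagonal a * (P⁻¹).1 ∧
      (A.charpoly.map (algebraMap K L)).roots = Finset.univ.val.map a := by
  classical
  let f : Module.End L (m → L) := Matrix.toLinAlgEquiv' (A.map (algebraMap K L))
  have hf : f.IsSemisimple := Module.End.isSemisimple_of_squarefree_aeval_eq_zero (p := q.map (algebraMap K L))
    hq.map.squarefree (by
      show aeval (Matrix.toLinAlgEquiv' (A.map (algebraMap K L))) _ = 0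
      rw [aeval_algEquiv, AlgHom.comp_apply, aeval_map_algebraMap,
        show A.map (algebraMap K L) = (Algebra.ofId K L).mapMatrix A from rfl, aeval_algHom_apply, hA, map_zero, map_zero])
  have hint : DirectSum.IsInternal fun μ : L => f.eigenspace μ :=
    DirectSum.isInternal_submodule_iff_iSupIndep_and_iSup_eq_top _ |>.2
      ⟨f.eigenspaces_iSupIndep, hf.iSup_eigenspace_eq_top⟩
  let b₀ := hint.collectedBasis fun μ => Module.finBasis L (f.eigenspace μ)
  haveI : Fintype (Σ μ : L, Fin (Module.finrank L (f.eigenspace μ))) := FiniteDimensional.fintypeBasisIndex b₀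
  let e := b₀.indexEquiv (Pi.basisFun L m)
  let b := b₀.reindex e
  let a : m → L := fun i => (e.symm i).1
  have hb : ∀ i, f (b i) = a i • b i := fun i => by
    have h := hint.collectedBasis_mem (fun μ => Module.finBasis L (f.eigenspace μ)) (e.symm i)
    rw [Module.End.mem_eigenspace_iff] at h
    rwa [Module.Basis.reindex_apply]
  let P : (Matrix m m L)ˣ := ⟨(Pi.basisFun L m).toMatrix b, b.toMatrix (Pi.basisFun L m),
    (Pi.basisFun L m).toMatrix_mul_toMatrix_flip b, b.toMatrix_mul_toMatrix_flip (Pi.basisFun L m)⟩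
  have hP : A.map (algebraMap K L) = P.1 * diagonal a * (P⁻¹).1 := by
    have h1 : LinearMap.toMatrix b b f = diagonal a := by
      ext i j
      rw [LinearMap.toMatrix_apply, hb, map_smul, Module.Basis.repr_self, Finsupp.smul_apply, Finsupp.single_apply,
        Matrix.diagonal_apply]
      by_cases h : j = i
      · subst h; simp
      · rw [if_neg h, if_neg (Ne.symm h), smul_zero]
    have h2 : LinearMap.toMatrix (Pi.basisFun L m) (Pi.basisFun L m) f = A.map (algebraMap K L) := by
      rw [LinearMap.toMatrix_eq_toMatrix']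
      exact LinearMap.toMatrix'_toLin' _
    rw [← h2, ← h1, ← basis_toMatrix_mul_linearMap_toMatrix_mul_basis_toMatrix (Pi.basisFun L m) b (Pi.basisFun L m) b f]
    rfl
  refine ⟨P, a, hP, ?_⟩
  rw [← Matrix.charpoly_map, hP, Matrix.coe_units_inv, Matrix.charpoly_units_conj, Matrix.charpoly_diagonal,
    Finset.prod_eq_multiset_prod]
  exact (congrArg (fun t : Multiset L[X] => t.prod.roots) (Multiset.map_map (fun x => X - C x) a _).symm).trans
    (Polynomial.roots_multiset_prod_X_sub_C _)

/-- The dimension of the space of intertwiners. -/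
theorem finrank_kerI_eq [DecidableEq L] (A : Matrix m m K) (B : Matrix n n K) {qA qB : K[X]} (hA : qA.Separable)
    (hA0 : aeval A qA = 0) (hB : qB.Separable) (hB0 : aeval B qB = 0) :
    Module.finrank K (kerI A B) =
      ((A.charpoly.map (algebraMap K L)).roots.map fun x => (B.charpoly.map (algebraMap K L)).roots.count x).sum := by
  obtain ⟨P, a, hP, ha⟩ := exists_diagonalize (L := L) A hA hA0
  obtain ⟨Q, b, hQ, hb⟩ := exists_diagonalize (L := L) B hB hB0
  rw [← finrank_kerI_map (L := L), hP, hQ, finrank_kerI_conj, finrank_kerI_diagonal, ha, hb, Multiset.map_map]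
  show _ = ∑ i, (Finset.univ.val.map b).count (a i)
  simp only [Multiset.count_map, eq_comm (a := a _)]
  rw [Finset.card_filter, Fintype.sum_prod_type_right]
  refine Finset.sum_congr rfl fun i _ => ?_
  rw [← Finset.card_filter]
  rfl

/-- Matrices with equal characteristic polynomials killed by separable polynomials are similar over the ground field. -/
theorem exists_kerI_det_ne_zero [Infinite K] (A B : Matrix n n K) {qA qB : K[X]} (hA : qA.Separable)
    (hA0 : aeval A qA = 0) (hB : qB.Separable) (hB0 : aeval B qB = 0) (h : A.charpoly = B.charpoly) :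
    ∃ X ∈ kerI A B, X.det ≠ 0 := by
  classical
  let L := AlgebraicClosure K
  obtain ⟨P, a, hP, ha⟩ := exists_diagonalize (L := L) A hA hA0
  obtain ⟨Q, b, hQ, hb⟩ := exists_diagonalize (L := L) B hB hB0
  rw [h, hb] at ha
  have hcard : ∀ x : L, Fintype.card {i // a i = x} = Fintype.card {i // b i = x} := fun x => by
    have := congrArg (Multiset.count x) ha
    rw [Multiset.count_map, Multiset.count_map] at this
    simp only [eq_comm (a := x)] at this
    rw [Fintype.card_subtype, Fintype.card_subtype]
    exact this.symm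
  let e : n ≃ n := ((Equiv.sigmaFiberEquiv a).symm.trans
    ((Equiv.sigmaCongrRight fun x => Fintype.equivOfCardEq (hcard x)).trans (Equiv.sigmaFiberEquiv b)))
  have he : ∀ i, b (e i) = a i := fun i => (Fintype.equivOfCardEq (hcard (a i)) ⟨i, rfl⟩).2
  let E : Matrix n n L := (1 : Matrix n n L).submatrix e.symm id
  have hE : E * diagonal a = diagonal b * E := by
    ext i j
    rw [Matrix.mul_diagonal, Matrix.diagonal_mul]
    simp only [E, Matrix.submatrix_apply, id_eq, Matrix.one_apply]
    by_cases hij : e.symm i = j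
    · rw [if_pos hij, ← hij, ← he (e.symm i), e.apply_symm_apply, one_mul, mul_one]
    · rw [if_neg hij, zero_mul, mul_zero]
  have hdetE : E.det ≠ 0 := by
    rcases Int.units_eq_one_or (Equiv.Perm.sign e.symm) with hs | hs <;> simp [E, Matrix.det_permute, hs]
  have hX : Q.1 * E * (P⁻¹).1 ∈ kerI (A.map (algebraMap K L)) (B.map (algebraMap K L)) := by
    rw [mem_kerI, hP, hQ]
    calc Q.1 * E * (P⁻¹).1 * (P.1 * diagonal a * (P⁻¹).1) = Q.1 * (E * (((P⁻¹).1 * P.1) * diagonal a)) * (P⁻¹).1 := by
          simp only [Matrix.mul_assoc]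
      _ = Q.1 * (diagonal b * (((Q⁻¹).1 * Q.1) * E)) * (P⁻¹).1 := by
          rw [P.inv_mul, Q.inv_mul, Matrix.one_mul, Matrix.one_mul, hE]
      _ = _ := by simp only [Matrix.mul_assoc]
  rw [kerI_map_eq_span, Submodule.mem_span_image_iff_exists_fun] at hX
  obtain ⟨t, ht, c, hc⟩ := hX
  let F : MvPolynomial t K := (∑ i : t, (MvPolynomial.X i : MvPolynomial t K) • (i.1.map MvPolynomial.C)).det
  have hev : ∀ {R : Type _} [CommRing R] [Algebra K R] (y : t → R),
      MvPolynomial.aeval y F = (∑ i : t, y i • i.1.map (algebraMap K R)).det := by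
    intro R _ _ y
    rw [show MvPolynomial.aeval y F = (MvPolynomial.aeval y).toRingHom F from rfl, RingHom.map_det]
    congr 1
    ext p q
    simp [Matrix.sum_apply]
  have hF : F ≠ 0 := fun h0 => by
    have := hev (R := L) c
    rw [h0, map_zero, hc, Matrix.det_mul, Matrix.det_mul, eq_comm, mul_eq_zero, mul_eq_zero] at this
    rcases this with (h1 | h1) | h1
    · exact (Q.isUnit.map Matrix.detMonoidHom).ne_zero h1
    · exact hdetE h1
    · exact ((P⁻¹).isUnit.map Matrix.detMonoidHom).ne_zero h1
  obtain ⟨y, hy⟩ : ∃ y : t → K, MvPolynomial.eval y F ≠ 0 := by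
    by_contra hall
    push_neg at hall
    exact hF (MvPolynomial.funext fun y => by rw [hall y, map_zero])
  refine ⟨∑ i : t, y i • i.1, Submodule.sum_mem _ fun i _ => Submodule.smul_mem _ _ (ht i.2), ?_⟩
  rw [← MvPolynomial.coe_aeval_eq_eval, RingHom.coe_coe, hev y] at hy
  simpa using hy

end TateThmLib

end
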