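import Mathlib.RingTheory.Polynomial.UniqueFactorization
import Mathlib.FieldTheory.Separable
import Mathlib.FieldTheory.IsAlgClosed.Basic
import Mathlib.FieldTheory.Perfect

/-!
Common roots of two polynomials counted through the irreducible factors.
-/

set_option autoImplicit false
set_option linter.unusedSectionVars false

noncomputable section

open Polynomial UniqueFactorizationMonoid

namespace TateThmLib

variable {F : Type*} [Field F] [PerfectField F] [DecidableEq F] {L : Type*} [Field L] [DecidableEq L] [IsAlgClosed L]
  (φ : F →+* L)

theorem monic_mem {q P : F[X]} (h : P ∈ normalizedFactors q) : P.Monic := by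
  rw [← normalize_normalized_factor P h]
  exact Polynomial.monic_normalize (irreducible_of_normalized_factor P h).ne_zero

theorem count_roots_factor {q : F[X]} (hq : q.Monic) {P : F[X]} (hP : P ∈ normalizedFactors q ∨ Irreducible P ∧ P.Monic)
    {x : L} (hx : x ∈ (P.map φ).roots) : (q.map φ).roots.count x = (normalizedFactors q).count P := by
  obtain ⟨hPi, hPm⟩ : Irreducible P ∧ P.Monic := hP.elim (fun h => ⟨irreducible_of_normalized_factor _ h,
    monic_mem h⟩) id
  have hprod : (normalizedFactors q).prod = q := by
    have h := prod_normalizedFactors hq.ne_zero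
    exact eq_of_monic_of_associated (by simpa using monic_multiset_prod_of_monic (normalizedFactors q) id fun _ ha => monic_mem ha) hq h
  conv_lhs => rw [← hprod]
  rw [Polynomial.map_multiset_prod, roots_multiset_prod _ (fun h0 => by
    obtain ⟨Q, hQ, hQ0⟩ := Multiset.mem_map.1 h0
    exact (monic_mem hQ).ne_zero ((Polynomial.map_eq_zero φ).1 hQ0)), Multiset.bind_map,
    Multiset.count_bind]
  have key : ∀ Q ∈ normalizedFactors q, (Q.map φ).roots.count x = if P = Q then 1 else 0 := fun Q hQ => by
    by_cases h : P = Q
    · subst h
      rw [if_pos rfl]
      refine Multiset.count_eq_one_of_mem ?_ hx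
      exact nodup_roots ((PerfectField.separable_of_irreducible hPi).map)
    · rw [if_neg h, Multiset.count_eq_zero]
      intro hxQ
      have hco : IsCoprime P Q := (hPi.coprime_iff_not_dvd).2 fun hd => h (eq_of_monic_of_associated hPm
        (monic_mem hQ) (hPi.associated_of_dvd (irreducible_of_normalized_factor _ hQ) hd))
      obtain ⟨a, b, hab⟩ := hco
      have := congrArg (fun r => (r.map φ).eval x) hab
      rw [mem_roots'] at hx hxQ
      simp [hx.2.eq_zero, hxQ.2.eq_zero] at this
  rw [Multiset.map_congr rfl key]
  generalize normalizedFactors q = s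
  induction s using Multiset.induction_on with
  | empty => simp
  | cons Q s ih => rw [Multiset.map_cons, Multiset.sum_cons, ih, Multiset.count_cons, add_comm]

theorem sum_roots_eq {p q : F[X]} (hp : p.Monic) (hq : q.Monic) :
    ((p.map φ).roots.map fun x => (q.map φ).roots.count x).sum =
      ∑ P ∈ (normalizedFactors p).toFinset,
        (normalizedFactors p).count P * (normalizedFactors q).count P * P.natDegree := by
  have hprod : (normalizedFactors p).prod = p := by
    have h := prod_normalizedFactors hp.ne_zero
    exact eq_of_monic_of_associated (by simpa using monic_multiset_prod_of_monic (normalizedFactors p) id fun _ ha => monic_mem ha) hp h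
  conv_lhs => rw [← hprod]
  rw [Polynomial.map_multiset_prod, roots_multiset_prod _ (fun h0 => by
    obtain ⟨Q, hQ, hQ0⟩ := Multiset.mem_map.1 h0
    exact (monic_mem hQ).ne_zero ((Polynomial.map_eq_zero φ).1 hQ0)), Multiset.bind_map,
    Multiset.map_bind, Multiset.sum_bind]
  rw [Multiset.map_congr rfl fun P hP => show ((P.map φ).roots.map fun x => (q.map φ).roots.count x).sum =
      (normalizedFactors q).count P * P.natDegree by
    rw [Multiset.map_congr rfl fun x hx => count_roots_factor φ hq
      (Or.inr ⟨irreducible_of_normalized_factor _ hP, monic_mem hP⟩) hx,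
      Multiset.map_const', Multiset.sum_replicate, IsAlgClosed.card_roots_map_eq_natDegree_from_simpleRing, smul_eq_mul, mul_comm]]
  rw [Finset.sum_multiset_map_count]
  exact Finset.sum_congr rfl fun P _ => by rw [smul_eq_mul, mul_assoc]

theorem card_eq_sum {p : F[X]} (hp : p.Monic) :
    p.natDegree = ∑ P ∈ (normalizedFactors p).toFinset, (normalizedFactors p).count P * P.natDegree := by
  have hprod : (normalizedFactors p).prod = p := by
    have h := prod_normalizedFactors hp.ne_zero
    exact eq_of_monic_of_associated (by simpa using monic_multiset_prod_of_monic (normalizedFactors p) id fun _ ha => monic_mem ha) hp h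
  conv_lhs => rw [← hprod]
  rw [natDegree_multiset_prod_of_monic _ fun a ha => monic_mem ha, Finset.sum_multiset_map_count]
  rfl

end TateThmLib

end
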