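import Groth.Agent.TateThmLib.GalFrob
import Groth.Agent.TateThmLib.Intertwine
import Groth.Agent.TateThmLib.RootCount
import Groth.Agent.AVAmpleLib.WeilRoots
import Groth.Agent.AVAmpleLib.BcTate

/-!
Homomorphisms of abelian varieties over a finite field as intertwiners of the Frobenius.
-/

set_option autoImplicit false
set_option maxHeartbeats 1000000
set_option maxRecDepth 8000
set_option backward.isDefEq.respectTransparency false
set_option linter.style.haveILetI false
set_option linter.unusedSectionVars false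

noncomputable section

universe u

open CategoryTheory CategoryTheory.Limits MonoidalCategory CartesianMonoidalCategory MonObj AlgebraicGeometry
open scoped TensorProduct
open Polynomial (aeval)

namespace TateThmLib

section LinAlg

variable {K V W : Type*} [Field K] [AddCommGroup V] [Module K V] [AddCommGroup W] [Module K W]

/-- The intertwiners of two endomorphisms. -/
def kerL (f : Module.End K V) (g : Module.End K W) : Submodule K (V →ₗ[K] W) where
  carrier := {φ | φ ∘ₗ f = g ∘ₗ φ}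
  add_mem' {φ ψ} hφ hψ := by
    show (φ + ψ) ∘ₗ f = g ∘ₗ (φ + ψ)
    rw [LinearMap.add_comp, LinearMap.comp_add, show φ ∘ₗ f = g ∘ₗ φ from hφ, show ψ ∘ₗ f = g ∘ₗ ψ from hψ]
  zero_mem' := by show (0 : V →ₗ[K] W) ∘ₗ f = g ∘ₗ 0; simp
  smul_mem' c φ hφ := by
    show (c • φ) ∘ₗ f = g ∘ₗ (c • φ)
    rw [LinearMap.smul_comp, LinearMap.comp_smul, show φ ∘ₗ f = g ∘ₗ φ from hφ]

theorem mem_kerL {f : Module.End K V} {g : Module.End K W} {φ : V →ₗ[K] W} : φ ∈ kerL f g ↔ φ ∘ₗ f = g ∘ₗ φ := Iff.rfl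

variable [FiniteDimensional K V] [FiniteDimensional K W]

theorem kerL_map_toMatrix {m n : Type*} [Fintype m] [Fintype n] [DecidableEq m] [DecidableEq n] (bV' : Module.Basis m K V)
    (bW : Module.Basis n K W) (f : Module.End K V) (g : Module.End K W) :
    (kerL f g).map (LinearMap.toMatrix bV' bW).toLinearMap = kerI (LinearMap.toMatrix bV' bV' f) (LinearMap.toMatrix bW bW g) := by
  ext X
  rw [Submodule.mem_map_equiv, mem_kerL, mem_kerI]
  set φ := (LinearMap.toMatrix bV' bW).symm X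
  rw [show X = LinearMap.toMatrix bV' bW φ from ((LinearMap.toMatrix bV' bW).apply_symm_apply X).symm,
    ← LinearMap.toMatrix_comp, ← LinearMap.toMatrix_comp]
  exact ⟨fun h => congrArg _ h, fun h => (LinearMap.toMatrix bV' bW).injective h⟩

theorem aeval_toMatrix {m : Type*} [Fintype m] [DecidableEq m] (b : Module.Basis m K V) (f : Module.End K V)
    {q : Polynomial K} (hq : aeval f q = 0) : aeval (LinearMap.toMatrix b b f) q = 0 := by
  rw [show LinearMap.toMatrix b b f = LinearMap.toMatrixAlgEquiv b f from rfl, Polynomial.aeval_algEquiv,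
    AlgHom.comp_apply, hq, map_zero]

/-- The dimension of the intertwiners of two endomorphisms killed by separable polynomials. -/
theorem finrank_kerL {L : Type*} [Field L] [Algebra K L] [IsAlgClosed L] [DecidableEq L] (f : Module.End K V)
    (g : Module.End K W) {qf qg : Polynomial K} (hf : qf.Separable) (hf0 : aeval f qf = 0) (hg : qg.Separable)
    (hg0 : aeval g qg = 0) :
    Module.finrank K (kerL f g) =
      ((f.charpoly.map (algebraMap K L)).roots.map fun x => (g.charpoly.map (algebraMap K L)).roots.count x).sum := by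
  classical
  let bV' := Module.finBasis K V
  let bW := Module.finBasis K W
  rw [← LinearEquiv.finrank_map_eq (LinearMap.toMatrix bV' bW) (kerL f g), kerL_map_toMatrix,
    finrank_kerI_eq (L := L) _ _ hf (aeval_toMatrix bV' f hf0) hg (aeval_toMatrix bW g hg0), LinearMap.charpoly_toMatrix,
    LinearMap.charpoly_toMatrix]

/-- Semisimple endomorphisms with the same characteristic polynomial are conjugate. -/
theorem exists_kerL_bijective [Infinite K] (f : Module.End K V) (g : Module.End K W) {qf qg : Polynomial K}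
    (hf : qf.Separable) (hf0 : aeval f qf = 0) (hg : qg.Separable) (hg0 : aeval g qg = 0)
    (h : f.charpoly = g.charpoly) : ∃ φ ∈ kerL f g, Function.Bijective φ := by
  classical
  have hd : Module.finrank K V = Module.finrank K W := by
    rw [← LinearMap.charpoly_natDegree f, ← LinearMap.charpoly_natDegree g, h]
  let bV' := Module.finBasisOfFinrankEq K V hd
  let bW := Module.finBasis K W
  obtain ⟨X, hX, hdet⟩ := exists_kerI_det_ne_zero (LinearMap.toMatrix bV' bV' f) (LinearMap.toMatrix bW bW g) hf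
    (aeval_toMatrix bV' f hf0) hg (aeval_toMatrix bW g hg0) (by
      rw [LinearMap.charpoly_toMatrix, LinearMap.charpoly_toMatrix, h])
  rw [← kerL_map_toMatrix] at hX
  obtain ⟨φ, hφ, hφX⟩ := hX
  refine ⟨φ, hφ, ?_⟩
  have hu : IsUnit (LinearMap.toMatrix bV' bW φ).det := by
    rw [show LinearMap.toMatrix bV' bW φ = X from hφX]
    exact isUnit_iff_ne_zero.2 hdet
  exact (LinearEquiv.ofIsUnitDet (v := bV') (v' := bW) hu).bijective

omit [FiniteDimensional K V] [FiniteDimensional K W] in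
theorem baseChange_commute_span {R M N : Type*} [CommRing R] [Algebra R K] [AddCommGroup M] [Module R M] [AddCommGroup N]
    [Module R N] (φ : K ⊗[R] M →ₗ[K] K ⊗[R] N) (S : Set (Module.End R M × Module.End R N))
    (hS : ∀ x ∈ S, φ ∘ₗ x.1.baseChange K = x.2.baseChange K ∘ₗ φ) {p : Module.End R M × Module.End R N}
    (hp : p ∈ Submodule.span R S) : φ ∘ₗ p.1.baseChange K = p.2.baseChange K ∘ₗ φ := by
  induction hp using Submodule.span_induction with
  | mem x hx => exact hS x hx
  | zero => rw [Prod.fst_zero, Prod.snd_zero, LinearMap.baseChange_zero, LinearMap.baseChange_zero, LinearMap.comp_zero, LinearMap.zero_comp]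
  | add x y _ _ hx hy => rw [Prod.fst_add, Prod.snd_add, LinearMap.baseChange_add, LinearMap.baseChange_add, LinearMap.comp_add, LinearMap.add_comp, hx, hy]
  | smul a x _ hx =>
    rw [Prod.smul_fst, Prod.smul_snd, LinearMap.baseChange_smul, LinearMap.baseChange_smul]
    ext v
    have := LinearMap.congr_fun hx (1 ⊗ₜ v)
    simp only [LinearMap.comp_apply, LinearMap.smul_apply, TensorProduct.AlgebraTensorModule.curry_apply,
      TensorProduct.curry_apply, LinearMap.coe_restrictScalars] at this ⊢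
    rw [LinearMap.map_smul_of_tower, this]

theorem baseChange_commute_pow {R M N : Type*} [CommRing R] [Algebra R K] [AddCommGroup M] [Module R M] [AddCommGroup N]
    [Module R N] (φ : K ⊗[R] M →ₗ[K] K ⊗[R] N) (f : Module.End R M) (g : Module.End R N)
    (h : φ ∘ₗ f.baseChange K = g.baseChange K ∘ₗ φ) {p : Module.End R M × Module.End R N}
    (hp : p ∈ Submodule.span R (Set.range fun j : ℕ => (f ^ j, g ^ j))) :
    φ ∘ₗ p.1.baseChange K = p.2.baseChange K ∘ₗ φ := by
  refine baseChange_commute_span φ _ ?_ hp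
  rintro _ ⟨j, rfl⟩
  rw [LinearMap.baseChange_pow, LinearMap.baseChange_pow]
  exact pow_commute φ _ _ h j

end LinAlg

section Frob

variable {k Ω : Type u} [Field k] [Finite k] [Field Ω] [Algebra k Ω] [IsAlgClosure k Ω] {l : ℕ} [Fact l.Prime]

/-- The Frobenius endomorphism. -/
def IsFrob {A : Over (Spec (CommRingCat.of k))} (πA : A ⟶ A) : Prop :=
  πA.left.base = 𝟙 _ ∧ ∃ hle : ∀ U : A.left.Opens, U ≤ πA.left ⁻¹ᵁ U,
    ∀ (U : A.left.Opens) (s : Γ(A.left, U)), (πA.left.appLE U U (hle U)).hom s = s ^ Nat.card k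

variable {A B : Over (Spec (CommRingCat.of k))} [GrpObj A] [IsCommMonObj A] [IsProper A.hom] [GeometricallyIntegral A.hom]
  [GrpObj B] [IsCommMonObj B] [IsProper B.hom] [GeometricallyIntegral B.hom]
  {πA : A ⟶ A} [IsMonHom πA] {πB : B ⟶ B} [IsMonHom πB] (hπA : IsFrob πA) (hπB : IsFrob πB)

/-- The Frobenius on the Tate module. -/
abbrev TF (l : ℕ) [Fact l.Prime] (Ω : Type u) [Field Ω] [Algebra k Ω] {A : Over (Spec (CommRingCat.of k))} [GrpObj A]
    [IsCommMonObj A] (πA : A ⟶ A) [IsMonHom πA] : Module.End ℤ_[l] (AbDual.TateMod A l (SGA7.pt (K := k) Ω)) :=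
  AbDual.tateMapₗ (l := l) (T := SGA7.pt (K := k) Ω) πA

/-- The Frobenius on the rational Tate module. -/
abbrev VF (l : ℕ) [Fact l.Prime] (Ω : Type u) [Field Ω] [Algebra k Ω] {A : Over (Spec (CommRingCat.of k))} [GrpObj A]
    [IsCommMonObj A] (πA : A ⟶ A) [IsMonHom πA] : Module.End ℚ_[l] (VT A l (SGA7.pt (K := k) Ω)) :=
  (TF l Ω πA).baseChange ℚ_[l]

include hπA in
theorem galT_frobΩ : galT A l (frobΩ k Ω) = TF l Ω πA := by
  obtain ⟨h, hle, happ⟩ := hπA
  exact galT_frob A πA h hle happ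

variable (hl : (l : k) ≠ 0)

include hl in
theorem free_finite : Module.Free ℤ_[l] (AbDual.TateMod A l (SGA7.pt (K := k) Ω)) ∧
    Module.Finite ℤ_[l] (AbDual.TateMod A l (SGA7.pt (K := k) Ω)) := by
  haveI : IsAlgClosed Ω := IsAlgClosure.isAlgClosed k
  obtain ⟨g, hg⟩ := AVAmpleLib.exists_dim_field A
  obtain ⟨h1, h2, -⟩ := AVAmpleLib.tate_free_finite_finrank_ext Ω A hg l fun h0 =>
    hl ((algebraMap k Ω).injective (by rw [map_natCast, map_zero]; exact h0))
  exact ⟨h1, h2⟩

include hπA hπB hl in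
/-- Commuting with the Frobenius is commuting with Galois. -/
theorem commute_galT (u : AbDual.TateMod A l (SGA7.pt (K := k) Ω) →ₗ[ℤ_[l]] AbDual.TateMod B l (SGA7.pt (K := k) Ω))
    (hu : u ∘ₗ TF l Ω πA = TF l Ω πB ∘ₗ u) (τ : Ω ≃ₐ[k] Ω) : u ∘ₗ galT A l τ = galT B l τ ∘ₗ u := by
  obtain ⟨_, _⟩ := free_finite (A := A) (Ω := Ω) hl
  obtain ⟨_, _⟩ := free_finite (A := B) (Ω := Ω) hl
  have h := galT_mem_span A B (l := l) τ
  rw [galT_frobΩ hπA, galT_frobΩ hπB] at h
  suffices H : ∀ p ∈ Submodule.span ℤ_[l] (Set.range fun j : ℕ => (TF l Ω πA ^ j, TF l Ω πB ^ j)),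
      u ∘ₗ p.1 = p.2 ∘ₗ u from H _ h
  intro p hp
  induction hp using Submodule.span_induction with
  | mem x hx => obtain ⟨j, rfl⟩ := hx; exact pow_commute u _ _ hu j
  | zero => rw [Prod.fst_zero, Prod.snd_zero, LinearMap.comp_zero, LinearMap.zero_comp]
  | add x y _ _ hx hy => rw [Prod.fst_add, Prod.snd_add, LinearMap.comp_add, LinearMap.add_comp, hx, hy]
  | smul a x _ hx => rw [Prod.smul_fst, Prod.smul_snd, LinearMap.comp_smul, LinearMap.smul_comp, hx]

include hπA hπB hl in
theorem commute_galT_rat (φ : VT A l (SGA7.pt (K := k) Ω) →ₗ[ℚ_[l]] VT B l (SGA7.pt (K := k) Ω))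
    (hφ : φ ∘ₗ VF l Ω πA = VF l Ω πB ∘ₗ φ) (τ : Ω ≃ₐ[k] Ω) :
    φ ∘ₗ (galT A l τ).baseChange ℚ_[l] = (galT B l τ).baseChange ℚ_[l] ∘ₗ φ := by
  obtain ⟨_, _⟩ := free_finite (A := A) (Ω := Ω) hl
  obtain ⟨_, _⟩ := free_finite (A := B) (Ω := Ω) hl
  have h := galT_mem_span A B (l := l) τ
  rw [galT_frobΩ hπA, galT_frobΩ hπB] at h
  exact @baseChange_commute_pow ℚ_[l] _ ℤ_[l] (AbDual.TateMod A l (SGA7.pt (K := k) Ω))
    (AbDual.TateMod B l (SGA7.pt (K := k) Ω)) _ _ _ _ _ _ φ (TF l Ω πA) (TF l Ω πB) hφ (galT A l τ, galT B l τ) h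

include hπA hπB hl in
/-- The integral form: intertwiners of the Frobenius are combinations of homomorphisms. -/
theorem span_hom_iff (u : AbDual.TateMod A l (SGA7.pt (K := k) Ω) →ₗ[ℤ_[l]] AbDual.TateMod B l (SGA7.pt (K := k) Ω)) :
    u ∈ Submodule.span ℤ_[l] (Set.range (EndAV.Hom.tateMap (A := A) (B := B) l (SGA7.pt (K := k) Ω))) ↔
      u ∘ₗ TF l Ω πA = TF l Ω πB ∘ₗ u := by
  refine ⟨fun hu => ?_, fun hu => tate_hom hl A B u (commute_galT hπA hπB hl u hu)⟩
  induction hu using Submodule.span_induction with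
  | mem x hx =>
    obtain ⟨f, rfl⟩ := hx
    rw [← galT_frobΩ hπA, ← galT_frobΩ hπB]
    exact galT_natural l f.toHom _
  | zero => rw [LinearMap.zero_comp, LinearMap.comp_zero]
  | add x y _ _ hx hy => rw [LinearMap.add_comp, LinearMap.comp_add, hx, hy]
  | smul a x _ hx => rw [LinearMap.smul_comp, LinearMap.comp_smul, hx]

include hπA hπB hl in
/-- The rational form. -/
theorem span_homs_eq : Submodule.span ℚ_[l] (homs l B Ω A) = kerL (VF l Ω πA) (VF l Ω πB) := by
  refine le_antisymm (Submodule.span_le.2 ?_) fun φ hφ => hom_commutant hl A B φ (commute_galT_rat hπA hπB hl φ hφ)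
  rintro _ ⟨f, rfl⟩
  rw [SetLike.mem_coe, mem_kerL, VF, VF, ← galT_frobΩ hπA, ← galT_frobΩ hπB]
  exact bV_natural l f _

include hl in
theorem linearIndependent_bV {n : ℕ} (e : Fin n → EndAV.Hom A B) (he : LinearIndependent ℤ e) :
    LinearIndependent ℚ_[l] fun i => bV l (SGA7.pt (K := k) Ω) (e i) := by
  haveI : IsAlgClosed Ω := IsAlgClosure.isAlgClosed k
  obtain ⟨_, _⟩ := free_finite (A := A) (Ω := Ω) hl
  obtain ⟨_, _⟩ := free_finite (A := B) (Ω := Ω) hl
  have h := AVAmpleLib.linearIndependent_tateMap_ext Ω A B l (fun h0 =>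
    hl ((algebraMap k Ω).injective (by rw [map_natCast, map_zero]; exact h0))) e he
  refine (LinearIndependent.iff_fractionRing ℤ_[l] ℚ_[l]).1 (h.map' (LinearMap.baseChangeHom ℤ_[l] ℚ_[l] _ _)
    (LinearMap.ker_eq_bot.2 fun u v huv => LinearMap.ext fun x => ?_))
  refine Module.Flat.tensorProduct_mk_injective ℤ_[l] (AbDual.TateMod B l (SGA7.pt (K := k) Ω)) ℚ_[l] ?_
  have h1 := LinearMap.congr_fun huv ((1 : ℚ_[l]) ⊗ₜ x)
  simpa using h1

variable (Ω) in
include hl in
theorem finrank_span_homs :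
    Module.finrank ℚ_[l] (Submodule.span ℚ_[l] (homs l B Ω A)) = Module.finrank ℤ (EndAV.Hom A B) := by
  haveI : IsAlgClosed Ω := IsAlgClosure.isAlgClosed k
  haveI := AVAmpleLib.fg_hom_of_ext (k := k) Ω A B
  haveI := AVAmpleLib.isTorsionFree_hom (A := A) (B := B)
  haveI : Module.Free ℤ (EndAV.Hom A B) := Module.free_of_finite_type_torsion_free'
  let b := Module.finBasis ℤ (EndAV.Hom A B)
  have e : Submodule.span ℚ_[l] (homs l B Ω A) =
      Submodule.span ℚ_[l] (Set.range fun i => bV l (SGA7.pt (K := k) Ω) (b i)) := by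
    refine le_antisymm (Submodule.span_le.2 ?_) (Submodule.span_mono ?_)
    · rintro _ ⟨f, rfl⟩
      show bV l (SGA7.pt (K := k) Ω) f ∈ _
      rw [← b.sum_repr f, map_sum]
      refine Submodule.sum_mem _ fun i _ => ?_
      rw [map_zsmul, ← Int.cast_smul_eq_zsmul ℚ_[l]]
      exact Submodule.smul_mem _ _ (Submodule.subset_span ⟨i, rfl⟩)
    · rintro _ ⟨i, rfl⟩
      exact ⟨_, rfl⟩
  rw [e, finrank_span_eq_card (linearIndependent_bV hl _ b.linearIndependent), Fintype.card_fin]

include hπA in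
theorem exists_annihilator : ∃ q : Polynomial ℚ_[l], q.Separable ∧ aeval (VF l Ω πA) q = 0 := by
  obtain ⟨h, hle, happ⟩ := hπA
  obtain ⟨Q, -, hQ0, hsep⟩ := AVAmpleLib.exists_separable_annihilator πA h hle happ Nat.card_pos
  refine ⟨Q.map (algebraMap ℤ ℚ_[l]), ?_, ?_⟩
  · rw [Subsingleton.elim (algebraMap ℤ ℚ_[l]) ((algebraMap ℚ ℚ_[l]).comp (Int.castRingHom ℚ)), ← Polynomial.map_map]
    exact hsep.map
  · rw [Polynomial.aeval_map_algebraMap]
    show aeval (endV A l (SGA7.pt (K := k) Ω) (EndAV.End.of πA)) Q = 0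
    rw [Polynomial.aeval_def, Subsingleton.elim (algebraMap ℤ _)
      ((endV A l (SGA7.pt (K := k) Ω)).comp (algebraMap ℤ (EndAV.End A))), ← Polynomial.hom_eval₂, ← Polynomial.aeval_def,
      hQ0, map_zero]

include hπA hπB hl in
/-- The rank of the group of homomorphisms. -/
theorem finrank_hom [Module.Free ℤ_[l] (AbDual.TateMod A l (SGA7.pt (K := k) Ω))]
    [Module.Finite ℤ_[l] (AbDual.TateMod A l (SGA7.pt (K := k) Ω))]
    [Module.Free ℤ_[l] (AbDual.TateMod B l (SGA7.pt (K := k) Ω))]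
    [Module.Finite ℤ_[l] (AbDual.TateMod B l (SGA7.pt (K := k) Ω))]
    (L : Type*) [Field L] [Algebra ℚ_[l] L] [IsAlgClosed L] [DecidableEq L] :
    Module.finrank ℤ (EndAV.Hom A B) = (((VF l Ω πA).charpoly.map (algebraMap ℚ_[l] L)).roots.map fun x =>
      ((VF l Ω πB).charpoly.map (algebraMap ℚ_[l] L)).roots.count x).sum := by
  obtain ⟨qA, hA, hA0⟩ := exists_annihilator (l := l) (Ω := Ω) hπA
  obtain ⟨qB, hB, hB0⟩ := exists_annihilator (l := l) (Ω := Ω) hπB
  rw [← finrank_span_homs Ω hl, span_homs_eq hπA hπB hl, finrank_kerL (L := L) _ _ hA hA0 hB hB0]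

theorem charpoly_VF [Module.Free ℤ_[l] (AbDual.TateMod A l (SGA7.pt (K := k) Ω))]
    [Module.Finite ℤ_[l] (AbDual.TateMod A l (SGA7.pt (K := k) Ω))] :
    (VF l Ω πA).charpoly = (TF l Ω πA).charpoly.map (algebraMap ℤ_[l] ℚ_[l]) :=
  LinearMap.charpoly_baseChange (TF l Ω πA) ℚ_[l]

end Frob

end TateThmLib

end
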