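import Groth.Agent.TateThmLib.FrobNat
import Groth.Agent.TateThmLib.ZDescent
import Groth.Agent.AVThetaLib.QuotKernel
import Groth.Agent.AVThetaLib.Perp
import Groth.Prelude.Def_EndRing

/-!
A cogenerator of a category of abelian varieties over a finite field makes `Hom(-, A)` fully faithful.
-/

set_option autoImplicit false
set_option maxHeartbeats 1000000
set_option backward.isDefEq.respectTransparency false
set_option linter.style.haveILetI false
set_option linter.unusedSectionVars false

noncomputable section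

universe u

open CategoryTheory CategoryTheory.Limits MonoidalCategory CartesianMonoidalCategory MonObj AlgebraicGeometry
open AVThetaLib

namespace TateThmLib

variable {k : Type u} [Field k] {A : Over (Spec (CommRingCat.of k))} [GrpObj A] [IsCommMonObj A] [IsProper A.hom]
  [GeometricallyIntegral A.hom]

variable (A) in
/-- Finite powers. -/
theorem exists_power : ∀ N : ℕ, ∃ (An : Over (Spec (CommRingCat.of k))) (_ : GrpObj An) (_ : IsCommMonObj An)
    (_ : IsProper An.hom) (_ : GeometricallyIntegral An.hom) (pr : Fin N → EndAV.Hom An A),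
      (∀ (Z : Over (Spec (CommRingCat.of k))) [GrpObj Z] [IsCommMonObj Z] (fam : Fin N → EndAV.Hom Z A),
        ∃ h : EndAV.Hom Z An, ∀ i, h ≫ pr i = fam i) ∧
      ∀ (T : Over (Spec (CommRingCat.of k))) (x y : T ⟶ An), (∀ i, x ≫ (pr i).toHom = y ≫ (pr i).toHom) → x = y
  | 0 => by
    haveI : IsProper (𝟙_ (Over (Spec (CommRingCat.of k)))).hom := inferInstanceAs (IsProper (𝟙 _))
    haveI : GeometricallyIntegral (𝟙_ (Over (Spec (CommRingCat.of k)))).hom := by
      show GeometricallyIntegral (𝟙 (Spec (CommRingCat.of k)))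
      exact ⟨fun K _ y Z fst snd h => by
        haveI : IsIso snd := h.isIso_snd_of_isIso
        haveI : Nonempty Z := ⟨(inv snd) (Classical.arbitrary _)⟩
        exact isIntegral_of_isOpenImmersion snd⟩
    haveI : IsCommMonObj (𝟙_ (Over (Spec (CommRingCat.of k)))) := CubeConsLib.isCommMonObj_field
    exact ⟨𝟙_ _, inferInstance, inferInstance, inferInstance, inferInstance, Fin.elim0,
      fun Z _ _ fam => ⟨0, fun i => i.elim0⟩, fun T x y _ => toUnit_unique x y⟩
  | N + 1 => by
    obtain ⟨An, _, _, _, _, pr, hlift, hmono⟩ := exists_power N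
    haveI := proper_tensor A An
    haveI := geomInt_tensor A An
    haveI : IsCommMonObj (A ⊗ An) := CubeConsLib.isCommMonObj_field
    haveI : IsMonHom (fst A An) := inferInstance
    haveI : IsMonHom (snd A An) := inferInstance
    refine ⟨A ⊗ An, inferInstance, inferInstance, inferInstance, inferInstance,
      Fin.cons (EndAV.Hom.of (fst A An)) fun i => EndAV.Hom.of (snd A An) ≫ pr i, fun Z _ _ fam => ?_, fun T x y h => ?_⟩
    · obtain ⟨h, hh⟩ := hlift Z fun i => fam i.succ
      let l := lift (fam 0).toHom h.toHom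
      haveI : IsMonHom l := isMonHom_of_mul _ fun T x y => by
        apply CartesianMonoidalCategory.hom_ext <;> simp [l, MonObj.mul_comp, Category.assoc]
      refine ⟨EndAV.Hom.of l, Fin.cases ?_ fun i => ?_⟩
      · rw [Fin.cons_zero]
        exact EndAV.Hom.ext (lift_fst _ _)
      · rw [Fin.cons_succ, ← hh i]
        refine EndAV.Hom.ext ?_
        show l ≫ snd A An ≫ (pr i).toHom = h.toHom ≫ (pr i).toHom
        rw [← Category.assoc, lift_snd]
    · refine CartesianMonoidalCategory.hom_ext _ _ (by simpa using h 0) (hmono T _ _ fun i => ?_)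
      simpa [Category.assoc] using h i.succ

/-- Powers split into their factors. -/
theorem exists_decomp {An : Over (Spec (CommRingCat.of k))} [GrpObj An] [IsCommMonObj An] {N : ℕ}
    {pr : Fin N → EndAV.Hom An A}
    (hlift : ∀ (Z : Over (Spec (CommRingCat.of k))) [GrpObj Z] [IsCommMonObj Z] (fam : Fin N → EndAV.Hom Z A),
        ∃ h : EndAV.Hom Z An, ∀ i, h ≫ pr i = fam i)
    (hmono : ∀ (T : Over (Spec (CommRingCat.of k))) (x y : T ⟶ An),
      (∀ i, x ≫ (pr i).toHom = y ≫ (pr i).toHom) → x = y) (φ : EndAV.Hom An A) :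
    ∃ s : Fin N → EndAV.Hom A A, φ = ∑ i, pr i ≫ s i := by
  choose inj hinj using fun i => hlift A fun j => if i = j then 𝟙 (CommGrp.mk A) else 0
  have hid : ∑ i, pr i ≫ inj i = 𝟙 (CommGrp.mk An) := by
    refine EndAV.Hom.ext (hmono _ _ _ fun j => ?_)
    have e : (∑ i, pr i ≫ inj i) ≫ pr j = 𝟙 (CommGrp.mk An) ≫ pr j := by
      rw [Preadditive.sum_comp, Category.id_comp, Finset.sum_eq_single j]
      · rw [Category.assoc, hinj, if_pos rfl, Category.comp_id]
      · intro b _ hb
        rw [Category.assoc, hinj, if_neg hb, Limits.comp_zero]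
      · simp
    exact congrArg EndAV.Hom.toHom e
  refine ⟨fun i => inj i ≫ φ, ?_⟩
  conv_lhs => rw [← Category.id_comp φ, ← hid, Preadditive.sum_comp]
  simp only [Category.assoc]

/-- Polynomials in commuting endomorphisms commute. -/
theorem eval_comp {X Y : Over (Spec (CommRingCat.of k))} [GrpObj X] [IsCommMonObj X] [GrpObj Y] [IsCommMonObj Y]
    (a : EndAV.End X) (b : EndAV.End Y) (f : EndAV.Hom X Y) (h : (a : EndAV.Hom X X) ≫ f = f ≫ (b : EndAV.Hom Y Y))
    (P : Polynomial ℤ) :
    EndAV.Hom.of (Polynomial.eval₂ (Int.castRingHom (EndAV.End X)) a P).toHom ≫ f =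
      f ≫ EndAV.Hom.of (Polynomial.eval₂ (Int.castRingHom (EndAV.End Y)) b P).toHom := by
  induction P using Polynomial.induction_on' with
  | add p q hp hq =>
    rw [Polynomial.eval₂_add, Polynomial.eval₂_add]
    exact (Preadditive.add_comp _ _ _ _ _ _).trans ((congrArg₂ (· + ·) hp hq).trans (Preadditive.comp_add _ _ _ _ _ _).symm)
  | monomial n c =>
    rw [Polynomial.eval₂_monomial, Polynomial.eval₂_monomial, eq_intCast, eq_intCast, ← zsmul_eq_mul, ← zsmul_eq_mul]
    refine (Preadditive.zsmul_comp _ _ _).trans (Eq.trans ?_ (Preadditive.comp_zsmul _ _ _).symm)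
    congr 1
    induction n with
    | zero => rw [pow_zero, pow_zero]; exact (Category.id_comp f).trans (Category.comp_id f).symm
    | succ n ih =>
      rw [pow_succ, pow_succ]
      show ((a : EndAV.Hom X X) ≫ ((a ^ n : EndAV.End X) : EndAV.Hom X X)) ≫ f = f ≫ (b : EndAV.Hom Y Y) ≫ ((b ^ n : EndAV.End Y) : EndAV.Hom Y Y)
      rw [Category.assoc, ih, ← Category.assoc, h, Category.assoc]

variable [Finite k]

/-- Morphisms into the second object compatible with the dual action come from morphisms. -/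
theorem exists_of_equivariant (P : Polynomial ℤ) {πA : A ⟶ A} [IsMonHom πA] (hπAb : πA.left.base = 𝟙 _)
    (hπAle : ∀ U : A.left.Opens, U ≤ πA.left ⁻¹ᵁ U)
    (hπAapp : ∀ (U : A.left.Opens) (s : Γ(A.left, U)), (πA.left.appLE U U (hπAle U)).hom s = s ^ Nat.card k)
    (hPA : Polynomial.eval₂ (Int.castRingHom (EndAV.End A)) (EndAV.End.of πA) P = 0)
    (hcog : ∀ (Z : Over (Spec (CommRingCat.of k))) [GrpObj Z] [IsCommMonObj Z] [IsProper Z.hom] [GeometricallyIntegral Z.hom]
      (πZ : Z ⟶ Z) [IsMonHom πZ] (hπZb : πZ.left.base = 𝟙 _) (hπZle : ∀ U : Z.left.Opens, U ≤ πZ.left ⁻¹ᵁ U)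
      (hπZapp : ∀ (U : Z.left.Opens) (s : Γ(Z.left, U)), (πZ.left.appLE U U (hπZle U)).hom s = s ^ Nat.card k)
      (hPZ : Polynomial.eval₂ (Int.castRingHom (EndAV.End Z)) (EndAV.End.of πZ) P = 0),
      ∃ (n : ℕ) (ψ : Fin n → EndAV.Hom Z A), ∀ (T : Over (Spec (CommRingCat.of k))) (x y : T ⟶ Z),
        (∀ i, x ≫ (ψ i).toHom = y ≫ (ψ i).toHom) → x = y)
    {X Y : Over (Spec (CommRingCat.of k))} [GrpObj X] [IsCommMonObj X] [GrpObj Y] [IsCommMonObj Y] [IsProper Y.hom]
    [GeometricallyIntegral Y.hom] (g : EndAV.Hom Y A →+ EndAV.Hom X A)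
    (hg : ∀ (φ : EndAV.Hom Y A) (s : EndAV.Hom A A), g (φ ≫ s) = g φ ≫ s) {N : ℕ} (χ : Fin N → EndAV.Hom Y A)
    (hχ : ∀ (T : Over (Spec (CommRingCat.of k))) (x y : T ⟶ Y), (∀ i, x ≫ (χ i).toHom = y ≫ (χ i).toHom) → x = y) :
    ∃ f : EndAV.Hom X Y, ∀ i, f ≫ χ i = g (χ i) := by
  obtain ⟨An, _, _, _, _, pr, hlift, hmono⟩ := exists_power A N
  obtain ⟨e, he⟩ := hlift Y χ
  obtain ⟨h, hh⟩ := hlift X fun i => g (χ i)
  haveI : Mono e.toHom := ⟨fun {T} x y hxy => hχ T x y fun i => by
    have h1 := congrArg (· ≫ (pr i).toHom) hxy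
    simp only [Category.assoc] at h1
    rw [← congrArg EndAV.Hom.toHom (he i)]
    exact h1⟩
  haveI : Mono e.toHom.left := inferInstance
  haveI : IsProper e.toHom.left := by
    haveI : IsProper (e.toHom.left ≫ An.hom) := by rw [Over.w]; infer_instance
    exact IsProper.of_comp e.toHom.left An.hom
  haveI : IsFinite e.toHom.left := IsFinite.of_isProper_of_locallyQuasiFinite _
  haveI : IsClosedImmersion e.toHom.left := (IsClosedImmersion.iff_isFinite_and_mono _).2 ⟨inferInstance, inferInstance⟩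
  obtain ⟨Q, _, q, hQp, hQi, hqm, hqs, hN⟩ := exists_quotient_kernel An e.toHom
  haveI := hQp
  haveI := hQi
  haveI := hqm
  haveI := hqs
  haveI : IsCommMonObj Q := CubeConsLib.isCommMonObj_field
  obtain ⟨πn, _, hnle, hnb, hnapp⟩ := AVAmpleLib.exists_frob An
  obtain ⟨πQ, _, hQle, hQb, hQapp⟩ := AVAmpleLib.exists_frob Q
  have hPn : Polynomial.eval₂ (Int.castRingHom (EndAV.End An)) (EndAV.End.of πn) P = 0 := by
    refine EndAV.End.ext (hmono _ _ _ fun i => ?_)
    have h1 := eval_comp (EndAV.End.of πn) (EndAV.End.of πA) (pr i)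
      (EndAV.Hom.ext (frob_natural πn hnb hnle hnapp πA hπAb hπAle hπAapp (pr i).toHom)) P
    rw [hPA] at h1
    exact (congrArg EndAV.Hom.toHom h1).trans ((MonObj.comp_one (pr i).toHom).trans (MonObj.one_comp (pr i).toHom).symm)
  have hPQ : Polynomial.eval₂ (Int.castRingHom (EndAV.End Q)) (EndAV.End.of πQ) P = 0 := by
    haveI : IsIntegral Q.left := GeometricallyIntegral.isIntegral_of_subsingleton Q.hom
    haveI : IsDominant q.left := inferInstance
    refine EndAV.End.ext ?_
    have h1 := eval_comp (EndAV.End.of πn) (EndAV.End.of πQ) (EndAV.Hom.of q)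
      (EndAV.Hom.ext (frob_natural πn hnb hnle hnapp πQ hQb hQle hQapp q)) P
    rw [hPn] at h1
    have h2 := (congrArg EndAV.Hom.toHom h1).symm.trans ((MonObj.one_comp q).trans (MonObj.comp_one q).symm)
    refine Over.OverMorphism.ext (ext_of_isDominant_of_isSeparated Q.hom ?_ q.left (congrArg Over.Hom.left h2))
    rw [Over.w, Over.w]
  obtain ⟨m, θ, hθ⟩ := hcog Q πQ hQb hQle hQapp hPQ
  have hker : h.toHom ≫ q = 1 := hθ X _ _ fun j => by
    obtain ⟨s, hs⟩ := exists_decomp hlift hmono (EndAV.Hom.of q ≫ θ j)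
    have h0 : e ≫ EndAV.Hom.of q = 0 := EndAV.Hom.ext (by
      have := kernel_comp q hN (𝟙 Y)
      rwa [Category.id_comp] at this)
    have h1 : ∑ i, χ i ≫ s i = 0 := by
      have := congrArg (e ≫ ·) hs
      simp only [Preadditive.comp_sum, ← Category.assoc, h0, Limits.zero_comp, he] at this
      exact this.symm
    have h2 : h ≫ EndAV.Hom.of q ≫ θ j = 0 := by
      rw [hs, Preadditive.comp_sum]
      simp only [← Category.assoc, hh, ← hg, ← map_sum, h1, map_zero]
    rw [MonObj.one_comp, Category.assoc]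
    exact congrArg EndAV.Hom.toHom h2
  obtain ⟨f, hf⟩ := exists_lift_kernel hN h.toHom hker
  haveI : IsMonHom f := isMonHom_of_mul _ fun T x y => by
    rw [← cancel_mono e.toHom, Category.assoc, hf, MonObj.mul_comp, MonObj.mul_comp, Category.assoc, Category.assoc, hf]
  refine ⟨EndAV.Hom.of f, fun i => ?_⟩
  exact ((congrArg (EndAV.Hom.of f ≫ ·) (he i).symm).trans ((Category.assoc _ _ _).symm.trans
    (congrArg (· ≫ pr i) (EndAV.Hom.ext hf)))).trans (hh i)

end TateThmLib

end
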