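import Mathlib.NumberTheory.Padics.ProperSpace
import Mathlib.RingTheory.Filtration
import Mathlib.RingTheory.Finiteness.Basic
import Mathlib.LinearAlgebra.FreeModule.Finite.Matrix

/-!
Limits of linear maps of a finite module over the `l`-adic integers satisfying congruences.
-/

set_option autoImplicit false

noncomputable section

namespace TateThmLib

variable {l : ℕ} [Fact l.Prime] {M : Type*} [AddCommGroup M] [Module ℤ_[l] M]

theorem mem_of_forall_mem_add_pow [Module.Finite ℤ_[l] M] (N : Submodule ℤ_[l] M) (x : M)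
    (h : ∀ n : ℕ, ∃ a ∈ N, ∃ t : M, x = a + l ^ n • t) : x ∈ N := by
  rw [← Submodule.Quotient.mk_eq_zero, ← Submodule.mem_bot (R := ℤ_[l]),
    ← Ideal.iInf_pow_smul_eq_bot_of_isLocalRing (M := M ⧸ N) (IsLocalRing.maximalIdeal ℤ_[l])
      (Ideal.IsPrime.ne_top inferInstance), Submodule.mem_iInf]
  intro n
  obtain ⟨a, ha, t, rfl⟩ := h n
  rw [Submodule.Quotient.mk_add, (Submodule.Quotient.mk_eq_zero N).2 ha, zero_add, Submodule.Quotient.mk_smul,
    ← Nat.cast_smul_eq_nsmul ℤ_[l], Nat.cast_pow]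
  refine Submodule.smul_mem_smul (Ideal.pow_mem_pow ?_ n) trivial
  rw [PadicInt.maximalIdeal_eq_span_p]
  exact Ideal.mem_span_singleton_self _

theorem exists_eq_add_of_norm_le {r : ℕ} (c c' : Fin r → ℤ_[l]) (n : ℕ) (h : dist c' c ≤ (l : ℝ) ^ (-n : ℤ)) :
    ∃ d : Fin r → ℤ_[l], c' = c + l ^ n • d := by
  have h' : ∀ i, ∃ d, c' i - c i = (l : ℤ_[l]) ^ n * d := fun i => by
    have h1 : ‖c' i - c i‖ ≤ (l : ℝ) ^ (-n : ℤ) := by
      rw [← dist_eq_norm]
      exact (dist_le_pi_dist c' c i).trans h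
    obtain ⟨d, hd⟩ := Ideal.mem_span_singleton'.1 ((PadicInt.norm_le_pow_iff_mem_span_pow _ n).1 h1)
    exact ⟨d, by rw [← hd, mul_comm]⟩
  choose d hd using h'
  refine ⟨d, funext fun i => ?_⟩
  rw [Pi.add_apply, Pi.smul_apply, nsmul_eq_mul, Nat.cast_pow, ← hd i]
  abel

variable [Module.Finite ℤ_[l] M] [Module.Free ℤ_[l] M] {M' : Type*} [AddCommGroup M'] [Module ℤ_[l] M']
  [Module.Finite ℤ_[l] M'] [Module.Free ℤ_[l] M']

/-- Compactness: approximate endomorphisms give an exact one. -/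
theorem exists_mem_span_range (gens : Set (M' →ₗ[ℤ_[l]] M)) (N : Submodule ℤ_[l] M) (c : ℕ)
    (h : ∀ n, ∃ s ∈ Submodule.span ℤ_[l] gens, (∀ t, ∃ a ∈ N, ∃ t', s t = a + l ^ n • t') ∧
      ∀ a ∈ N, ∃ t t', l ^ c • a = s t + l ^ n • t') :
    ∃ s ∈ Submodule.span ℤ_[l] gens, (∀ t, s t ∈ N) ∧ ∀ a ∈ N, ∃ t, s t = l ^ c • a := by
  obtain ⟨r, g, hg⟩ := Submodule.fg_iff_exists_fin_generating_family.1
    (IsNoetherian.noetherian (Submodule.span ℤ_[l] gens))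
  let φ : (Fin r → ℤ_[l]) →ₗ[ℤ_[l]] (M' →ₗ[ℤ_[l]] M) := Fintype.linearCombination ℤ_[l] g
  have hφ : ∀ s, s ∈ Submodule.span ℤ_[l] gens ↔ ∃ v, φ v = s := fun s => by
    rw [← hg, ← Fintype.range_linearCombination]
    exact LinearMap.mem_range
  let C : ℕ → Set (Fin r → ℤ_[l]) := fun n =>
    {v | (∀ t, ∃ a ∈ N, ∃ t', φ v t = a + l ^ n • t') ∧ ∀ a ∈ N, ∃ t t', l ^ c • a = φ v t + l ^ n • t'}
  have hcoset : ∀ n v d, v ∈ C n → v + l ^ n • d ∈ C n := by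
    rintro n v d ⟨h1, h2⟩
    refine ⟨fun t => ?_, fun a ha => ?_⟩
    · obtain ⟨a, ha, t', ht⟩ := h1 t
      refine ⟨a, ha, t' + φ d t, ?_⟩
      rw [map_add, map_nsmul, LinearMap.add_apply, LinearMap.smul_apply, ht, smul_add, add_assoc]
    · obtain ⟨t, t', ht⟩ := h2 a ha
      refine ⟨t, t' - φ d t, ?_⟩
      rw [map_add, map_nsmul, LinearMap.add_apply, LinearMap.smul_apply, ht, smul_sub]
      abel
  have hclosed : ∀ n, IsClosed (C n) := fun n => by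
    rw [← isOpen_compl_iff, Metric.isOpen_iff]
    intro v hv
    refine ⟨(l : ℝ) ^ (-n : ℤ), zpow_pos (by exact_mod_cast (Fact.out : l.Prime).pos) _, fun w hw hwC => hv ?_⟩
    obtain ⟨d, hd⟩ := exists_eq_add_of_norm_le w v n (by rw [dist_comm]; exact (Metric.mem_ball.1 hw).le)
    exact hd ▸ hcoset n w d hwC
  have hanti : ∀ n, C (n + 1) ⊆ C n := by
    rintro n v ⟨h1, h2⟩
    refine ⟨fun t => ?_, fun a ha => ?_⟩
    · obtain ⟨a, ha, t', ht⟩ := h1 t
      exact ⟨a, ha, l • t', by rw [ht, pow_succ, mul_smul]⟩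
    · obtain ⟨t, t', ht⟩ := h2 a ha
      exact ⟨t, l • t', by rw [ht, pow_succ, mul_smul]⟩
  have hne : ∀ n, (C n).Nonempty := fun n => by
    obtain ⟨s, hs, h1, h2⟩ := h n
    obtain ⟨v, rfl⟩ := (hφ s).1 hs
    exact ⟨v, h1, h2⟩
  obtain ⟨v, hv⟩ := IsCompact.nonempty_iInter_of_sequence_nonempty_isCompact_isClosed C hanti hne
    (hclosed 0).isCompact hclosed
  rw [Set.mem_iInter] at hv
  refine ⟨φ v, (hφ _).2 ⟨v, rfl⟩, fun t => mem_of_forall_mem_add_pow N _ fun n => (hv n).1 t, fun a ha => ?_⟩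
  have : l ^ c • a ∈ LinearMap.range (φ v) := mem_of_forall_mem_add_pow _ _ fun n => by
    obtain ⟨t, t', ht⟩ := (hv n).2 a ha
    exact ⟨φ v t, LinearMap.mem_range_self _ _, t', ht⟩
  exact this

end TateThmLib

end
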