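import Groth.Prelude.Def_AbDual
import Groth.Prelude.Def_SGA7a

/-!
Sequence calculus in Tate modules.
-/

set_option autoImplicit false
set_option linter.style.haveILetI false
set_option backward.isDefEq.respectTransparency false
set_option maxHeartbeats 1000000

noncomputable section

universe u

open CategoryTheory MonoidalCategory CartesianMonoidalCategory MonObj AlgebraicGeometry

namespace TateThmLib

variable {S : Scheme.{u}} {A : Over S} [GrpObj A] [IsCommMonObj A] {l : ℕ} {T : Over S}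

theorem pow_compat (x : AbDual.TateMod A l T) (n j : ℕ) :
    (l ^ j) • (x : ℕ → Additive (T ⟶ A)) (n + j) = (x : ℕ → Additive (T ⟶ A)) n := by
  induction j with
  | zero => rw [pow_zero, one_nsmul, add_zero]
  | succ j ih =>
    conv_rhs => rw [← ih]
    rw [pow_succ, mul_comm, mul_nsmul', smul_comm l (l ^ j), ← add_assoc, x.compat]

theorem exists_eq_smul_of_component_eq_zero (x : AbDual.TateMod A l T) (n : ℕ)
    (h : (x : ℕ → Additive (T ⟶ A)) n = 0) : ∃ t : AbDual.TateMod A l T, x = l ^ n • t := by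
  have hshift : ∀ j, (l ^ j) • (x : ℕ → Additive (T ⟶ A)) (n + j) = 0 := fun j => (pow_compat x n j).trans h
  refine ⟨⟨fun j => (x : ℕ → Additive (T ⟶ A)) (n + j), hshift, fun j => x.compat (n + j)⟩,
    AbDual.TateMod.ext fun j => ?_⟩
  show (x : ℕ → Additive (T ⟶ A)) j = (l ^ n) • (x : ℕ → Additive (T ⟶ A)) (n + j)
  rw [add_comm n j]
  exact (pow_compat x j n).symm

variable {B : Over S} [GrpObj B] [IsCommMonObj B] [Fact l.Prime] (f : A ⟶ B) [IsMonHom f]

theorem tateMapₗ_component (x : AbDual.TateMod A l T) (n : ℕ) :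
    ((AbDual.tateMapₗ (l := l) (T := T) f x : AbDual.TateMod B l T) : ℕ → Additive (T ⟶ B)) n =
      Additive.ofMul (((x : ℕ → Additive (T ⟶ A)) n).toMul ≫ f) := rfl

theorem tateMapₗ_comp {C : Over S} [GrpObj C] [IsCommMonObj C] (g : B ⟶ C) [IsMonHom g] (x : AbDual.TateMod A l T) :
    AbDual.tateMapₗ (l := l) (T := T) (f ≫ g) x = AbDual.tateMapₗ g (AbDual.tateMapₗ f x) :=
  AbDual.TateMod.ext fun n => congrArg Additive.ofMul (Category.assoc _ _ _).symm

theorem tateMapₗ_congr {f g : A ⟶ B} [IsMonHom f] [IsMonHom g] (h : f = g) :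
    AbDual.tateMapₗ (l := l) (T := T) f = AbDual.tateMapₗ g := by subst h; rfl

theorem tateMapₗ_pow [IsMonHom (𝟙 A)] (N : ℕ) [IsMonHom ((𝟙 A) ^ N)] (x : AbDual.TateMod A l T) :
    AbDual.tateMapₗ (l := l) (T := T) ((𝟙 A) ^ N) x = N • x :=
  AbDual.TateMod.ext fun n => by
    rw [tateMapₗ_component]
    show _ = N • (x : ℕ → Additive (T ⟶ A)) n
    rw [MonObj.comp_pow, Category.comp_id]
    rfl

theorem tateMapₗ_comp_eq_pow (g : B ⟶ A) [IsMonHom g] {N : ℕ} (h : f ≫ g = (𝟙 A) ^ N)
    (x : AbDual.TateMod A l T) : AbDual.tateMapₗ (l := l) (T := T) g (AbDual.tateMapₗ f x) = N • x :=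
  AbDual.TateMod.ext fun n => by
    rw [tateMapₗ_component, tateMapₗ_component]
    show Additive.ofMul ((((x : ℕ → Additive (T ⟶ A)) n).toMul ≫ f) ≫ g) = N • (x : ℕ → Additive (T ⟶ A)) n
    rw [Category.assoc, h, MonObj.comp_pow, Category.comp_id]
    rfl

end TateThmLib

end
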