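import Groth.Agent.TateThmLib.Quot
import Groth.Agent.TateThmLib.Adic
import Groth.Agent.TateThmLib.TateSeq
import Groth.Agent.AVAmpleLib.Translate
import Groth.Agent.H0Lib.Group

/-!
Tate's lemma: Galois-stable subspaces are images of endomorphisms, given finiteness.
-/

set_option autoImplicit false
set_option linter.style.haveILetI false
set_option backward.isDefEq.respectTransparency false
set_option maxHeartbeats 1000000

noncomputable section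

universe u

open CategoryTheory CategoryTheory.Limits MonoidalCategory CartesianMonoidalCategory MonObj AlgebraicGeometry

namespace TateThmLib

variable {k : Type u} [Field k]

/-- Isomorphic schemes give isomorphic abelian varieties. -/
theorem exists_hom_iso {Y Z : Over (Spec (CommRingCat.of k))} [GrpObj Y] [IsProper Y.hom] [GeometricallyIntegral Y.hom]
    [GrpObj Z] [IsProper Z.hom] (e : Y ≅ Z) :
    ∃ e' : Y ≅ Z, IsMonHom e'.hom ∧ IsMonHom e'.inv := by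
  haveI := H0Lib.geometricallyConnected_of_integral Y.hom
  haveI : LocallyOfFinitePresentation Y.hom := LocallyOfFinitePresentation.iff_locallyOfFiniteType.2 inferInstance
  let c : 𝟙_ (Over (Spec (CommRingCat.of k))) ⟶ Z := η[Y] ≫ e.hom
  let e' : Y ≅ Z := e ≪≫ asIso (AVAmpleLib.tL c⁻¹)
  haveI : IsMonHom e'.hom := by
    refine H0Lib.isMonHom_of_one_comp _ ?_
    show η[Y] ≫ e.hom ≫ AVAmpleLib.tL c⁻¹ = η[Z]
    rw [← Category.assoc, AVAmpleLib.point_tL, inv_mul_cancel, Hom.one_def, toUnit_unique (toUnit _) (𝟙 _),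
      Category.id_comp]
  exact ⟨e', inferInstance, inferInstance⟩

variable {Ω : Type u} [Field Ω] [Algebra k Ω] [IsAlgClosed Ω] [Normal k Ω]
  {A : Over (Spec (CommRingCat.of k))} [GrpObj A] [IsCommMonObj A] [IsProper A.hom] [GeometricallyIntegral A.hom]
  {l : ℕ} [Fact l.Prime]

theorem exists_isogeny_range (hl : (l : k) ≠ 0) (Λ : Submodule ℤ_[l] (AbDual.TateMod A l (SGA7.pt (K := k) Ω)))
    (hgal : ∀ (σ : Ω ≃ₐ[k] Ω), ∀ x ∈ Λ, ∃ y ∈ Λ, ∀ m,
      ((y : ℕ → Additive (SGA7.pt (K := k) Ω ⟶ A)) m).toMul =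
        SGA7.galAct σ ((x : ℕ → Additive (SGA7.pt (K := k) Ω ⟶ A)) m).toMul) (n : ℕ) :
    ∃ (Y : Over (Spec (CommRingCat.of k))) (_ : GrpObj Y) (_ : IsCommMonObj Y) (_ : IsProper Y.hom)
      (_ : GeometricallyIntegral Y.hom) (f : A ⟶ Y) (_ : IsMonHom f) (v : Y ⟶ A) (_ : IsMonHom v),
      f ≫ v = (𝟙 A) ^ (l ^ n) ∧ v ≫ f = (𝟙 Y) ^ (l ^ n) ∧
      (∀ y, ∃ a ∈ Λ, ∃ t, AbDual.tateMapₗ (l := l) (T := SGA7.pt (K := k) Ω) v y = a + l ^ n • t) ∧
      ∀ a ∈ Λ, ∃ y, AbDual.tateMapₗ (l := l) (T := SGA7.pt (K := k) Ω) v y = a := by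
  let G : Subgroup (SGA7.pt (K := k) Ω ⟶ A) :=
    AddSubgroup.toSubgroup' (Λ.toAddSubgroup.map (AbDual.TateMod.component A l (SGA7.pt (K := k) Ω) n))
  have hG : ∀ a, a ∈ G ↔ ∃ x ∈ Λ, (x : ℕ → Additive (SGA7.pt (K := k) Ω ⟶ A)) n = Additive.ofMul a := fun a => by
    rw [AddSubgroup.mem_toSubgroup']
    exact AddSubgroup.mem_map
  obtain ⟨Y, _, _, _, _, f, _, v, _, hfv, hvf, hsurj, hker⟩ := exists_quot (Ω := Ω) (A := A) (l ^ n)
    (by rw [Nat.cast_pow]; exact pow_ne_zero _ hl) G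
    (fun a ha => by
      obtain ⟨x, -, hx⟩ := (hG a).1 ha
      have := x.torsion n
      rw [hx] at this
      exact this)
    (fun σ a ha => by
      obtain ⟨x, hx, hxa⟩ := (hG a).1 ha
      obtain ⟨y, hy, hyx⟩ := hgal σ x hx
      exact (hG _).2 ⟨y, hy, Additive.toMul.injective ((hyx n).trans (by rw [hxa]; rfl))⟩)
  refine ⟨Y, inferInstance, inferInstance, inferInstance, inferInstance, f, inferInstance, v, inferInstance, hfv, hvf,
    fun y => ?_, fun a ha => ?_⟩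
  · let x := AbDual.tateMapₗ (l := l) (T := SGA7.pt (K := k) Ω) v y
    obtain ⟨b, hb⟩ := hsurj ((y : ℕ → Additive (SGA7.pt (K := k) Ω ⟶ Y)) n).toMul
    have hx : ((x : ℕ → Additive (SGA7.pt (K := k) Ω ⟶ A)) n).toMul ∈ G := by
      rw [← hker]
      show (((y : ℕ → Additive (SGA7.pt (K := k) Ω ⟶ Y)) n).toMul ≫ v) ≫ f = 1
      rw [Category.assoc, hvf, MonObj.comp_pow, Category.comp_id]
      exact y.torsion n
    obtain ⟨a, ha, hax⟩ := (hG _).1 hx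
    obtain ⟨t, ht⟩ := exists_eq_smul_of_component_eq_zero (x - a) n (by
      show (x : ℕ → Additive (SGA7.pt (K := k) Ω ⟶ A)) n - (a : ℕ → Additive (SGA7.pt (K := k) Ω ⟶ A)) n = 0
      rw [hax]
      exact sub_self _)
    exact ⟨a, ha, t, by rw [← ht]; exact (add_sub_cancel a x).symm⟩
  · let z : ℕ → Additive (SGA7.pt (K := k) Ω ⟶ Y) := fun j =>
      Additive.ofMul (((a : ℕ → Additive (SGA7.pt (K := k) Ω ⟶ A)) (n + j)).toMul ≫ f)
    have hz1 : ∀ j, (l ^ j) • z j = 0 := fun j => by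
      rw [← AbDual.nsmul_comp, pow_compat]
      exact congrArg Additive.ofMul ((hker _).2 ((hG _).2 ⟨a, ha, rfl⟩))
    have hz2 : ∀ j, l • z (j + 1) = z j := fun j => by
      rw [← AbDual.nsmul_comp, ← add_assoc, a.compat]
    refine ⟨⟨z, hz1, hz2⟩, AbDual.TateMod.ext fun j => ?_⟩
    rw [tateMapₗ_component]
    show Additive.ofMul ((((a : ℕ → Additive (SGA7.pt (K := k) Ω ⟶ A)) (n + j)).toMul ≫ f) ≫ v) = _
    rw [Category.assoc, hfv, MonObj.comp_pow, Category.comp_id, add_comm n j]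
    exact pow_compat a j n

theorem exists_endo_range (hl : (l : k) ≠ 0)
    (hFin : ∃ (J : Type u) (_ : Finite J) (F : J → Over (Spec (CommRingCat.of k))),
        ∀ (Y : Over (Spec (CommRingCat.of k))) [GrpObj Y] [IsCommMonObj Y] [IsProper Y.hom] [GeometricallyIntegral Y.hom]
          (u : A ⟶ Y) [IsMonHom u] (v : Y ⟶ A) [IsMonHom v] (m : ℕ),
          u ≫ v = (𝟙 A) ^ (l ^ m) → v ≫ u = (𝟙 Y) ^ (l ^ m) → ∃ i, Nonempty (Y ≅ F i))
    [Module.Free ℤ_[l] (AbDual.TateMod A l (SGA7.pt (K := k) Ω))]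
    [Module.Finite ℤ_[l] (AbDual.TateMod A l (SGA7.pt (K := k) Ω))]
    (Λ : Submodule ℤ_[l] (AbDual.TateMod A l (SGA7.pt (K := k) Ω)))
    (hgal : ∀ (σ : Ω ≃ₐ[k] Ω), ∀ x ∈ Λ, ∃ y ∈ Λ, ∀ m,
      ((y : ℕ → Additive (SGA7.pt (K := k) Ω ⟶ A)) m).toMul =
        SGA7.galAct σ ((x : ℕ → Additive (SGA7.pt (K := k) Ω ⟶ A)) m).toMul) :
    ∃ s ∈ Submodule.span ℤ_[l] {ψ : Module.End ℤ_[l] (AbDual.TateMod A l (SGA7.pt (K := k) Ω)) |
        ∃ (f : A ⟶ A) (_ : IsMonHom f), ψ = AbDual.tateMapₗ (l := l) (T := SGA7.pt (K := k) Ω) f},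
      (∀ t, s t ∈ Λ) ∧ ∃ c : ℕ, ∀ a ∈ Λ, ∃ t, s t = l ^ c • a := by
  obtain ⟨J, hJ, F, hF⟩ := hFin
  choose Y hY1 hY2 hY3 hY4 f hf v hv hfv hvf hle hge using exists_isogeny_range hl Λ hgal
  have hidx : ∀ n, ∃ i, Nonempty (Y n ≅ F i) := fun n => @hF (Y n) (hY1 n) (hY2 n) (hY3 n) (hY4 n) (f n) (hf n) (v n) (hv n) n (hfv n) (hvf n)
  choose idx hidx using hidx
  obtain ⟨i, hi⟩ := Finite.exists_infinite_fiber idx
  rw [Set.infinite_coe_iff] at hi
  obtain ⟨c, hc⟩ := hi.nonempty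
  have hYi : ∀ m, idx m = i → Nonempty (Y m ≅ F i) := fun m hm => hm ▸ hidx m
  have key : ∀ n, ∃ s ∈ Submodule.span ℤ_[l] {ψ : Module.End ℤ_[l] (AbDual.TateMod A l (SGA7.pt (K := k) Ω)) |
        ∃ (f : A ⟶ A) (_ : IsMonHom f), ψ = AbDual.tateMapₗ (l := l) (T := SGA7.pt (K := k) Ω) f},
      (∀ t, ∃ a ∈ Λ, ∃ t', s t = a + l ^ n • t') ∧ ∀ a ∈ Λ, ∃ t t', l ^ c • a = s t + l ^ n • t' := by
    intro n
    obtain ⟨m, hm, hnm⟩ := hi.exists_gt n
    letI := hY1 m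
    letI := hY1 c
    haveI := hY2 m
    haveI := hY2 c
    haveI := hY3 m
    haveI := hY3 c
    haveI := hY4 m
    haveI := hY4 c
    haveI := hf c
    haveI := hv c
    haveI := hv m
    obtain ⟨e₁⟩ := hYi c hc
    obtain ⟨e₂⟩ := hYi m hm
    obtain ⟨e, _, _⟩ := exists_hom_iso (e₁ ≪≫ e₂.symm)
    refine ⟨_, Submodule.subset_span ⟨f c ≫ e.hom ≫ v m, inferInstance, rfl⟩, fun t => ?_, fun a ha => ?_⟩
    · obtain ⟨a, ha, t', ht⟩ := hle m (AbDual.tateMapₗ (l := l) (T := SGA7.pt (K := k) Ω) e.hom (AbDual.tateMapₗ (f c) t))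
      refine ⟨a, ha, l ^ (m - n) • t', ?_⟩
      rw [tateMapₗ_comp, tateMapₗ_comp, ht, ← mul_smul, ← pow_add, Nat.add_sub_cancel' hnm.le]
    · obtain ⟨y, hy⟩ := hge m a ha
      refine ⟨AbDual.tateMapₗ (l := l) (T := SGA7.pt (K := k) Ω) (v c) (AbDual.tateMapₗ e.inv y), 0, ?_⟩
      rw [smul_zero, add_zero, tateMapₗ_comp, tateMapₗ_comp, tateMapₗ_comp_eq_pow (v c) (f c) (hvf c), map_nsmul,
        map_nsmul, tateMapₗ_comp_eq_pow e.inv e.hom (N := 1) (by rw [e.inv_hom_id, pow_one]), one_nsmul, hy]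
  obtain ⟨s, hs, h1, h2⟩ := exists_mem_span_range _ Λ c key
  exact ⟨s, hs, h1, c, h2⟩

end TateThmLib

end
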