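import Groth.Agent.TateThmLib.VMap
import Groth.Agent.AVAmpleLib.TateLattice
import Groth.Agent.AVAmpleLib.ProdAV
import Groth.Agent.S16851

/-!
The commutant of the Galois action on the rational Tate module.
-/

set_option autoImplicit false
set_option linter.style.haveILetI false
set_option linter.unusedSectionVars false
set_option backward.isDefEq.respectTransparency false
set_option maxHeartbeats 1000000
set_option synthInstance.maxHeartbeats 400000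

noncomputable section

universe u

open CategoryTheory CategoryTheory.Limits MonoidalCategory CartesianMonoidalCategory MonObj AlgebraicGeometry
open scoped TensorProduct

namespace TateThmLib

section LinAlg

variable {K V Y : Type*} [Field K] [AddCommGroup V] [Module K V] [AddCommGroup Y] [Module K Y]
  (P₁ P₂ : Y →ₗ[K] V) (Q₁ Q₂ : V →ₗ[K] Y)

theorem map_graph_le (φ g : Module.End K V) (G : Module.End K Y) (h₁ : P₁ ∘ₗ G = g ∘ₗ P₁) (h₂ : P₂ ∘ₗ G = g ∘ₗ P₂)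
    (hφ : φ ∘ₗ g = g ∘ₗ φ) : (LinearMap.ker (P₂ - φ ∘ₗ P₁)).map G ≤ LinearMap.ker (P₂ - φ ∘ₗ P₁) := by
  rintro _ ⟨w, hw, rfl⟩
  simp only [SetLike.mem_coe, LinearMap.mem_ker, LinearMap.sub_apply, LinearMap.comp_apply, sub_eq_zero] at hw ⊢
  have e1 := LinearMap.congr_fun h₁ w
  have e2 := LinearMap.congr_fun h₂ w
  have e3 := LinearMap.congr_fun hφ (P₁ w)
  simp only [LinearMap.comp_apply] at e1 e2 e3
  rw [e1, e2, hw, e3]

theorem doubled_commute (hsum : ∀ w, Q₁ (P₁ w) + Q₂ (P₂ w) = w) (d : Module.End K V) (N : Module.End K Y)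
    (c11 : d ∘ₗ (P₁ ∘ₗ N ∘ₗ Q₁) = (P₁ ∘ₗ N ∘ₗ Q₁) ∘ₗ d) (c12 : d ∘ₗ (P₁ ∘ₗ N ∘ₗ Q₂) = (P₁ ∘ₗ N ∘ₗ Q₂) ∘ₗ d)
    (c21 : d ∘ₗ (P₂ ∘ₗ N ∘ₗ Q₁) = (P₂ ∘ₗ N ∘ₗ Q₁) ∘ₗ d) (c22 : d ∘ₗ (P₂ ∘ₗ N ∘ₗ Q₂) = (P₂ ∘ₗ N ∘ₗ Q₂) ∘ₗ d) :
    (Q₁ ∘ₗ d ∘ₗ P₁ + Q₂ ∘ₗ d ∘ₗ P₂) ∘ₗ N = N ∘ₗ (Q₁ ∘ₗ d ∘ₗ P₁ + Q₂ ∘ₗ d ∘ₗ P₂) := by
  refine LinearMap.ext fun w => ?_
  simp only [LinearMap.ext_iff, LinearMap.comp_apply] at c11 c12 c21 c22
  simp only [LinearMap.comp_apply, LinearMap.add_apply]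
  conv_lhs => rw [← hsum w]
  conv_rhs => rw [← hsum (N _)]
  simp only [map_add, c11, c12, c21, c22]

theorem commute_of_mem_span (s : Set (Module.End K Y)) (D : Module.End K Y) (h : ∀ x ∈ s, D ∘ₗ x = x ∘ₗ D)
    (u : Module.End K Y) (hu : u ∈ Submodule.span K s) : D ∘ₗ u = u ∘ₗ D := by
  induction hu using Submodule.span_induction with
  | mem x hx => exact h x hx
  | zero => rw [LinearMap.zero_comp, LinearMap.comp_zero]
  | add x y _ _ hx hy => rw [LinearMap.add_comp, LinearMap.comp_add, hx, hy]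
  | smul a x _ hx => rw [LinearMap.smul_comp, LinearMap.comp_smul, hx]

theorem commute_of_graph (h11 : ∀ v, P₁ (Q₁ v) = v) (h22 : ∀ v, P₂ (Q₂ v) = v) (h12 : ∀ v, P₁ (Q₂ v) = 0)
    (h21 : ∀ v, P₂ (Q₁ v) = 0) (hsum : ∀ w, Q₁ (P₁ w) + Q₂ (P₂ w) = w) (φ d : Module.End K V) (u : Module.End K Y)
    (hur : LinearMap.range u = LinearMap.ker (P₂ - φ ∘ₗ P₁))
    (hdu : (Q₁ ∘ₗ d ∘ₗ P₁ + Q₂ ∘ₗ d ∘ₗ P₂) ∘ₗ u = u ∘ₗ (Q₁ ∘ₗ d ∘ₗ P₁ + Q₂ ∘ₗ d ∘ₗ P₂)) : φ * d = d * φ := by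
  set D := Q₁ ∘ₗ d ∘ₗ P₁ + Q₂ ∘ₗ d ∘ₗ P₂ with hD
  refine LinearMap.ext fun v => ?_
  have hv : Q₁ v + Q₂ (φ v) ∈ LinearMap.ker (P₂ - φ ∘ₗ P₁) := by
    simp [h11, h12, h21, h22]
  obtain ⟨z, hz⟩ := hur ▸ hv
  have h3 : D (Q₁ v + Q₂ (φ v)) ∈ LinearMap.ker (P₂ - φ ∘ₗ P₁) :=
    hur ▸ ⟨D z, (LinearMap.congr_fun hdu z).symm.trans (congrArg D hz)⟩
  simp [hD, h11, h12, h21, h22, sub_eq_zero] at h3
  exact h3.symm

end LinAlg

variable {k Ω : Type u} [Field k] [Field Ω] [Algebra k Ω] [IsAlgClosure k Ω] {l : ℕ} [Fact l.Prime]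

/-- The finiteness condition of Tate. -/
def Fin' (l : ℕ) (Z : Over (Spec (CommRingCat.of k))) [GrpObj Z] : Prop :=
  ∃ (J : Type u) (_ : Finite J) (F : J → Over (Spec (CommRingCat.of k))),
    ∀ (Y : Over (Spec (CommRingCat.of k))) [GrpObj Y] [IsCommMonObj Y] [IsProper Y.hom] [GeometricallyIntegral Y.hom]
      (u : Z ⟶ Y) [IsMonHom u] (v : Y ⟶ Z) [IsMonHom v] (m : ℕ),
      u ≫ v = (𝟙 Z) ^ (l ^ m) → v ≫ u = (𝟙 Y) ^ (l ^ m) → ∃ i, Nonempty (Y ≅ F i)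

variable (hl : (l : k) ≠ 0) (X : Over (Spec (CommRingCat.of k))) [GrpObj X] [IsCommMonObj X] [IsProper X.hom]
  [GeometricallyIntegral X.hom]

/-- The endomorphisms generating the span. -/
abbrev gens (l : ℕ) [Fact l.Prime] (X : Over (Spec (CommRingCat.of k))) [GrpObj X] [IsCommMonObj X] :
    Set (Module.End ℚ_[l] (VT X l (SGA7.pt (K := k) Ω))) :=
  {ψ | ∃ (f : X ⟶ X) (_ : IsMonHom f), ψ = (AbDual.tateMapₗ (l := l) (T := SGA7.pt Ω) f).baseChange ℚ_[l]}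

/-- Tate's property: stable subspaces are ranges of combinations of endomorphisms. -/
def RangeProp (l : ℕ) [Fact l.Prime] (Ω : Type u) [Field Ω] [Algebra k Ω] (X : Over (Spec (CommRingCat.of k)))
    [GrpObj X] [IsCommMonObj X] : Prop :=
  ∀ W : Submodule ℚ_[l] (VT X l (SGA7.pt (K := k) Ω)),
    (∀ τ : Ω ≃ₐ[k] Ω, W.map ((galT X l τ).baseChange ℚ_[l]) ≤ W) →
    ∃ u ∈ Submodule.span ℚ_[l] (gens (Ω := Ω) l X), LinearMap.range u = W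

include hl in
theorem exists_range_eq (hFin : Fin' l X) (W : Submodule ℚ_[l] (VT X l (SGA7.pt (K := k) Ω)))
    (hW : ∀ τ : Ω ≃ₐ[k] Ω, W.map ((galT X l τ).baseChange ℚ_[l]) ≤ W) :
    ∃ u ∈ Submodule.span ℚ_[l] (gens (Ω := Ω) l X), LinearMap.range u = W := by
  haveI : IsAlgClosed Ω := IsAlgClosure.isAlgClosed k
  have hl' : (l : Ω) ≠ 0 := fun h0 => hl ((algebraMap k Ω).injective (by rw [map_natCast, map_zero]; exact h0))
  obtain ⟨g, hg⟩ := AVAmpleLib.exists_dim_field X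
  obtain ⟨h1, h2, -⟩ := AVAmpleLib.tate_free_finite_finrank_ext Ω X hg l hl'
  exact Groth.Agent.S16851.result k Ω l hl X hFin (galT X l) (galT_component l X) W hW

theorem commute_gal_of_mem (τ : Ω ≃ₐ[k] Ω) {u : Module.End ℚ_[l] (VT X l (SGA7.pt (K := k) Ω))}
    (hu : u ∈ Submodule.span ℚ_[l] (gens (Ω := Ω) l X)) :
    u ∘ₗ (galT X l τ).baseChange ℚ_[l] = (galT X l τ).baseChange ℚ_[l] ∘ₗ u := by
  induction hu using Submodule.span_induction with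
  | mem x hx => obtain ⟨f, hf, rfl⟩ := hx; exact bV_natural l (EndAV.Hom.of f) τ
  | zero => rw [LinearMap.zero_comp, LinearMap.comp_zero]
  | add x y _ _ hx hy => rw [LinearMap.add_comp, LinearMap.comp_add, hx, hy]
  | smul a x _ hx => rw [LinearMap.smul_comp, LinearMap.comp_smul, hx]

include hl in
/-- Semisimplicity of the Galois action. -/
theorem exists_stable_compl (hR : RangeProp l Ω X) (W : Submodule ℚ_[l] (VT X l (SGA7.pt (K := k) Ω)))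
    (hW : ∀ τ : Ω ≃ₐ[k] Ω, W.map ((galT X l τ).baseChange ℚ_[l]) ≤ W) :
    ∃ W', IsCompl W W' ∧ ∀ τ : Ω ≃ₐ[k] Ω, W'.map ((galT X l τ).baseChange ℚ_[l]) ≤ W' := by
  obtain ⟨E, hE, hmem⟩ := exists_endSubalg l X (SGA7.pt (K := k) Ω)
  obtain ⟨u, hu, hur⟩ := hR W hW
  let u' : E := ⟨u, (hmem u).2 hu⟩
  obtain ⟨e, he, hspan⟩ := IsSemisimpleRing.ideal_eq_span_idempotent (Ideal.span {u'})
  obtain ⟨a, ha⟩ : ∃ a, a * u' = e := Ideal.mem_span_singleton'.1 (hspan ▸ Ideal.mem_span_singleton_self e)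
  obtain ⟨b, hb⟩ : ∃ b, b * e = u' := Ideal.mem_span_singleton'.1 (hspan ▸ Ideal.mem_span_singleton_self u')
  have hreg : u' * a * u' = u' := by rw [_root_.mul_assoc, ha, ← hb, _root_.mul_assoc, he.eq]
  let ε : Module.End ℚ_[l] (VT X l (SGA7.pt (K := k) Ω)) := ((u' * a : E) : Module.End _ _)
  have hε : ε * ε = ε := congrArg Subtype.val (show u' * a * (u' * a) = u' * a by rw [← _root_.mul_assoc, hreg])
  have hεu : ε * u = u := congrArg Subtype.val hreg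
  have hrange : LinearMap.range ε = W := by
    refine le_antisymm ?_ ?_
    · rintro _ ⟨v, rfl⟩
      rw [← hur]
      exact ⟨_, rfl⟩
    · rw [← hur]
      rintro _ ⟨v, rfl⟩
      exact ⟨u v, LinearMap.congr_fun hεu v⟩
  refine ⟨LinearMap.ker ε, hrange ▸ LinearMap.IsIdempotentElem.isCompl hε, fun τ => ?_⟩
  rintro _ ⟨v, hv, rfl⟩
  have h1 := LinearMap.congr_fun (commute_gal_of_mem X τ ((hmem ε).1 (u' * a).2)) v
  simp only [LinearMap.comp_apply] at h1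
  rw [LinearMap.mem_ker, h1, LinearMap.mem_ker.1 hv, map_zero]

theorem comp_mem_gens {Y : Over (Spec (CommRingCat.of k))} [GrpObj Y] [IsCommMonObj Y] (a : EndAV.Hom X Y)
    (c : EndAV.Hom Y Y) (b : EndAV.Hom Y X) :
    bV l (SGA7.pt (K := k) Ω) b ∘ₗ bV l (SGA7.pt (K := k) Ω) c ∘ₗ bV l (SGA7.pt (K := k) Ω) a ∈
      gens (Ω := Ω) l X := by
  rw [← bV_comp, ← bV_comp]
  let e : EndAV.Hom X X := (a ≫ c) ≫ b
  exact ⟨e.toHom, inferInstance, rfl⟩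

theorem bV_of_mem {Y : Over (Spec (CommRingCat.of k))} [GrpObj Y] [IsCommMonObj Y] {x}
    (hx : x ∈ gens (Ω := Ω) l Y) : ∃ c : EndAV.Hom Y Y, x = bV l (SGA7.pt (K := k) Ω) c := by
  obtain ⟨f, hf, rfl⟩ := hx
  exact ⟨EndAV.Hom.of f, rfl⟩

/-- The projections and injections of the square. -/
theorem exists_prodData [IsCommMonObj (X ⊗ X)] :
    let T := SGA7.pt (K := k) Ω
    ∃ (p₁ p₂ : EndAV.Hom (X ⊗ X) X) (i₁ i₂ : EndAV.Hom X (X ⊗ X)),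
      (∀ v, bV l T p₁ (bV l T i₁ v) = v) ∧ (∀ v, bV l T p₂ (bV l T i₂ v) = v) ∧
      (∀ v, bV l T p₁ (bV l T i₂ v) = 0) ∧ (∀ v, bV l T p₂ (bV l T i₁ v) = 0) ∧
      ∀ w, bV l T i₁ (bV l T p₁ w) + bV l T i₂ (bV l T p₂ w) = w := by
  intro T
  haveI : IsMonHom (1 : X ⟶ X) := inferInstanceAs (IsMonHom (0 : EndAV.Hom X X).toHom)
  let p₁ : EndAV.Hom (X ⊗ X) X := EndAV.Hom.of (fst X X)
  let p₂ : EndAV.Hom (X ⊗ X) X := EndAV.Hom.of (snd X X)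
  let i₁ : EndAV.Hom X (X ⊗ X) := EndAV.Hom.of (lift (𝟙 X) 1)
  let i₂ : EndAV.Hom X (X ⊗ X) := EndAV.Hom.of (lift 1 (𝟙 X))
  have h11 : ∀ v, bV l T p₁ (bV l T i₁ v) = v := fun v => by
    show (bV l T p₁ ∘ₗ bV l T i₁) v = v
    rw [← bV_comp, show (i₁ ≫ p₁ : EndAV.Hom X X) = 𝟙 (CommGrp.mk X) from EndAV.Hom.ext (lift_fst _ _), bV_id]
    rfl
  have h22 : ∀ v, bV l T p₂ (bV l T i₂ v) = v := fun v => by
    show (bV l T p₂ ∘ₗ bV l T i₂) v = v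
    rw [← bV_comp, show (i₂ ≫ p₂ : EndAV.Hom X X) = 𝟙 (CommGrp.mk X) from EndAV.Hom.ext (lift_snd _ _), bV_id]
    rfl
  have h12 : ∀ v, bV l T p₁ (bV l T i₂ v) = 0 := fun v => by
    show (bV l T p₁ ∘ₗ bV l T i₂) v = 0
    rw [← bV_comp, show (i₂ ≫ p₁ : EndAV.Hom X X) = 0 from EndAV.Hom.ext (lift_fst _ _), map_zero]
    rfl
  have h21 : ∀ v, bV l T p₂ (bV l T i₁ v) = 0 := fun v => by
    show (bV l T p₂ ∘ₗ bV l T i₁) v = 0
    rw [← bV_comp, show (i₁ ≫ p₂ : EndAV.Hom X X) = 0 from EndAV.Hom.ext (lift_snd _ _), map_zero]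
    rfl
  have hsum : ∀ w, bV l T i₁ (bV l T p₁ w) + bV l T i₂ (bV l T p₂ w) = w := fun w => by
    show (bV l T i₁ ∘ₗ bV l T p₁ + bV l T i₂ ∘ₗ bV l T p₂) w = w
    have he : (p₁ ≫ i₁ + p₂ ≫ i₂ : EndAV.Hom (X ⊗ X) (X ⊗ X)) = 𝟙 (CommGrp.mk (X ⊗ X)) := by
      refine EndAV.Hom.ext ?_
      show (fst X X ≫ lift (𝟙 X) 1) * (snd X X ≫ lift 1 (𝟙 X)) = 𝟙 (X ⊗ X)
      refine CartesianMonoidalCategory.hom_ext _ _ ?_ ?_
      · rw [MonObj.mul_comp, Category.assoc, Category.assoc, lift_fst, lift_fst, MonObj.comp_one, _root_.mul_one,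
          Category.comp_id, Category.id_comp]
      · rw [MonObj.mul_comp, Category.assoc, Category.assoc, lift_snd, lift_snd, MonObj.comp_one, _root_.one_mul,
          Category.comp_id, Category.id_comp]
    rw [← bV_comp, ← bV_comp, ← map_add, he, bV_id]
    rfl
  exact ⟨p₁, p₂, i₁, i₂, h11, h22, h12, h21, hsum⟩

set_option maxHeartbeats 4000000 in
include hl in
/-- The commutant of the Galois action. -/
theorem mem_span_of_commute [IsCommMonObj (X ⊗ X)] (hR : RangeProp l Ω (X ⊗ X))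
    (φ : Module.End ℚ_[l] (VT X l (SGA7.pt (K := k) Ω)))
    (hφ : ∀ τ : Ω ≃ₐ[k] Ω, φ ∘ₗ (galT X l τ).baseChange ℚ_[l] = (galT X l τ).baseChange ℚ_[l] ∘ₗ φ) :
    φ ∈ Submodule.span ℚ_[l] (gens (Ω := Ω) l X) := by
  haveI : IsAlgClosed Ω := IsAlgClosure.isAlgClosed k
  have hl' : (l : Ω) ≠ 0 := fun h0 => hl ((algebraMap k Ω).injective (by rw [map_natCast, map_zero]; exact h0))
  obtain ⟨g, hg⟩ := AVAmpleLib.exists_dim_field X
  obtain ⟨h1, h2, -⟩ := AVAmpleLib.tate_free_finite_finrank_ext Ω X hg l hl'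
  obtain ⟨E, hE, hmem⟩ := exists_endSubalg l X (SGA7.pt (K := k) Ω)
  refine (hmem φ).1 (mem_of_commute_centralizer E φ fun d hd => ?_)
  haveI : IsProper (X ⊗ X).hom := inferInstanceAs (IsProper (pullback.fst X.hom X.hom ≫ X.hom))
  haveI : GeometricallyIntegral (X ⊗ X).hom := CubeConsLib.geometricallyIntegral_prod X.hom X.hom
  haveI : IsMonHom (1 : X ⟶ X) := inferInstanceAs (IsMonHom (0 : EndAV.Hom X X).toHom)
  let T := SGA7.pt (K := k) Ω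
  obtain ⟨p₁, p₂, i₁, i₂, h11, h22, h12, h21, hsum⟩ := exists_prodData (l := l) (Ω := Ω) X
  let P₁ := bV l T p₁
  let P₂ := bV l T p₂
  let Q₁ := bV l T i₁
  let Q₂ := bV l T i₂
  let W : Submodule ℚ_[l] (VT (X ⊗ X) l T) := LinearMap.ker (P₂ - φ ∘ₗ P₁)
  have hW : ∀ τ : Ω ≃ₐ[k] Ω, W.map ((galT (X ⊗ X) l τ).baseChange ℚ_[l]) ≤ W := fun τ =>
    map_graph_le P₁ P₂ φ _ _ (bV_natural l p₁ τ) (bV_natural l p₂ τ) (hφ τ)
  obtain ⟨u, hu, hur⟩ := hR W hW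
  refine commute_of_graph P₁ P₂ Q₁ Q₂ h11 h22 h12 h21 hsum φ d u hur ?_
  refine commute_of_mem_span (gens (Ω := Ω) l (X ⊗ X)) _ (fun x hx => ?_) u hu
  obtain ⟨c, rfl⟩ := bV_of_mem hx
  have hcm : ∀ (a : EndAV.Hom X (X ⊗ X)) (b : EndAV.Hom (X ⊗ X) X),
      d ∘ₗ (bV l T b ∘ₗ bV l T c ∘ₗ bV l T a) = (bV l T b ∘ₗ bV l T c ∘ₗ bV l T a) ∘ₗ d := fun a b =>
    hd _ ((hmem _).2 (Submodule.subset_span (comp_mem_gens X a c b)))
  exact doubled_commute P₁ P₂ Q₁ Q₂ hsum d (bV l T c) (hcm i₁ p₁) (hcm i₂ p₁) (hcm i₁ p₂) (hcm i₂ p₂)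

end TateThmLib

end
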