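import Groth.Agent.TateThmLib.ZBound
import Groth.Agent.TateThmLib.SchemeFinite
import Groth.Agent.TateThmLib.Range
import Groth.Agent.TateThmLib.Commutant
import Groth.Agent.AVAmpleLib.RelMul

/-!
Tate's lemma over a finite field: Galois-stable subspaces of the rational Tate module are images of endomorphisms.
-/

set_option autoImplicit false
set_option maxHeartbeats 1000000
set_option maxRecDepth 8000
set_option backward.isDefEq.respectTransparency false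
set_option linter.style.haveILetI false
set_option linter.unusedSectionVars false

noncomputable section

universe u

open CategoryTheory CategoryTheory.Limits MonoidalCategory CartesianMonoidalCategory MonObj AlgebraicGeometry
open CubeConsLib
open scoped TensorProduct
open TateThmLib.Zar (A4)

namespace TateThmLib

variable {k : Type u} [Field k]

theorem finite_surj_of_mul {X Y : Over (Spec (CommRingCat.of k))} [GrpObj X] [IsProper X.hom] [GeometricallyIntegral X.hom]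
    [GrpObj Y] [IsProper Y.hom] [GeometricallyIntegral Y.hom] (f : X ⟶ Y) (v : Y ⟶ X) {N : ℕ} (hN : N ≠ 0)
    (h₁ : f ≫ v = 𝟙 X ^ N) (h₂ : v ≫ f = 𝟙 Y ^ N) : IsFinite f.left ∧ Surjective f.left := by
  haveI : IsFinite (f.left ≫ v.left) := by
    rw [← Over.comp_left, h₁, ← zpow_natCast]
    exact AVAmpleLib.isFinite_zpow X (Int.natCast_ne_zero.2 hN)
  haveI : Surjective (v.left ≫ f.left) := by
    rw [← Over.comp_left, h₂, ← zpow_natCast]
    exact AVAmpleLib.surjective_zpow Y (Int.natCast_ne_zero.2 hN)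
  haveI : IsProper v.left := by
    haveI : IsProper (v.left ≫ X.hom) := by rw [Over.w]; infer_instance
    exact IsProper.of_comp v.left X.hom
  exact ⟨IsFinite.of_comp f.left v.left, Surjective.of_comp v.left f.left⟩

/-- An infinite class of a relation with finitely many classes. -/
theorem exists_infinite_class (Z : ℕ → Over (Spec (CommRingCat.of k)))
    (h : ∀ (I : Type u) [Infinite I] (ι' : I → ℕ), ∃ i i', i ≠ i' ∧ Nonempty (Z (ι' i) ≅ Z (ι' i'))) :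
    ∃ n₀, ∀ n, ∃ m, n < m ∧ Nonempty (Z n₀ ≅ Z m) := by
  let R : Setoid ℕ := ⟨fun i j => Nonempty (Z i ≅ Z j),
    ⟨fun _ => ⟨Iso.refl _⟩, fun ⟨e⟩ => ⟨e.symm⟩, fun ⟨e⟩ ⟨e'⟩ => ⟨e ≪≫ e'⟩⟩⟩
  haveI : Finite (Quotient R) := by
    by_contra hinf
    haveI : Infinite (Quotient R) := not_finite_iff_infinite.1 hinf
    obtain ⟨i, i', hne, he⟩ := h (ULift.{u} (Quotient R)) fun q => q.down.out
    exact hne (ULift.ext _ _ (Quotient.out_equiv_out.1 he))
  obtain ⟨q, hq⟩ := Finite.exists_infinite_fiber (fun n : ℕ => (Quotient.mk R n))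
  rw [Set.infinite_coe_iff] at hq
  refine ⟨q.out, fun n => ?_⟩
  obtain ⟨m, hm, hnm⟩ := hq.exists_gt n
  refine ⟨m, hnm, Quotient.exact (s := R) ?_⟩
  rw [Quotient.out_eq]
  exact hm.symm

variable [Finite k] {Ω : Type u} [Field Ω] [Algebra k Ω] [IsAlgClosure k Ω] [IsAlgClosed Ω] [Normal k Ω]
  {l : ℕ} [Fact l.Prime]

set_option maxHeartbeats 4000000 in
/-- A stable lattice is the range of a combination of homomorphisms from a quotient of the eighth power. -/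
theorem exists_lin_range (hl : (l : k) ≠ 0) (X : Over (Spec (CommRingCat.of k))) [GrpObj X] [IsCommMonObj X]
    [IsProper X.hom] [GeometricallyIntegral X.hom]
    (Λ : Submodule ℤ_[l] (AbDual.TateMod X l (SGA7.pt (K := k) Ω)))
    (hgal : ∀ (σ : Ω ≃ₐ[k] Ω), ∀ x ∈ Λ, ∃ y ∈ Λ, ∀ m,
      ((y : ℕ → Additive (SGA7.pt (K := k) Ω ⟶ X)) m).toMul =
        SGA7.galAct σ ((x : ℕ → Additive (SGA7.pt (K := k) Ω ⟶ X)) m).toMul) :
    ∃ (Z : Over (Spec (CommRingCat.of k))) (_ : GrpObj Z) (_ : IsCommMonObj Z) (_ : IsProper Z.hom)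
      (_ : GeometricallyIntegral Z.hom) (φ : A4 X ⊗ A4 X ⟶ Z) (_ : IsMonHom φ),
      IsFinite φ.left ∧ Surjective φ.left ∧
      ∃ s ∈ Submodule.span ℤ_[l] {ψ : AbDual.TateMod Z l (SGA7.pt (K := k) Ω) →ₗ[ℤ_[l]]
          AbDual.TateMod X l (SGA7.pt (K := k) Ω) |
          ∃ (f : Z ⟶ X) (_ : IsMonHom f), ψ = AbDual.tateMapₗ (l := l) (T := SGA7.pt (K := k) Ω) f},
        (∀ t, s t ∈ Λ) ∧ ∀ a ∈ Λ, ∃ t, s t = a := by
  have hlΩ : (l : Ω) ≠ 0 := fun h0 => hl ((algebraMap k Ω).injective (by rw [map_natCast, map_zero]; exact h0))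
  obtain ⟨D, c, r, hr, hQ⟩ := exists_bounded_quot X
  choose Y hY1 hY2 hY3 hY4 f hf v hv hfv hvf hle hge using exists_isogeny_range hl Λ hgal
  have hN : ∀ n, l ^ n ≠ 0 := fun n => pow_ne_zero _ (Fact.out : l.Prime).ne_zero
  have hQ' : ∀ n, _ := fun n => @hQ (Y n) (hY1 n) (hY2 n) (hY3 n) (hY4 n) (f n) (hf n)
    (@finite_surj_of_mul k _ X (Y n) _ _ _ (hY1 n) (hY3 n) (hY4 n) (f n) (v n) _ (hN n) (hfv n) (hvf n)).1
    (@finite_surj_of_mul k _ X (Y n) _ _ _ (hY1 n) (hY3 n) (hY4 n) (f n) (v n) _ (hN n) (hfv n) (hvf n)).2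
    (v n) (hv n)
    (@finite_surj_of_mul k _ (Y n) X (hY1 n) (hY3 n) (hY4 n) _ _ _ (v n) (f n) _ (hN n) (hvf n) (hfv n)).1
    (@finite_surj_of_mul k _ (Y n) X (hY1 n) (hY3 n) (hY4 n) _ _ _ (v n) (f n) _ (hN n) (hvf n) (hfv n)).2
  choose Z hZ1 hZ2 hZ3 hZ4 φ hφ hφf hφs p hp s hs hsp hdim N hNa hχ using hQ'
  obtain ⟨n₀, hn₀⟩ := exists_infinite_class Z fun I _ j => by
    haveI : ∀ i, IsIntegral (Z (j i)).left := fun i =>
      haveI := hZ4 (j i)
      GeometricallyIntegral.isIntegral_of_subsingleton (Z (j i)).hom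
    haveI : ∀ i, GrpObj (Z (j i)) := fun i => hZ1 (j i)
    haveI : ∀ i, IsProper (Z (j i)).hom := fun i => hZ3 (j i)
    haveI : ∀ i, GeometricallyIntegral (Z (j i)).hom := fun i => hZ4 (j i)
    obtain ⟨i₁⟩ : Nonempty I := inferInstance
    exact exists_iso_of_bounded (fun i => Z (j i)) (fun i => hdim (j i)) (fun i => N (j i)) (fun i => (hNa (j i)).1)
      (fun i => hNa (j i)) _ fun i => mul_left_cancel₀ (Int.natCast_ne_zero.2 hr.ne')
        ((hχ (j i)).trans (hχ (j i₁)).symm)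
  letI := hZ1 n₀
  haveI := hZ2 n₀
  haveI := hZ3 n₀
  haveI := hZ4 n₀
  refine ⟨Z n₀, hZ1 n₀, hZ2 n₀, hZ3 n₀, hZ4 n₀, φ n₀, hφ n₀, hφf n₀, hφs n₀, ?_⟩
  obtain ⟨g, hg⟩ := AVAmpleLib.exists_dim_field X
  obtain ⟨_, _, -⟩ := AVAmpleLib.tate_free_finite_finrank_ext Ω X hg l hlΩ
  obtain ⟨_, _, -⟩ := AVAmpleLib.tate_free_finite_finrank_ext Ω (Z n₀) (hdim n₀) l hlΩ
  refine (exists_mem_span_range _ Λ 0 fun n => ?_).imp fun s hs => ⟨hs.1, hs.2.1, fun a ha => ?_⟩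
  swap
  · obtain ⟨t, ht⟩ := hs.2.2 a ha
    exact ⟨t, by rwa [pow_zero, one_smul] at ht⟩
  obtain ⟨m, hnm, ⟨e₀⟩⟩ := hn₀ n
  letI := hY1 m
  haveI := hY2 m
  haveI := hY3 m
  haveI := hY4 m
  haveI := hv m
  letI := hZ1 m
  haveI := hZ2 m
  haveI := hZ3 m
  haveI := hZ4 m
  haveI := hp m
  haveI := hs m
  obtain ⟨e, _, _⟩ := exists_hom_iso e₀
  refine ⟨_, Submodule.subset_span ⟨e.hom ≫ p m ≫ v m, inferInstance, rfl⟩, fun t => ?_, fun a ha => ?_⟩
  · obtain ⟨a, ha, t', ht⟩ := hle m (AbDual.tateMapₗ (l := l) (T := SGA7.pt (K := k) Ω) (p m) (AbDual.tateMapₗ e.hom t))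
    refine ⟨a, ha, l ^ (m - n) • t', ?_⟩
    rw [tateMapₗ_comp, tateMapₗ_comp, ht, ← mul_smul, ← pow_add, Nat.add_sub_cancel' hnm.le]
  · obtain ⟨y, hy⟩ := hge m a ha
    refine ⟨AbDual.tateMapₗ (l := l) (T := SGA7.pt (K := k) Ω) e.inv (AbDual.tateMapₗ (s m) y), 0, ?_⟩
    rw [smul_zero, add_zero, pow_zero, one_smul, tateMapₗ_comp, tateMapₗ_comp,
      tateMapₗ_comp_eq_pow e.inv e.hom (N := 1) (by rw [e.inv_hom_id, pow_one]), one_nsmul,
      tateMapₗ_comp_eq_pow (s m) (p m) (N := 1) (by rw [hsp m, pow_one]), one_nsmul, hy]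

section Good

/-- Two elements of a semisimple algebra of linear maps have an element whose range is the sum. -/
theorem exists_range_sup {K V : Type*} [Field K] [AddCommGroup V] [Module K V] (E : Subalgebra K (Module.End K V))
    [IsSemisimpleRing E] (u w : E) :
    ∃ x : E, LinearMap.range (x : Module.End K V) =
      LinearMap.range (u : Module.End K V) ⊔ LinearMap.range (w : Module.End K V) := by
  have reg : ∀ v : E, ∃ a, v * a * v = v := fun v => by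
    obtain ⟨e, he, hspan⟩ := IsSemisimpleRing.ideal_eq_span_idempotent (Ideal.span {v})
    obtain ⟨a, ha⟩ : ∃ a, a * v = e := Ideal.mem_span_singleton'.1 (hspan ▸ Ideal.mem_span_singleton_self e)
    obtain ⟨b, hb⟩ : ∃ b, b * e = v := Ideal.mem_span_singleton'.1 (hspan ▸ Ideal.mem_span_singleton_self v)
    exact ⟨a, by rw [_root_.mul_assoc, ha, ← hb, _root_.mul_assoc, he.eq]⟩
  obtain ⟨a, ha⟩ := reg u
  let ε := u * a
  let w' := w - ε * w
  obtain ⟨b, hb⟩ := reg w'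
  have h0 : ε * w' = 0 := by
    simp only [w', ε, mul_sub, ← _root_.mul_assoc]
    rw [ha, sub_self]
  let x := ε + w' * b * (1 - ε)
  have hxu : x * u = u := by
    simp only [x, ε, add_mul, mul_sub, sub_mul, _root_.mul_assoc, _root_.one_mul]
    rw [← _root_.mul_assoc u a u, ha, sub_self, add_zero]
  have hxw : x * w' = w' := by
    rw [show x * w' = ε * w' + w' * b * (w' - ε * w') from by simp only [x]; noncomm_ring, h0, sub_zero, zero_add, hb]
  refine ⟨x, le_antisymm ?_ (sup_le ?_ ?_)⟩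
  · rintro _ ⟨v, rfl⟩
    have hw' : ∀ z, (w' : Module.End K V) z ∈ LinearMap.range (u : Module.End K V) ⊔ LinearMap.range (w : Module.End K V) :=
      fun z => Submodule.sub_mem _ (Submodule.mem_sup_right ⟨z, rfl⟩) (Submodule.mem_sup_left ⟨_, rfl⟩)
    exact Submodule.add_mem _ (Submodule.mem_sup_left ⟨_, rfl⟩) (hw' _)
  · rintro _ ⟨v, rfl⟩
    exact ⟨(u : Module.End K V) v, LinearMap.congr_fun (congrArg Subtype.val hxu) v⟩
  · rintro _ ⟨v, rfl⟩
    have h1 : (w : Module.End K V) v = (x : Module.End K V) ((w' : Module.End K V) v) +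
        (x : Module.End K V) ((u : Module.End K V) ((a : Module.End K V) ((w : Module.End K V) v))) := by
      have e1 := LinearMap.congr_fun (congrArg Subtype.val hxw) v
      have e2 := LinearMap.congr_fun (congrArg Subtype.val hxu) ((a : Module.End K V) ((w : Module.End K V) v))
      simp only [Subalgebra.coe_mul, Module.End.mul_apply] at e1 e2
      rw [e1, e2]
      show _ = (w : Module.End K V) v - _ + _
      exact (sub_add_cancel _ _).symm
    rw [h1]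
    exact Submodule.add_mem _ ⟨_, rfl⟩ ⟨_, rfl⟩

variable (l)
variable (X : Over (Spec (CommRingCat.of k))) [GrpObj X] [IsCommMonObj X]

/-- The maps induced by homomorphisms. -/
abbrev homs (Ω : Type u) [Field Ω] [Algebra k Ω] (A : Over (Spec (CommRingCat.of k))) [GrpObj A] [IsCommMonObj A] :
    Set (VT A l (SGA7.pt (K := k) Ω) →ₗ[ℚ_[l]] VT X l (SGA7.pt (K := k) Ω)) :=
  Set.range fun g : EndAV.Hom A X => bV l (SGA7.pt (K := k) Ω) g

/-- Every combination of homomorphisms into `X` has the range of a combination of endomorphisms. -/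
def Good (Ω : Type u) [Field Ω] [Algebra k Ω] [IsAlgClosure k Ω] (A : Over (Spec (CommRingCat.of k))) [GrpObj A]
    [IsCommMonObj A] : Prop :=
  ∀ s ∈ Submodule.span ℚ_[l] (homs l X Ω A),
    ∃ u ∈ Submodule.span ℚ_[l] (gens (k := k) (Ω := Ω) l X), LinearMap.range u = LinearMap.range s

variable {X}

theorem span_comp {A B : Over (Spec (CommRingCat.of k))} [GrpObj A] [IsCommMonObj A] [GrpObj B] [IsCommMonObj B]
    (h : EndAV.Hom A B) {s} (hs : s ∈ Submodule.span ℚ_[l] (homs l X Ω B)) :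
    s ∘ₗ bV l (SGA7.pt (K := k) Ω) h ∈
      Submodule.span ℚ_[l] (homs l X Ω A) := by
  induction hs using Submodule.span_induction with
  | mem x hx =>
    obtain ⟨g, rfl⟩ := hx
    rw [← bV_comp]
    exact Submodule.subset_span ⟨_, rfl⟩
  | zero => rw [LinearMap.zero_comp]; exact Submodule.zero_mem _
  | add x y _ _ hx hy => rw [LinearMap.add_comp]; exact Submodule.add_mem _ hx hy
  | smul a x _ hx => rw [LinearMap.smul_comp]; exact Submodule.smul_mem _ _ hx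

theorem good_self : Good l X Ω X := fun s hs => by
  refine ⟨s, Submodule.span_le.2 ?_ hs, rfl⟩
  rintro _ ⟨g, rfl⟩
  exact Submodule.subset_span ⟨g.toHom, inferInstance, rfl⟩

theorem prod_sum {A B : Over (Spec (CommRingCat.of k))} [GrpObj A] [IsCommMonObj A] [GrpObj B] [IsCommMonObj B]
    [IsCommMonObj (A ⊗ B)] :
    ∃ (p₁ : EndAV.Hom (A ⊗ B) A) (p₂ : EndAV.Hom (A ⊗ B) B) (i₁ : EndAV.Hom A (A ⊗ B)) (i₂ : EndAV.Hom B (A ⊗ B)),
      p₁ ≫ i₁ + p₂ ≫ i₂ = 𝟙 (CommGrp.mk (A ⊗ B)) := by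
  haveI : IsMonHom (1 : A ⟶ B) := inferInstanceAs (IsMonHom (0 : EndAV.Hom A B).toHom)
  haveI : IsMonHom (1 : B ⟶ A) := inferInstanceAs (IsMonHom (0 : EndAV.Hom B A).toHom)
  refine ⟨EndAV.Hom.of (fst A B), EndAV.Hom.of (snd A B), EndAV.Hom.of (lift (𝟙 A) 1), EndAV.Hom.of (lift 1 (𝟙 B)),
    EndAV.Hom.ext ?_⟩
  show (fst A B ≫ lift (𝟙 A) 1) * (snd A B ≫ lift 1 (𝟙 B)) = 𝟙 (A ⊗ B)
  apply CartesianMonoidalCategory.hom_ext <;>
    simp [MonObj.mul_comp, MonObj.comp_one]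

theorem range_split {K V V₁ V₂ W : Type*} [Field K] [AddCommGroup V] [Module K V] [AddCommGroup V₁] [Module K V₁]
    [AddCommGroup V₂] [Module K V₂] [AddCommGroup W] [Module K W] (P₁ : V →ₗ[K] V₁) (P₂ : V →ₗ[K] V₂)
    (Q₁ : V₁ →ₗ[K] V) (Q₂ : V₂ →ₗ[K] V) (hsum : Q₁ ∘ₗ P₁ + Q₂ ∘ₗ P₂ = LinearMap.id) (s : V →ₗ[K] W) :
    LinearMap.range s = LinearMap.range (s ∘ₗ Q₁) ⊔ LinearMap.range (s ∘ₗ Q₂) := by
  refine le_antisymm ?_ (sup_le (LinearMap.range_comp_le_range _ _) (LinearMap.range_comp_le_range _ _))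
  rintro _ ⟨v, rfl⟩
  have hv := congrArg s (LinearMap.congr_fun hsum v)
  rw [LinearMap.add_apply, map_add, LinearMap.id_apply] at hv
  rw [← hv]
  exact Submodule.add_mem _ (Submodule.mem_sup_left ⟨_, rfl⟩) (Submodule.mem_sup_right ⟨_, rfl⟩)

theorem good_prod [IsProper X.hom] [GeometricallyIntegral X.hom]
    {A B : Over (Spec (CommRingCat.of k))} [GrpObj A] [IsCommMonObj A] [GrpObj B] [IsCommMonObj B] [IsCommMonObj (A ⊗ B)]
    (hA : Good l X Ω A) (hB : Good l X Ω B) : Good l X Ω (A ⊗ B) := fun s hs => by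
  obtain ⟨p₁, p₂, i₁, i₂, he⟩ := prod_sum (A := A) (B := B)
  obtain ⟨u, hu, hur⟩ := hA _ (span_comp l i₁ hs)
  obtain ⟨w, hw, hwr⟩ := hB _ (span_comp l i₂ hs)
  obtain ⟨E, hE, hmem⟩ := exists_endSubalg l X (SGA7.pt (K := k) Ω)
  obtain ⟨x, hx⟩ := exists_range_sup E ⟨u, (hmem u).2 hu⟩ ⟨w, (hmem w).2 hw⟩
  refine ⟨x, (hmem _).1 x.2, hx.trans ?_⟩
  refine (congrArg₂ (· ⊔ ·) hur hwr).trans (range_split (bV l (SGA7.pt (K := k) Ω) p₁) (bV l (SGA7.pt (K := k) Ω) p₂) _ _ ?_ s).symm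
  rw [← bV_comp, ← bV_comp, ← map_add, he, bV_id]

theorem good_surj {A B : Over (Spec (CommRingCat.of k))} [GrpObj A] [IsCommMonObj A] [GrpObj B] [IsCommMonObj B]
    [IsProper A.hom] [GeometricallyIntegral A.hom] [IsProper B.hom] [GeometricallyIntegral B.hom]
    (φ : A ⟶ B) [IsMonHom φ] [IsFinite φ.left] [Surjective φ.left] (hA : Good l X Ω A) : Good l X Ω B := fun s hs => by
  obtain ⟨n, ψ, hn, hψ, -, hψφ⟩ := AVAmpleLib.exists_quasi_inverse φ
  obtain ⟨u, hu, hur⟩ := hA _ (span_comp l (EndAV.Hom.of φ) hs)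
  refine ⟨u, hu, hur.trans (LinearMap.range_comp_of_range_eq_top _ (LinearMap.range_eq_top.2 fun y => ?_))⟩
  refine ⟨bV l (SGA7.pt (K := k) Ω) (EndAV.Hom.of ψ) (((n : ℚ_[l]))⁻¹ • y), ?_⟩
  have e : (EndAV.Hom.of ψ ≫ EndAV.Hom.of φ : EndAV.Hom B B) = n • 𝟙 (CommGrp.mk B) := EndAV.Hom.ext (by
    rw [EndAV.Hom.toHom_nsmul]
    exact hψφ)
  rw [← LinearMap.comp_apply, ← bV_comp, e, map_nsmul, bV_id, LinearMap.smul_apply, LinearMap.id_apply,
    ← Nat.cast_smul_eq_nsmul ℚ_[l], smul_inv_smul₀ (Nat.cast_ne_zero.2 hn.ne')]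

end Good

theorem baseChange_mem_span {A X : Over (Spec (CommRingCat.of k))} [GrpObj A] [IsCommMonObj A] [GrpObj X] [IsCommMonObj X]
    {s : AbDual.TateMod A l (SGA7.pt (K := k) Ω) →ₗ[ℤ_[l]] AbDual.TateMod X l (SGA7.pt (K := k) Ω)}
    (hs : s ∈ Submodule.span ℤ_[l] {ψ : AbDual.TateMod A l (SGA7.pt (K := k) Ω) →ₗ[ℤ_[l]]
      AbDual.TateMod X l (SGA7.pt (K := k) Ω) |
        ∃ (f : A ⟶ X) (_ : IsMonHom f), ψ = AbDual.tateMapₗ (l := l) (T := SGA7.pt (K := k) Ω) f}) :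
    s.baseChange ℚ_[l] ∈ Submodule.span ℚ_[l] (homs l X Ω A) := by
  induction hs using Submodule.span_induction with
  | mem x hx =>
    obtain ⟨f, hf, rfl⟩ := hx
    exact Submodule.subset_span ⟨EndAV.Hom.of f, rfl⟩
  | zero => rw [LinearMap.baseChange_zero]; exact Submodule.zero_mem _
  | add x y _ _ hx hy => rw [LinearMap.baseChange_add]; exact Submodule.add_mem _ hx hy
  | smul a x _ hx =>
    rw [LinearMap.baseChange_smul, ← algebraMap_smul ℚ_[l] a]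
    exact Submodule.smul_mem _ _ hx

/-- The range of a base change. -/
theorem range_baseChange_eq {M M' : Type*} [AddCommGroup M] [Module ℤ_[l] M] [AddCommGroup M'] [Module ℤ_[l] M']
    (W : Submodule ℚ_[l] (ℚ_[l] ⊗[ℤ_[l]] M)) (s : M' →ₗ[ℤ_[l]] M)
    (h₁ : ∀ t, (1 : ℚ_[l]) ⊗ₜ[ℤ_[l]] s t ∈ W) (h₂ : ∀ a : M, (1 : ℚ_[l]) ⊗ₜ[ℤ_[l]] a ∈ W → ∃ t, s t = a) :
    LinearMap.range (s.baseChange ℚ_[l]) = W := by
  refine le_antisymm ?_ fun w hw => ?_
  · rintro _ ⟨z, rfl⟩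
    induction z with
    | zero => rw [map_zero]; exact W.zero_mem
    | tmul a x =>
      rw [LinearMap.baseChange_tmul, show a ⊗ₜ[ℤ_[l]] s x = a • ((1 : ℚ_[l]) ⊗ₜ[ℤ_[l]] s x) by
        simp [TensorProduct.smul_tmul']]
      exact W.smul_mem a (h₁ x)
    | add x y hx hy => rw [map_add]; exact W.add_mem hx hy
  · obtain ⟨⟨x, d⟩, hd⟩ := IsLocalizedModule.surj (nonZeroDivisors ℤ_[l]) (TensorProduct.mk ℤ_[l] ℚ_[l] M 1) w
    have hd0 : (d : ℤ_[l]) ≠ 0 := nonZeroDivisors.coe_ne_zero d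
    have hxw : (1 : ℚ_[l]) ⊗ₜ[ℤ_[l]] x = algebraMap ℤ_[l] ℚ_[l] d • w := by rw [algebraMap_smul]; exact hd.symm
    obtain ⟨t, ht⟩ := h₂ x (by rw [hxw]; exact W.smul_mem _ hw)
    rw [← Submodule.smul_mem_iff _ ((map_ne_zero_iff _ (IsFractionRing.injective ℤ_[l] ℚ_[l])).2 hd0), ← hxw]
    exact ⟨1 ⊗ₜ t, by rw [LinearMap.baseChange_tmul, ht]⟩

/-- Over a finite field every Galois-stable subspace is the range of a combination of endomorphisms. -/
theorem exists_range_eq_finite (hl : (l : k) ≠ 0) (X : Over (Spec (CommRingCat.of k))) [GrpObj X] [IsCommMonObj X]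
    [IsProper X.hom] [GeometricallyIntegral X.hom] (W : Submodule ℚ_[l] (VT X l (SGA7.pt (K := k) Ω)))
    (hW : ∀ τ : Ω ≃ₐ[k] Ω, W.map ((galT X l τ).baseChange ℚ_[l]) ≤ W) :
    ∃ u ∈ Submodule.span ℚ_[l] (gens (Ω := Ω) l X), LinearMap.range u = W := by
  let inc : AbDual.TateMod X l (SGA7.pt (K := k) Ω) →ₗ[ℤ_[l]] VT X l (SGA7.pt (K := k) Ω) :=
    TensorProduct.mk ℤ_[l] ℚ_[l] _ 1
  let Λ := (W.restrictScalars ℤ_[l]).comap inc
  obtain ⟨Z, _, _, _, _, φ, _, _, _, s, hs, hsΛ, hΛs⟩ := exists_lin_range hl X Λ fun σ x hx =>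
    ⟨galT X l σ x, hW σ ⟨inc x, hx, LinearMap.baseChange_tmul _ _ _⟩, fun m => galT_component l X σ x m⟩
  haveI := proper_tensor X X
  haveI := geomInt_tensor X X
  haveI := proper_tensor X (X ⊗ X)
  haveI := geomInt_tensor X (X ⊗ X)
  haveI := proper_tensor X (X ⊗ X ⊗ X)
  haveI := geomInt_tensor X (X ⊗ X ⊗ X)
  haveI := proper_tensor (A4 X) (A4 X)
  haveI := geomInt_tensor (A4 X) (A4 X)
  haveI : IsCommMonObj (X ⊗ X) := isCommMonObj_field
  haveI : IsCommMonObj (X ⊗ X ⊗ X) := isCommMonObj_field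
  haveI : IsCommMonObj (A4 X) := isCommMonObj_field
  haveI : IsCommMonObj (A4 X ⊗ A4 X) := isCommMonObj_field
  have h4 : Good l X Ω (A4 X) := good_prod l (good_self l) (good_prod l (good_self l) (good_prod l (good_self l) (good_self l)))
  obtain ⟨u, hu, hur⟩ := good_surj l φ (good_prod l h4 h4) _ (baseChange_mem_span hs)
  exact ⟨u, hu, hur.trans (range_baseChange_eq W s hsΛ fun a ha => hΛs a ha)⟩

end TateThmLib

end
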