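import Groth.Agent.AVAmpleLib.FrobExist

/-!
The `q`-power endomorphism is unique and commutes with every morphism over a finite field.
-/

set_option autoImplicit false
set_option linter.style.haveILetI false
set_option linter.unusedSectionVars false
set_option backward.isDefEq.respectTransparency false

noncomputable section

universe u

open CategoryTheory MonoidalCategory CartesianMonoidalCategory MonObj AlgebraicGeometry FrobSch

namespace TateThmLib

theorem appLE_ext {X : Scheme.{u}} (π π' : X ⟶ X) (hb : π.base = π'.base) (hle : ∀ U : X.Opens, U ≤ π ⁻¹ᵁ U)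
    (hle' : ∀ U : X.Opens, U ≤ π' ⁻¹ᵁ U) (hge : ∀ U : X.Opens, π' ⁻¹ᵁ U ≤ U)
    (h : ∀ (U : X.Opens) (s : Γ(X, U)), (π.appLE U U (hle U)).hom s = (π'.appLE U U (hle' U)).hom s) : π = π' := by
  refine Scheme.Hom.ext hb fun U => ?_
  have e : π.appLE U U (hle U) = π'.appLE U U (hle' U) := CommRingCat.hom_ext (RingHom.ext (h U))
  have e2 := congrArg (fun r => r ≫ X.presheaf.map (homOfLE (hge U)).op) e
  simp only [Scheme.Hom.appLE_map] at e2
  rw [Scheme.Hom.app_eq_appLE, Scheme.Hom.app_eq_appLE, Scheme.Hom.appLE_map]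
  exact e2

variable {k : Type u} [Field k] [Finite k]

/-- A morphism commutes with the `q`-power endomorphisms. -/
theorem frob_natural {X Y : Over (Spec (CommRingCat.of k))}
    (πX : X ⟶ X) (hXb : πX.left.base = 𝟙 _) (hXle : ∀ U : X.left.Opens, U ≤ πX.left ⁻¹ᵁ U)
    (hXapp : ∀ (U : X.left.Opens) (s : Γ(X.left, U)), (πX.left.appLE U U (hXle U)).hom s = s ^ Nat.card k)
    (πY : Y ⟶ Y) (hYb : πY.left.base = 𝟙 _) (hYle : ∀ U : Y.left.Opens, U ≤ πY.left ⁻¹ᵁ U)
    (hYapp : ∀ (U : Y.left.Opens) (s : Γ(Y.left, U)), (πY.left.appLE U U (hYle U)).hom s = s ^ Nat.card k)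
    (f : X ⟶ Y) : πX ≫ f = f ≫ πY := by
  obtain ⟨p, n, _, _, hq, -⟩ := AVAmpleLib.frobIter_spec_card k
  haveI : ∀ T : Over (Spec (CommRingCat.of k)), IsCharP T.left p := fun T => IsCharP.of_hom T.hom p
  have key : ∀ (T : Over (Spec (CommRingCat.of k))) (π : T.left ⟶ T.left) (hle : ∀ U : T.left.Opens, U ≤ π ⁻¹ᵁ U),
      π.base = 𝟙 _ → (∀ (U : T.left.Opens) (s : Γ(T.left, U)), (π.appLE U U (hle U)).hom s = s ^ Nat.card k) →
      π = frobIter T.left p n := fun T π hle hb happ => by
    obtain ⟨hle', happ'⟩ := AVAmpleLib.frobIter_appLE (X := T.left) (p := p) n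
    have hb' : (frobIter T.left p n).base = 𝟙 _ := by ext x; exact CurveFFLib.frobIter_apply n x
    refine appLE_ext _ _ (hb.trans hb'.symm) hle hle' (fun U x hx => ?_) fun U s => by rw [happ, happ', hq]
    have hx' : (frobIter T.left p n) x ∈ U := hx
    rwa [CurveFFLib.frobIter_apply] at hx'
  apply Over.OverMorphism.ext
  rw [Over.comp_left, Over.comp_left, key X πX.left hXle hXb hXapp, key Y πY.left hYle hYb hYapp]
  exact CurveFFLib.frobIter_comp f.left n

end TateThmLib

end
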