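import Groth.Agent.TateThmLib.FullFaith
import Groth.Agent.TateThmLib.FrobNat
import Groth.Agent.TateThmLib.Engine
import Groth.Agent.AVAmpleLib.EndRegular
import Groth.Agent.AVAmpleLib.FrobExist
import Groth.Agent.AVAmpleLib.Complement
import Groth.Agent.AVThetaLib.QuotKernel
import Groth.Agent.GrpHomLib.Image

/-!
The antiequivalence criteria for abelian varieties over a finite field.
-/

set_option autoImplicit false
set_option linter.style.haveILetI false
set_option linter.unusedSectionVars false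
set_option backward.isDefEq.respectTransparency false
set_option maxHeartbeats 1000000

noncomputable section

universe u

open CategoryTheory CategoryTheory.Limits MonoidalCategory CartesianMonoidalCategory MonObj AlgebraicGeometry
open CubeConsLib
open scoped TensorProduct

namespace TateThmLib

namespace Anti

variable {k : Type u} [Field k] [Finite k]

/-- Membership in the class of `P`. -/
def Mem (P : Polynomial ℤ) (Z : Over (Spec (CommRingCat.of k))) [GrpObj Z] [IsCommMonObj Z] : Prop :=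
  ∃ (π : Z ⟶ Z) (_ : IsMonHom π) (hle : ∀ U : Z.left.Opens, U ≤ π.left ⁻¹ᵁ U), π.left.base = 𝟙 _ ∧
    (∀ (U : Z.left.Opens) (s : Γ(Z.left, U)), (π.left.appLE U U (hle U)).hom s = s ^ Nat.card k) ∧
    Polynomial.eval₂ (Int.castRingHom (EndAV.End Z)) (EndAV.End.of π) P = 0

variable {P : Polynomial ℤ} {X Y : Over (Spec (CommRingCat.of k))} [GrpObj X] [IsCommMonObj X] [IsProper X.hom]
  [GeometricallyIntegral X.hom] [GrpObj Y] [IsCommMonObj Y] [IsProper Y.hom] [GeometricallyIntegral Y.hom]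

/-- Cancellation of dominant homomorphisms. -/
theorem cancel_dominant {Z : Over (Spec (CommRingCat.of k))} [IsSeparated Z.hom] (f : X ⟶ Y) [IsDominant f.left]
    (a b : Y ⟶ Z) (h : f ≫ a = f ≫ b) : a = b := by
  haveI : IsIntegral Y.left := GeometricallyIntegral.isIntegral_of_subsingleton Y.hom
  refine Over.OverMorphism.ext (ext_of_isDominant_of_isSeparated Z.hom ?_ f.left (congrArg Over.Hom.left h))
  rw [Over.w, Over.w]

theorem cancel_dominant' {Z : Over (Spec (CommRingCat.of k))} [GrpObj Z] [IsCommMonObj Z] [IsSeparated Z.hom]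
    (f : EndAV.Hom X Y) [IsDominant f.toHom.left] (a b : EndAV.Hom Y Z) (h : f ≫ a = f ≫ b) : a = b :=
  EndAV.Hom.ext (cancel_dominant f.toHom _ _ (congrArg EndAV.Hom.toHom h))

theorem Mem.of_dominant (hX : Mem P X) (f : EndAV.Hom X Y) [IsDominant f.toHom.left] : Mem P Y := by
  obtain ⟨πX, _, hXle, hXb, hXapp, hPX⟩ := hX
  obtain ⟨πY, _, hYle, hYb, hYapp⟩ := AVAmpleLib.exists_frob Y
  refine ⟨πY, inferInstance, hYle, hYb, hYapp, ?_⟩
  have h1 := eval_comp (EndAV.End.of πX) (EndAV.End.of πY) f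
    (EndAV.Hom.ext (frob_natural πX hXb hXle hXapp πY hYb hYle hYapp f.toHom)) P
  rw [hPX] at h1
  have h2 := (congrArg EndAV.Hom.toHom h1).symm.trans ((MonObj.one_comp f.toHom).trans (MonObj.comp_one f.toHom).symm)
  exact EndAV.End.ext (cancel_dominant f.toHom _ _ h2)

/-- Membership descends along a jointly monomorphic family. -/
theorem Mem.of_mono {I : Type*} {A : Over (Spec (CommRingCat.of k))} [GrpObj A] [IsCommMonObj A] [IsProper A.hom]
    [GeometricallyIntegral A.hom] (hA : Mem P A) (pr : I → EndAV.Hom X A)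
    (hmono : ∀ (T : Over (Spec (CommRingCat.of k))) (x y : T ⟶ X), (∀ i, x ≫ (pr i).toHom = y ≫ (pr i).toHom) → x = y) :
    Mem P X := by
  obtain ⟨πA, _, hAle, hAb, hAapp, hPA⟩ := hA
  obtain ⟨πX, _, hXle, hXb, hXapp⟩ := AVAmpleLib.exists_frob X
  refine ⟨πX, inferInstance, hXle, hXb, hXapp, EndAV.End.ext (hmono _ _ _ fun i => ?_)⟩
  have h1 := eval_comp (EndAV.End.of πX) (EndAV.End.of πA) (pr i)
    (EndAV.Hom.ext (frob_natural πX hXb hXle hXapp πA hAb hAle hAapp (pr i).toHom)) P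
  rw [hPA] at h1
  exact (congrArg EndAV.Hom.toHom h1).trans ((MonObj.comp_one (pr i).toHom).trans (MonObj.one_comp (pr i).toHom).symm)

/-- A homomorphism killing the kernel of a flat surjective homomorphism factors through it. -/
theorem exists_desc {A B C : Over (Spec (CommRingCat.of k))} [GrpObj A] [GrpObj B] [GrpObj C] [IsProper B.hom] [GeometricallyIntegral B.hom] [IsSeparated C.hom]
    (f : A ⟶ B) [IsMonHom f] [QuasiCompact f.left] [Flat f.left] [Surjective f.left]
    (φ : A ⟶ C) [IsMonHom φ]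
    (hker : ∀ {T : Over (Spec (CommRingCat.of k))} (a : T ⟶ A), a ≫ f = 1 → a ≫ φ = 1) :
    ∃ ψ : B ⟶ C, IsMonHom ψ ∧ f ≫ ψ = φ := by
  have key : ∀ {Z : Over (Spec (CommRingCat.of k))} (g₁ g₂ : Z ⟶ A), g₁ ≫ f = g₂ ≫ f → g₁ ≫ φ = g₂ ≫ φ := by
    intro Z g₁ g₂ hg
    have h0 := hker (g₁ * g₂⁻¹) (by rw [MonObj.mul_comp, GrpObj.inv_comp, hg, mul_inv_cancel])
    rwa [MonObj.mul_comp, GrpObj.inv_comp, mul_inv_eq_one] at h0
  haveI : EffectiveEpi f.left := inferInstance
  have hl : ∀ {Z : Scheme.{u}} (g₁ g₂ : Z ⟶ A.left), g₁ ≫ f.left = g₂ ≫ f.left → g₁ ≫ φ.left = g₂ ≫ φ.left := by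
    intro Z g₁ g₂ hg
    have hw : g₂ ≫ A.hom = g₁ ≫ A.hom := by
      rw [← Over.w f, ← Category.assoc, ← hg, Category.assoc]
    exact congrArg CommaMorphism.left
      (key (Over.homMk g₁ rfl : Over.mk (g₁ ≫ A.hom) ⟶ A) (Over.homMk g₂ hw) (Over.OverMorphism.ext hg))
  haveI : Epi f.left := inferInstance
  let ψ : B ⟶ C := Over.homMk (EffectiveEpi.desc f.left φ.left hl) (by
    rw [← cancel_epi f.left, EffectiveEpi.fac_assoc, Over.w, Over.w])
  have hψ : f ≫ ψ = φ := Over.OverMorphism.ext (EffectiveEpi.fac f.left φ.left hl)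
  refine ⟨ψ, ?_, hψ⟩
  haveI := H0Lib.geometricallyConnected_of_integral B.hom
  haveI : LocallyOfFinitePresentation B.hom := LocallyOfFinitePresentation.iff_locallyOfFiniteType.2 inferInstance
  refine H0Lib.isMonHom_of_one_comp ψ ?_
  rw [← IsMonHom.one_hom f, Category.assoc, hψ, IsMonHom.one_hom]

/-- The image of a homomorphism of abelian varieties. -/
theorem exists_imageAV {Z : Over (Spec (CommRingCat.of k))} [GrpObj Z] [IsCommMonObj Z] [IsProper Z.hom]
    (f : EndAV.Hom X Z) :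
    ∃ (C : Over (Spec (CommRingCat.of k))) (_ : GrpObj C) (_ : IsCommMonObj C) (_ : IsProper C.hom)
      (_ : GeometricallyIntegral C.hom) (p : EndAV.Hom X C) (i : EndAV.Hom C Z),
      p ≫ i = f ∧ IsClosedImmersion i.toHom.left ∧ IsDominant p.toHom.left ∧ Surjective p.toHom.left := by
  haveI : IsProper f.toHom.left := by
    haveI : IsProper (f.toHom.left ≫ Z.hom) := by rw [Over.w]; infer_instance
    exact IsProper.of_comp f.toHom.left Z.hom
  obtain ⟨C, _, i, p, _, _, hpi, _, _, _, _⟩ := Groth.Agent.GrpHom.exists_image f.toHom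
  haveI : IsProper C.hom := by rw [← Over.w i]; infer_instance
  haveI : GeometricallyIntegral C.hom := AVAmpleLib.geometricallyIntegral_of_dominant p
  haveI : IsCommMonObj C := CubeConsLib.isCommMonObj_field
  exact ⟨C, inferInstance, inferInstance, inferInstance, inferInstance, EndAV.Hom.of p, EndAV.Hom.of i,
    EndAV.Hom.ext hpi, ‹_›, show IsDominant p.left from inferInstance, ‹_›⟩

variable (P) in
/-- Full faithfulness of `Hom(-, A)` on the class. -/
def FullFaithful (A : Over (Spec (CommRingCat.of k))) [GrpObj A] [IsCommMonObj A] : Prop :=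
  ∀ (X Y : Over (Spec (CommRingCat.of k))) [GrpObj X] [IsCommMonObj X] [IsProper X.hom] [GeometricallyIntegral X.hom]
    [GrpObj Y] [IsCommMonObj Y] [IsProper Y.hom] [GeometricallyIntegral Y.hom], Mem P X → Mem P Y →
    (∀ f g : EndAV.Hom X Y, (∀ φ : EndAV.Hom Y A, f ≫ φ = g ≫ φ) → f = g) ∧
      ∀ g : EndAV.Hom Y A →+ EndAV.Hom X A, (∀ (φ : EndAV.Hom Y A) (s : EndAV.Hom A A), g (φ ≫ s) = g φ ≫ s) →
        ∃ f : EndAV.Hom X Y, ∀ φ : EndAV.Hom Y A, g φ = f ≫ φ

variable {A : Over (Spec (CommRingCat.of k))} [GrpObj A] [IsCommMonObj A] [IsProper A.hom] [GeometricallyIntegral A.hom]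

/-- Full faithfulness makes `A` a cogenerator. -/
theorem cog_of_fullFaithful (hff : FullFaithful P A) (hY : Mem P Y) (T : Over (Spec (CommRingCat.of k))) (x y : T ⟶ Y)
    (h : ∀ φ : EndAV.Hom Y A, x ≫ φ.toHom = y ≫ φ.toHom) : x = y := by
  haveI := AVAmpleLib.fg_hom_of_ext (k := k) (AlgebraicClosure k) Y A
  haveI := AVAmpleLib.isTorsionFree_hom (A := Y) (B := A)
  haveI : Module.Free ℤ (EndAV.Hom Y A) := Module.free_of_finite_type_torsion_free'
  let b := Module.finBasis ℤ (EndAV.Hom Y A)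
  obtain ⟨An, _, _, _, _, pr, hlift, hmono⟩ := exists_power A (Module.finrank ℤ (EndAV.Hom Y A))
  obtain ⟨e, he⟩ := hlift Y b
  obtain ⟨C, _, _, _, _, p, i, hpi, _, _, _⟩ := exists_imageAV e
  have hC : Mem P C := hY.of_dominant p
  let G := b.constr ℤ fun j => i ≫ pr j
  have hG : ∀ φ, p ≫ G φ = φ := fun φ => by
    have : (Preadditive.leftComp (CommGrp.mk A) p).toIntLinearMap ∘ₗ G = LinearMap.id := b.ext fun j => by
      show p ≫ G (b j) = b j
      rw [Module.Basis.constr_basis, ← Category.assoc, hpi, he]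
    exact LinearMap.congr_fun this φ
  obtain ⟨f, hf⟩ := (hff C Y hC hY).2 G.toAddMonoidHom fun φ s => cancel_dominant' p _ _ (by
    show p ≫ G (φ ≫ s) = p ≫ G φ ≫ s
    rw [hG, ← Category.assoc, hG])
  have hid : p ≫ f = 𝟙 (CommGrp.mk Y) := (hff Y Y hY hY).1 _ _ fun φ => by
    rw [Category.assoc, ← hf, Category.id_comp]
    exact hG φ
  have hpe : ∀ (z : T ⟶ Y), (z ≫ p.toHom) ≫ i.toHom = z ≫ e.toHom := fun z => by
    rw [Category.assoc, ← congrArg EndAV.Hom.toHom hpi]
    rfl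
  haveI : Mono i.toHom := Over.mono_of_mono_left i.toHom
  have h1 : x ≫ e.toHom = y ≫ e.toHom := hmono T _ _ fun j => by
    rw [Category.assoc, Category.assoc, show e.toHom ≫ (pr j).toHom = (b j).toHom from congrArg EndAV.Hom.toHom (he j)]
    exact h (b j)
  rw [← hpe, ← hpe, cancel_mono] at h1
  have := congrArg (· ≫ f.toHom) h1
  simp only [Category.assoc, show p.toHom ≫ f.toHom = 𝟙 Y from congrArg EndAV.Hom.toHom hid, Category.comp_id] at this
  exact this

/-- A finite subgroup is cut out by the homomorphisms killing it. -/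
theorem commonKernel_eq (hff : FullFaithful P A) (hX : Mem P X) {H : Over (Spec (CommRingCat.of k))} [GrpObj H]
    (i : H ⟶ X) [IsMonHom i] [IsClosedImmersion i.left] {T : Over (Spec (CommRingCat.of k))} (x : T ⟶ X)
    (hx : ∀ f : EndAV.Hom X A, i ≫ f.toHom = 1 → x ≫ f.toHom = 1) : ∃ y : T ⟶ H, y ≫ i = x := by
  obtain ⟨Q, _, q, _, _, _, _, hN⟩ := AVThetaLib.exists_quotient_kernel X i
  haveI : IsCommMonObj Q := CubeConsLib.isCommMonObj_field
  haveI : IsDominant (EndAV.Hom.of q).toHom.left := inferInstanceAs (IsDominant q.left)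
  have hQ : Mem P Q := hX.of_dominant (EndAV.Hom.of q)
  refine AVThetaLib.exists_lift_kernel hN x (cog_of_fullFaithful hff hQ T _ _ fun φ => ?_)
  rw [MonObj.one_comp]
  refine (Category.assoc _ _ _).trans (hx (EndAV.Hom.of q ≫ φ) ?_)
  show i ≫ q ≫ φ.toHom = 1
  have h0 : i ≫ q = 1 := by
    rw [hN.w, MonObj.one_eq_one, MonObj.comp_one]
  rw [← Category.assoc, h0, MonObj.one_comp]

/-- A finite-index stable subgroup consists of all homomorphisms killing its common kernel. -/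
theorem mem_of_kills (hff : FullFaithful P A) (hX : Mem P X) (hY : Mem P Y) (M : AddSubgroup (EndAV.Hom X A))
    (e : M ≃+ EndAV.Hom Y A) (hMS : ∀ r ∈ M, ∀ s : EndAV.Hom A A, r ≫ s ∈ M)
    (he : ∀ (r : EndAV.Hom X A) (hr : r ∈ M) (s : EndAV.Hom A A), e ⟨r ≫ s, hMS r hr s⟩ = e ⟨r, hr⟩ ≫ s)
    (f : EndAV.Hom X A)
    (hf : ∀ (T : Over (Spec (CommRingCat.of k))) (x : T ⟶ X), (∀ r ∈ M, x ≫ EndAV.Hom.toHom r = 1) → x ≫ f.toHom = 1) :
    f ∈ M := by
  let g : EndAV.Hom Y A →+ EndAV.Hom X A := M.subtype.comp e.symm.toAddMonoidHom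
  obtain ⟨u, hu⟩ := (hff X Y hX hY).2 g fun φ s => by
    obtain ⟨⟨r, hr⟩, rfl⟩ := e.surjective φ
    show (e.symm (e ⟨r, hr⟩ ≫ s) : EndAV.Hom X A) = (e.symm (e ⟨r, hr⟩) : EndAV.Hom X A) ≫ s
    rw [← he, AddEquiv.symm_apply_apply, AddEquiv.symm_apply_apply]
  -- the homomorphism is surjective
  obtain ⟨C, _, _, _, _, p, i, hpi, _, _, _⟩ := exists_imageAV u
  obtain ⟨Q, _, q, _, _, _, _, hN⟩ := AVThetaLib.exists_quotient_kernel Y i.toHom
  haveI : IsCommMonObj Q := CubeConsLib.isCommMonObj_field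
  haveI : IsDominant (EndAV.Hom.of q).toHom.left := inferInstanceAs (IsDominant q.left)
  have hQ : Mem P Q := hY.of_dominant (EndAV.Hom.of q)
  have hiq : i ≫ EndAV.Hom.of q = 0 := EndAV.Hom.ext (by
    show i.toHom ≫ q = 1
    rw [hN.w, MonObj.one_eq_one, MonObj.comp_one])
  obtain ⟨s, hs⟩ : ∃ s : Y ⟶ C, s ≫ i.toHom = 𝟙 Y := AVThetaLib.exists_lift_kernel hN (𝟙 Y) (by
    refine cog_of_fullFaithful hff hQ Y _ _ fun φ => ?_
    rw [MonObj.one_comp, Category.id_comp]
    have h0 : g (EndAV.Hom.of q ≫ φ) = 0 := by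
      rw [hu, ← hpi, Category.assoc, ← Category.assoc i, hiq, Limits.zero_comp, Limits.comp_zero]
    have : EndAV.Hom.of q ≫ φ = 0 := e.symm.injective (Subtype.ext (h0.trans (by simp)))
    exact congrArg EndAV.Hom.toHom this)
  haveI : Mono i.toHom := Over.mono_of_mono_left i.toHom
  haveI : IsSplitEpi i.toHom := IsSplitEpi.mk' ⟨s, hs⟩
  haveI : IsIso i.toHom := isIso_of_mono_of_isSplitEpi _
  haveI : Surjective u.toHom.left := by
    rw [← congrArg EndAV.Hom.toHom hpi]
    show Surjective (p.toHom.left ≫ i.toHom.left)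
    infer_instance
  haveI : LocallyOfFinitePresentation X.hom := LocallyOfFinitePresentation.iff_locallyOfFiniteType.2 inferInstance
  haveI := AVAmpleLib.smooth_hom Y
  haveI : Flat u.toHom.left := AbSchLib.flat_of_surjective u.toHom
  haveI : QuasiCompact u.toHom.left := by
    haveI : IsProper (u.toHom.left ≫ Y.hom) := by rw [Over.w]; infer_instance
    haveI := IsProper.of_comp u.toHom.left Y.hom
    infer_instance
  have hkill : ∀ {T : Over (Spec (CommRingCat.of k))} (a : T ⟶ X), a ≫ u.toHom = 1 → a ≫ f.toHom = 1 := fun a ha =>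
    hf _ a fun r hr => by
      have h1 := congrArg EndAV.Hom.toHom (hu (e ⟨r, hr⟩))
      rw [show g (e ⟨r, hr⟩) = r from congrArg Subtype.val (e.symm_apply_apply _)] at h1
      rw [h1]
      show a ≫ u.toHom ≫ (e ⟨r, hr⟩).toHom = 1
      rw [← Category.assoc, ha, MonObj.one_comp]
  obtain ⟨v, hv, huv⟩ := exists_desc u.toHom f.toHom hkill
  have : g (EndAV.Hom.of v) = f := (hu _).trans (EndAV.Hom.ext huv)
  exact this ▸ (e.symm (EndAV.Hom.of v)).2

/-- A closed abelian subvariety is a direct summand up to isogeny. -/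
theorem exists_retraction_sub (φ : EndAV.Hom X Y) [IsClosedImmersion φ.toHom.left] :
    ∃ (n : ℕ) (r : EndAV.Hom Y X), 0 < n ∧ φ ≫ r = n • 𝟙 (CommGrp.mk X) := by
  obtain ⟨C, _, j, _, _, _, _, _, _⟩ := AVAmpleLib.exists_complement φ.toHom
  haveI := proper_tensor X C
  haveI := geomInt_tensor X C
  haveI : IsCommMonObj C := CubeConsLib.isCommMonObj_field
  haveI : IsCommMonObj (X ⊗ C) := CubeConsLib.isCommMonObj_field
  let σ := (fst X C ≫ φ.toHom) * (snd X C ≫ j)
  haveI : IsMonHom σ := AVThetaLib.isMonHom_of_mul _ fun T x y => by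
    simp only [σ, MonObj.comp_mul, MonObj.mul_comp, ← Category.assoc]
    exact mul_mul_mul_comm _ _ _ _
  obtain ⟨n, ψ, hn, _, hσψ, -⟩ := AVAmpleLib.exists_quasi_inverse σ
  refine ⟨n, EndAV.Hom.of (ψ ≫ fst X C), hn, EndAV.Hom.ext ?_⟩
  have hl : lift (𝟙 X) (1 : X ⟶ C) ≫ σ = φ.toHom := by
    rw [MonObj.comp_mul, ← Category.assoc, lift_fst, ← Category.assoc, lift_snd, Category.id_comp, MonObj.one_comp, _root_.mul_one]
  rw [EndAV.Hom.toHom_nsmul]
  show φ.toHom ≫ ψ ≫ fst X C = 𝟙 X ^ n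
  rw [← hl, Category.assoc, ← Category.assoc σ, hσψ, MonObj.pow_comp, Category.id_comp, MonObj.comp_pow, lift_fst]

/-- Extension along closed immersions. -/
theorem exists_extension
    (hb1 : ∀ (Z : Over (Spec (CommRingCat.of k))) [GrpObj Z] [IsCommMonObj Z] [IsProper Z.hom] [GeometricallyIntegral Z.hom],
      Mem P Z → ∀ (T : Over (Spec (CommRingCat.of k))) (x : T ⟶ Z), (∀ r : EndAV.Hom Z A, x ≫ r.toHom = 1) → x = 1)
    (hrec : ∀ (Z : Over (Spec (CommRingCat.of k))) [GrpObj Z] [IsCommMonObj Z] [IsProper Z.hom] [GeometricallyIntegral Z.hom],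
      Mem P Z → ∀ M : AddSubgroup (EndAV.Hom Z A), M.FiniteIndex → (∀ r ∈ M, ∀ s : EndAV.Hom A A, r ≫ s ∈ M) →
      ∀ f : EndAV.Hom Z A,
        (∀ (T : Over (Spec (CommRingCat.of k))) (x : T ⟶ Z), (∀ r ∈ M, x ≫ EndAV.Hom.toHom r = 1) →
          x ≫ f.toHom = 1) → f ∈ M)
    (hX : Mem P X) (hY : Mem P Y) (φ : EndAV.Hom X Y) [IsClosedImmersion φ.toHom.left] (f : EndAV.Hom X A) :
    ∃ g : EndAV.Hom Y A, φ ≫ g = f := by
  let M := (Preadditive.leftComp (CommGrp.mk A) φ).range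
  obtain ⟨n, r, hn, hr⟩ := exists_retraction_sub φ
  haveI := AVAmpleLib.fg_hom_of_ext (k := k) (AlgebraicClosure k) X A
  haveI : Mono φ.toHom := Over.mono_of_mono_left φ.toHom
  have hfi : M.FiniteIndex := by
    haveI : Module.Finite ℤ (EndAV.Hom X A ⧸ M) :=
      Module.Finite.of_surjective (QuotientAddGroup.mk' M).toIntLinearMap (QuotientAddGroup.mk'_surjective M)
    haveI : AddGroup.FG (EndAV.Hom X A ⧸ M) := Module.Finite.iff_addGroup_fg.1 inferInstance
    haveI : Finite (EndAV.Hom X A ⧸ M) := AddCommGroup.finite_of_fg_isAddTorsion _ fun q => by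
      obtain ⟨a, rfl⟩ := QuotientAddGroup.mk'_surjective M q
      refine isOfFinAddOrder_iff_nsmul_eq_zero.2 ⟨n, hn, ?_⟩
      rw [← map_nsmul, QuotientAddGroup.mk'_apply, QuotientAddGroup.eq_zero_iff]
      refine ⟨r ≫ a, ?_⟩
      show φ ≫ r ≫ a = n • a
      rw [← Category.assoc, hr, Preadditive.nsmul_comp, Category.id_comp]
    exact AddSubgroup.finiteIndex_of_finite_quotient
  refine hrec X hX M hfi (fun a ⟨g, hg⟩ s => ⟨g ≫ s, ?_⟩) f fun T x hx => ?_
  · show φ ≫ g ≫ s = a ≫ s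
    rw [← Category.assoc, show φ ≫ g = a from hg]
  · have h1 : x ≫ φ.toHom = 1 := hb1 Y hY T _ fun g => by
      refine (Category.assoc _ _ _).trans ?_
      exact hx (φ ≫ g) ⟨g, rfl⟩
    have h2 : x = 1 := by rw [← cancel_mono φ.toHom, h1, MonObj.one_comp]
    rw [h2, MonObj.one_comp]

end Anti

end TateThmLib

end
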