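import Groth.Agent.TateThmLib.AntiEquiv

/-!
Every lattice over the endomorphism ring of an injective object comes from an abelian variety.
-/

set_option autoImplicit false
set_option linter.style.haveILetI false
set_option linter.unusedSectionVars false
set_option backward.isDefEq.respectTransparency false
set_option maxHeartbeats 1000000
set_option synthInstance.maxHeartbeats 200000

noncomputable section

universe u

open CategoryTheory CategoryTheory.Limits MonoidalCategory CartesianMonoidalCategory MonObj AlgebraicGeometry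
open CubeConsLib
open scoped TensorProduct

namespace TateThmLib

namespace Anti

/-- A submodule of a free module splits up to an integer. -/
theorem exists_scaled_projection {S : Type*} [Ring S] [IsSemisimpleRing (ℚ ⊗[ℤ] S)]
    (hinj : Function.Injective (Algebra.TensorProduct.includeRight : S →ₐ[ℤ] ℚ ⊗[ℤ] S)) (N : ℕ)
    (K : Submodule S (Fin N → S)) :
    ∃ (n : ℕ) (κ : Fin N → (Fin N → S)), 0 < n ∧ (∀ j, κ j ∈ K) ∧ ∀ v ∈ K, ∑ j, v j • κ j = n • v := by
  classical
  let ι₀ : S →ₐ[ℤ] ℚ ⊗[ℤ] S := Algebra.TensorProduct.includeRight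
  let c : (Fin N → S) → (Fin N → ℚ ⊗[ℤ] S) := fun v j => ι₀ (v j)
  have cadd : ∀ v w, c (v + w) = c v + c w := fun v w => funext fun j => map_add ι₀ _ _
  have csmul : ∀ (s : S) v, c (s • v) = ι₀ s • c v := fun s v => funext fun j => map_mul ι₀ _ _
  have cnsmul : ∀ (m : ℕ) v, c (m • v) = m • c v := fun m v => funext fun j => map_nsmul ι₀ _ _
  have cinj : Function.Injective c := fun v w h => funext fun j => hinj (congrFun h j)
  have hrat : ∀ x : ℚ ⊗[ℤ] S, ∃ (m : ℕ) (s : S), 0 < m ∧ m • x = ι₀ s := fun x => by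
    induction x using TensorProduct.induction_on with
    | zero => exact ⟨1, 0, one_pos, by simp⟩
    | tmul q s =>
      refine ⟨q.den, q.num • s, q.den_pos, ?_⟩
      rw [TensorProduct.smul_tmul', map_zsmul, Algebra.TensorProduct.includeRight_apply, TensorProduct.smul_tmul',
        nsmul_eq_mul, zsmul_eq_mul, mul_comm, Rat.mul_den_eq_num]
      simp
    | add x y hx hy =>
      obtain ⟨m, s, hm, hs⟩ := hx
      obtain ⟨m', s', hm', hs'⟩ := hy
      refine ⟨m * m', m' • s + m • s', Nat.mul_pos hm hm', ?_⟩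
      rw [map_add, map_nsmul, map_nsmul, ← hs, ← hs', smul_add, ← mul_smul, ← mul_smul, mul_comm m' m]
  -- the saturation of the submodule
  let K₀ : Submodule (ℚ ⊗[ℤ] S) (Fin N → ℚ ⊗[ℤ] S) :=
    { carrier := {x | ∃ (m : ℕ) (v : Fin N → S), 0 < m ∧ v ∈ K ∧ m • x = c v}
      zero_mem' := ⟨1, 0, one_pos, K.zero_mem, funext fun j => by simp [c]⟩
      add_mem' := by
        rintro x y ⟨m, v, hm, hv, hx⟩ ⟨m', v', hm', hv', hy⟩
        refine ⟨m * m', m' • v + m • v', Nat.mul_pos hm hm', K.add_mem (nsmul_mem hv _) (nsmul_mem hv' _), ?_⟩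
        rw [cadd, cnsmul, cnsmul, ← hx, ← hy, smul_add, ← mul_smul, ← mul_smul, mul_comm m' m]
      smul_mem' := by
        rintro r x ⟨m, v, hm, hv, hx⟩
        obtain ⟨m', s, hm', hs⟩ := hrat r
        refine ⟨m' * m, s • v, Nat.mul_pos hm' hm, K.smul_mem s hv, ?_⟩
        rw [csmul, ← hs, ← hx, mul_smul, smul_comm m r, smul_assoc] }
  haveI : IsSemisimpleModule (ℚ ⊗[ℤ] S) (Fin N → ℚ ⊗[ℤ] S) := inferInstance
  obtain ⟨K', hK'⟩ := exists_isCompl K₀
  let π := K₀.subtype ∘ₗ Submodule.projectionOnto K₀ K' hK'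
  let e : Fin N → (Fin N → ℚ ⊗[ℤ] S) := fun j => Pi.single j 1
  choose m v hm hv hmv using fun j => (Submodule.projectionOnto K₀ K' hK' (e j)).2
  refine ⟨∏ j, m j, fun j => (∏ i ∈ Finset.univ.erase j, m i) • v j, Finset.prod_pos fun j _ => hm j,
    fun j => nsmul_mem (hv j) _, fun w hw => cinj ?_⟩
  have hc : ∀ j, c ((∏ i ∈ Finset.univ.erase j, m i) • v j) = (∏ i, m i) • π (e j) := fun j => by
    rw [cnsmul, ← hmv j, ← mul_smul, Finset.prod_erase_mul _ _ (Finset.mem_univ j)]
    rfl
  have hπ : π (c w) = c w := by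
    have hw0 : c w ∈ K₀ := ⟨1, w, one_pos, hw, one_smul _ _⟩
    exact congrArg Subtype.val (Submodule.projectionOnto_apply_left hK' ⟨c w, hw0⟩)
  calc c (∑ j, w j • ((∏ i ∈ Finset.univ.erase j, m i) • v j))
      = ∑ j, ι₀ (w j) • ((∏ i, m i) • π (e j)) := by
        rw [← AddMonoidHom.mk'_apply (f := c) cadd, map_sum]
        exact Finset.sum_congr rfl fun j _ => by rw [AddMonoidHom.mk'_apply, csmul, hc]
    _ = (∏ i, m i) • π (c w) := by
        have hw' : c w = ∑ j, ι₀ (w j) • e j := funext fun i => by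
          simp [c, e, Finset.sum_apply, Pi.single_apply]
        conv_rhs => rw [hw', map_sum, Finset.smul_sum]
        exact Finset.sum_congr rfl fun j _ => by rw [map_smul, smul_comm]
    _ = c ((∏ i, m i) • w) := by rw [hπ, cnsmul]

variable {k : Type u} [Field k] [Finite k] {P : Polynomial ℤ} {A : Over (Spec (CommRingCat.of k))} [GrpObj A]
  [IsCommMonObj A] [IsProper A.hom] [GeometricallyIntegral A.hom]

/-- Lattices over the endomorphism ring are representable. -/
theorem exists_of_module (hA : Mem P A)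
    (hext : ∀ (X Y : Over (Spec (CommRingCat.of k))) [GrpObj X] [IsCommMonObj X] [IsProper X.hom] [GeometricallyIntegral X.hom]
      [GrpObj Y] [IsCommMonObj Y] [IsProper Y.hom] [GeometricallyIntegral Y.hom], Mem P X → Mem P Y →
      ∀ (φ : EndAV.Hom X Y) [IsClosedImmersion φ.toHom.left] (f : EndAV.Hom X A), ∃ g : EndAV.Hom Y A, φ ≫ g = f)
    (M : Type u) [AddCommGroup M] [Module (EndAV.End A) M] [Module.Finite ℤ M] [Module.Free ℤ M] :
    ∃ (X : Over (Spec (CommRingCat.of k))) (_ : GrpObj X) (_ : IsCommMonObj X) (_ : IsProper X.hom)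
      (_ : GeometricallyIntegral X.hom) (_ : Mem P X) (e : M ≃+ EndAV.Hom X A),
        ∀ (s : EndAV.End A) (m : M), (e (s • m)).toHom = (e m).toHom ≫ s.toHom := by
  classical
  obtain ⟨N, gens, hgens⟩ := Module.Finite.exists_fin (R := ℤ) (M := M)
  let f : (Fin N → EndAV.End A) →ₗ[EndAV.End A] M := ∑ j, (LinearMap.proj j).smulRight (gens j)
  have hfj : ∀ j, f (Pi.single j 1) = gens j := fun j => by
    rw [LinearMap.sum_apply, Finset.sum_eq_single j]
    · simp only [LinearMap.smulRight_apply, LinearMap.proj_apply, Pi.single_eq_same]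
      exact one_smul (EndAV.End A) _
    · intro b _ hb; simp [Pi.single_eq_of_ne hb]
    · simp
  have hsurj : Function.Surjective f := fun x => by
    have hx : x ∈ Submodule.span ℤ (Set.range gens) := hgens ▸ Submodule.mem_top
    obtain ⟨c, rfl⟩ := (Submodule.mem_span_range_iff_exists_fun ℤ).1 hx
    exact ⟨∑ j, c j • Pi.single j 1, by simp only [map_sum, map_zsmul, hfj]⟩
  haveI : IsSemisimpleRing (EndAV.End0 A) := AVAmpleLib.isSemisimpleRing_end0
  obtain ⟨n, κ, hn, hκ, hproj⟩ := exists_scaled_projection (S := EndAV.End A) AVAmpleLib.toEnd0_injective N (LinearMap.ker f)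
  obtain ⟨An, _, _, _, _, pr, hlift, hmono⟩ := exists_power A N
  -- vectors as homomorphisms out of the power
  let Φ : (Fin N → EndAV.End A) →+ EndAV.Hom An A :=
    { toFun := fun v => ∑ j, pr j ≫ (v j : EndAV.Hom A A)
      map_zero' := by simp
      map_add' := fun v w => by
        rw [← Finset.sum_add_distrib]
        exact Finset.sum_congr rfl fun j _ => Preadditive.comp_add _ _ _ _ _ _ }
  have hΦs : ∀ (s : EndAV.End A) v, Φ (s • v) = Φ v ≫ (s : EndAV.Hom A A) := fun s v => by
    show (∑ j, pr j ≫ ((v j : EndAV.Hom A A) ≫ (s : EndAV.Hom A A))) = _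
    simp only [← Category.assoc, ← Preadditive.sum_comp]
    rfl
  have hΦsurj : Function.Surjective Φ := fun φ => by
    obtain ⟨s, hs⟩ := exists_decomp hlift hmono φ
    exact ⟨s, hs.symm⟩
  obtain ⟨ε, hε⟩ := hlift An fun j => Φ (κ j)
  have hεΦ : ∀ v, ε ≫ Φ v = Φ (∑ j, v j • κ j) := fun v => by
    show ε ≫ (∑ j, pr j ≫ (v j : EndAV.Hom A A)) = _
    rw [Preadditive.comp_sum, map_sum]
    exact Finset.sum_congr rfl fun j _ => by rw [← Category.assoc, hε, hΦs]
  let w : EndAV.Hom An An := n • 𝟙 (CommGrp.mk An) - ε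
  have hwΦ : ∀ v, w ≫ Φ v = n • Φ v - Φ (∑ j, v j • κ j) := fun v => by
    rw [Preadditive.sub_comp, Preadditive.nsmul_comp, Category.id_comp, hεΦ]
  obtain ⟨X, _, _, _, _, p, i, hpi, _, _, _⟩ := exists_imageAV w
  haveI : Mono i.toHom := Over.mono_of_mono_left i.toHom
  have hXA : Mem P X := hA.of_mono (fun j => i ≫ pr j) fun T x y h => by
    rw [← cancel_mono i.toHom]
    exact hmono T _ _ fun j => by simpa [Category.assoc] using h j
  have hAn : Mem P An := hA.of_mono pr hmono
  let R : (Fin N → EndAV.End A) →+ EndAV.Hom X A := (Preadditive.leftComp (CommGrp.mk A) i).comp Φ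
  have hR : Function.Surjective R := fun φ => by
    obtain ⟨g, hg⟩ := hext X An hXA hAn i φ
    obtain ⟨v, rfl⟩ := hΦsurj g
    exact ⟨v, hg⟩
  haveI := AVAmpleLib.isTorsionFree_hom (A := X) (B := A)
  have hker : ∀ v, R v = 0 ↔ f v = 0 := fun v => by
    constructor
    · intro h
      have h1 : w ≫ Φ v = 0 := by
        rw [← hpi, Category.assoc, show i ≫ Φ v = 0 from h, Limits.comp_zero]
      rw [hwΦ, sub_eq_zero, ← map_nsmul] at h1
      have hΦinj : Function.Injective Φ := (injective_iff_map_eq_zero Φ).2 fun u hu => funext fun j => by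
        obtain ⟨inj, hinj⟩ := hlift A fun l => if j = l then 𝟙 (CommGrp.mk A) else 0
        have h2 := congrArg (inj ≫ ·) hu
        simp only [Φ, AddMonoidHom.coe_mk, ZeroHom.coe_mk, Preadditive.comp_sum, ← Category.assoc, hinj, Limits.comp_zero] at h2
        rw [Finset.sum_eq_single j (fun b _ hb => by rw [if_neg (Ne.symm hb), Limits.zero_comp]) (by simp), if_pos rfl,
          Category.id_comp] at h2
        exact h2
      have h2 := congrArg f (hΦinj h1)
      rw [LinearMap.mem_ker.1 (Submodule.sum_mem _ fun j _ => Submodule.smul_mem _ _ (hκ j)), map_nsmul, ← natCast_zsmul] at h2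
      exact (smul_eq_zero.1 h2).resolve_left (Int.natCast_ne_zero.2 hn.ne')
    · intro h
      have h1 : p ≫ i ≫ Φ v = 0 := by
        rw [← Category.assoc, hpi, hwΦ, hproj v (LinearMap.mem_ker.2 h), map_nsmul, sub_self]
      exact cancel_dominant' p _ 0 (h1.trans Limits.comp_zero.symm)
  -- the comparison
  let e₁ : M ≃+ (Fin N → EndAV.End A) ⧸ f.toAddMonoidHom.ker :=
    (QuotientAddGroup.quotientKerEquivOfSurjective f.toAddMonoidHom hsurj).symm
  let e₂ : (Fin N → EndAV.End A) ⧸ f.toAddMonoidHom.ker ≃+ (Fin N → EndAV.End A) ⧸ R.ker :=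
    QuotientAddGroup.quotientAddEquivOfEq (AddSubgroup.ext fun v => (hker v).symm)
  let e : M ≃+ EndAV.Hom X A := (e₁.trans e₂).trans (QuotientAddGroup.quotientKerEquivOfSurjective R hR)
  have he : ∀ v, e (f v) = R v := fun v => by
    have : e₁ (f v) = (QuotientAddGroup.mk v) := (QuotientAddGroup.quotientKerEquivOfSurjective f.toAddMonoidHom hsurj).symm_apply_eq.2 rfl
    show (QuotientAddGroup.quotientKerEquivOfSurjective R hR) (e₂ (e₁ (f v))) = R v
    rw [this]
    rfl
  refine ⟨X, inferInstance, inferInstance, inferInstance, inferInstance, hXA, e, fun s m => ?_⟩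
  obtain ⟨v, rfl⟩ := hsurj m
  rw [← map_smul, he, he]
  show EndAV.Hom.toHom (i ≫ Φ (s • v)) = EndAV.Hom.toHom (i ≫ Φ v) ≫ _
  rw [hΦs, ← Category.assoc]
  rfl

end Anti

end TateThmLib

end
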