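import Groth.Agent.TateThmLib.RootCount
import Mathlib.FieldTheory.IsAlgClosed.AlgebraicClosure

/-!
Common roots counted through separable irreducible factors.
-/

set_option autoImplicit false
set_option linter.unusedSectionVars false

noncomputable section

open Polynomial UniqueFactorizationMonoid

namespace TateThmLib.Sep

variable {F : Type*} [Field F] [DecidableEq F] {L : Type*} [Field L] [DecidableEq L] [IsAlgClosed L]
  (φ : F →+* L)

theorem monic_mem {q P : F[X]} (h : P ∈ normalizedFactors q) : P.Monic := by
  rw [← normalize_normalized_factor P h]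
  exact Polynomial.monic_normalize (irreducible_of_normalized_factor P h).ne_zero

theorem count_roots_factor {q : F[X]} (hq : q.Monic) {P : F[X]} (hP : P ∈ normalizedFactors q ∨ Irreducible P ∧ P.Monic)
    (hPs : P.Separable) {x : L} (hx : x ∈ (P.map φ).roots) : (q.map φ).roots.count x = (normalizedFactors q).count P := by
  obtain ⟨hPi, hPm⟩ : Irreducible P ∧ P.Monic := hP.elim (fun h => ⟨irreducible_of_normalized_factor _ h,
    monic_mem h⟩) id
  have hprod : (normalizedFactors q).prod = q := by
    have h := prod_normalizedFactors hq.ne_zero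
    exact eq_of_monic_of_associated (by simpa using monic_multiset_prod_of_monic (normalizedFactors q) id fun _ ha => monic_mem ha) hq h
  conv_lhs => rw [← hprod]
  rw [Polynomial.map_multiset_prod, roots_multiset_prod _ (fun h0 => by
    obtain ⟨Q, hQ, hQ0⟩ := Multiset.mem_map.1 h0
    exact (monic_mem hQ).ne_zero ((Polynomial.map_eq_zero φ).1 hQ0)), Multiset.bind_map,
    Multiset.count_bind]
  have key : ∀ Q ∈ normalizedFactors q, (Q.map φ).roots.count x = if P = Q then 1 else 0 := fun Q hQ => by
    by_cases h : P = Q
    · subst h
      rw [if_pos rfl]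
      refine Multiset.count_eq_one_of_mem ?_ hx
      exact nodup_roots hPs.map
    · rw [if_neg h, Multiset.count_eq_zero]
      intro hxQ
      have hco : IsCoprime P Q := (hPi.coprime_iff_not_dvd).2 fun hd => h (eq_of_monic_of_associated hPm
        (monic_mem hQ) (hPi.associated_of_dvd (irreducible_of_normalized_factor _ hQ) hd))
      obtain ⟨a, b, hab⟩ := hco
      have := congrArg (fun r => (r.map φ).eval x) hab
      rw [mem_roots'] at hx hxQ
      simp [hx.2.eq_zero, hxQ.2.eq_zero] at this
  rw [Multiset.map_congr rfl key]
  generalize normalizedFactors q = s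
  induction s using Multiset.induction_on with
  | empty => simp
  | cons Q s ih => rw [Multiset.map_cons, Multiset.sum_cons, ih, Multiset.count_cons, add_comm]

theorem sum_roots_eq {p q : F[X]} (hp : p.Monic) (hq : q.Monic) (hsep : ∀ P ∈ normalizedFactors p, P.Separable) :
    ((p.map φ).roots.map fun x => (q.map φ).roots.count x).sum =
      ∑ P ∈ (normalizedFactors p).toFinset,
        (normalizedFactors p).count P * (normalizedFactors q).count P * P.natDegree := by
  have hprod : (normalizedFactors p).prod = p := by
    have h := prod_normalizedFactors hp.ne_zero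
    exact eq_of_monic_of_associated (by simpa using monic_multiset_prod_of_monic (normalizedFactors p) id fun _ ha => monic_mem ha) hp h
  conv_lhs => rw [← hprod]
  rw [Polynomial.map_multiset_prod, roots_multiset_prod _ (fun h0 => by
    obtain ⟨Q, hQ, hQ0⟩ := Multiset.mem_map.1 h0
    exact (monic_mem hQ).ne_zero ((Polynomial.map_eq_zero φ).1 hQ0)), Multiset.bind_map,
    Multiset.map_bind, Multiset.sum_bind]
  rw [Multiset.map_congr rfl fun P hP => show ((P.map φ).roots.map fun x => (q.map φ).roots.count x).sum =
      (normalizedFactors q).count P * P.natDegree by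
    rw [Multiset.map_congr rfl fun x hx => count_roots_factor φ hq
      (Or.inr ⟨irreducible_of_normalized_factor _ hP, monic_mem hP⟩) (hsep P hP) hx,
      Multiset.map_const', Multiset.sum_replicate, IsAlgClosed.card_roots_map_eq_natDegree_from_simpleRing, smul_eq_mul, mul_comm]]
  rw [Finset.sum_multiset_map_count]
  exact Finset.sum_congr rfl fun P _ => by rw [smul_eq_mul, mul_assoc]

open scoped Classical in
/-- The count does not change under an extension of a perfect field. -/
theorem sum_count_map_eq (K L : Type*) [Field K] [PerfectField K] [Field L] [Algebra K L] {f₁ f₂ : K[X]} (h₁ : f₁ ≠ 0)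
    (h₂ : f₂ ≠ 0) :
    ∑ P ∈ (normalizedFactors (f₁.map (algebraMap K L))).toFinset,
        (normalizedFactors (f₁.map (algebraMap K L))).count P *
          (normalizedFactors (f₂.map (algebraMap K L))).count P * P.natDegree =
      ∑ P ∈ (normalizedFactors f₁).toFinset,
        (normalizedFactors f₁).count P * (normalizedFactors f₂).count P * P.natDegree := by
  have hn : ∀ {f : K[X]}, f ≠ 0 → ∃ g : K[X], g.Monic ∧ normalizedFactors g = normalizedFactors f ∧
      normalizedFactors (g.map (algebraMap K L)) = normalizedFactors (f.map (algebraMap K L)) := fun {f} hf => by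
    refine ⟨f * C f.leadingCoeff⁻¹, monic_mul_leadingCoeff_inv hf, ?_, ?_⟩
    all_goals
      have hu : IsUnit (C f.leadingCoeff⁻¹) := isUnit_C.2 (isUnit_iff_ne_zero.2 (inv_ne_zero (leadingCoeff_ne_zero.2 hf)))
    · exact (associated_iff_normalizedFactors_eq_normalizedFactors (monic_mul_leadingCoeff_inv hf).ne_zero hf).1
        (associated_mul_unit_left f _ hu)
    · refine (associated_iff_normalizedFactors_eq_normalizedFactors ?_ ((Polynomial.map_ne_zero_iff (algebraMap K L).injective).2 hf)).1 ?_
      · exact ((monic_mul_leadingCoeff_inv hf).map _).ne_zero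
      · rw [Polynomial.map_mul]
        exact associated_mul_unit_left _ _ (hu.map (mapRingHom (algebraMap K L)))
  obtain ⟨p, hp, hp1, hp2⟩ := hn h₁
  obtain ⟨q, hq, hq1, hq2⟩ := hn h₂
  rw [← hp1, ← hq1, ← hp2, ← hq2, ← TateThmLib.sum_roots_eq (algebraMap K (AlgebraicClosure L)) hp hq,
    ← sum_roots_eq (algebraMap L (AlgebraicClosure L)) (hp.map _) (hq.map _) fun Q hQ => ?_, Polynomial.map_map,
    Polynomial.map_map, ← IsScalarTower.algebraMap_eq]
  have hQi := prime_of_normalized_factor Q hQ
  have hd : Q ∣ (p.map (algebraMap K L)) := dvd_of_mem_normalizedFactors hQ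
  have hprod : (normalizedFactors p).prod = p := eq_of_monic_of_associated
    (by simpa using monic_multiset_prod_of_monic (normalizedFactors p) id fun _ ha => TateThmLib.monic_mem ha) hp
    (prod_normalizedFactors hp.ne_zero)
  rw [← hprod, Polynomial.map_multiset_prod] at hd
  obtain ⟨R, hR, hQR⟩ := hQi.exists_mem_multiset_dvd hd
  obtain ⟨R', hR', rfl⟩ := Multiset.mem_map.1 hR
  exact ((PerfectField.separable_of_irreducible (irreducible_of_normalized_factor _ hR')).map).of_dvd hQR

end TateThmLib.Sep

end
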