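import Groth.Agent.S14936
import Groth.Agent.AVAmpleLib.WeilConst
import Groth.Agent.AVAmpleLib.FrobExist
import Groth.Agent.AVAmpleLib.TracePow
import Mathlib.FieldTheory.Finite.Extension

/-!
The numbers of points determine the isogeny class.
-/

set_option autoImplicit false
set_option maxHeartbeats 1000000
set_option maxRecDepth 8000
set_option backward.isDefEq.respectTransparency false
set_option linter.style.haveILetI false
set_option linter.unusedSectionVars false

noncomputable section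

universe u

open CategoryTheory CategoryTheory.Limits MonoidalCategory CartesianMonoidalCategory MonObj AlgebraicGeometry

namespace TateThmLib

section Combinatorics

/-- Products over the subsets of even and of odd size. -/
def evenOdd : List ℂ → Multiset ℂ × Multiset ℂ
  | [] => ({1}, 0)
  | a :: s => ((evenOdd s).1 + (evenOdd s).2.map (a * ·), (evenOdd s).2 + (evenOdd s).1.map (a * ·))

theorem prod_eq_evenOdd (m : ℕ) (s : List ℂ) :
    (s.map fun α => 1 - α ^ m).prod =
      ((evenOdd s).1.map (· ^ m)).sum - ((evenOdd s).2.map (· ^ m)).sum := by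
  induction s with
  | nil => simp [evenOdd]
  | cons a s ih =>
    simp only [evenOdd, List.map_cons, List.prod_cons, Multiset.map_add, Multiset.sum_add, Multiset.map_map,
      Function.comp_def, mul_pow, Multiset.sum_map_mul_left, ih]
    ring

theorem norm_evenOdd {r : ℝ} (s : List ℂ) (hs : ∀ α ∈ s, ‖α‖ = r) :
    (∀ b ∈ (evenOdd s).1, ∃ j, ‖b‖ = r ^ (2 * j)) ∧ ∀ b ∈ (evenOdd s).2, ∃ j, ‖b‖ = r ^ (2 * j + 1) := by
  induction s with
  | nil => simp [evenOdd]; exact ⟨0, by simp⟩
  | cons a s ih =>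
    obtain ⟨he, ho⟩ := ih fun α hα => hs α (List.mem_cons_of_mem _ hα)
    have ha : ‖a‖ = r := hs a List.mem_cons_self
    constructor <;> intro b hb <;> simp only [evenOdd, Multiset.mem_add, Multiset.mem_map] at hb <;>
      rcases hb with hb | ⟨c, hc, rfl⟩
    · exact he b hb
    · obtain ⟨j, hj⟩ := ho c hc; exact ⟨j + 1, by rw [norm_mul, ha, hj]; ring⟩
    · exact ho b hb
    · obtain ⟨j, hj⟩ := he c hc; exact ⟨j, by rw [norm_mul, ha, hj]; ring⟩

theorem filter_evenOdd {r : ℝ} (hr : 1 < r) (s : List ℂ) (hs : ∀ α ∈ s, ‖α‖ = r) :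
    (evenOdd s).1.filter (fun b => ‖b‖ = r) = 0 ∧ (evenOdd s).2.filter (fun b => ‖b‖ = r) = (s : Multiset ℂ) ∧
      (evenOdd s).1.filter (fun b => ‖b‖ = 1) = {1} := by
  have hne : ∀ i j : ℕ, r ^ i = r ^ j → i = j := fun i j h => (pow_right_injective₀ (zero_lt_one.trans hr) hr.ne') h
  induction s with
  | nil =>
    refine ⟨?_, ?_, ?_⟩ <;> simp [evenOdd, Multiset.filter_singleton]
    exact hr.ne
  | cons a s ih =>
    have hs' : ∀ α ∈ s, ‖α‖ = r := fun α hα => hs α (List.mem_cons_of_mem _ hα)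
    have ha : ‖a‖ = r := hs a List.mem_cons_self
    obtain ⟨he, ho⟩ := norm_evenOdd s hs'
    obtain ⟨h1, h2, h3⟩ := ih hs'
    have hodd : ∀ b ∈ (evenOdd s).2.map (a * ·), ∃ j, ‖b‖ = r ^ (2 * j + 2) := fun b hb => by
      obtain ⟨c, hc, rfl⟩ := Multiset.mem_map.1 hb
      obtain ⟨j, hj⟩ := ho c hc
      exact ⟨j, by rw [norm_mul, ha, hj]; ring⟩
    have z1 : ((evenOdd s).2.map (a * ·)).filter (fun b => ‖b‖ = r) = 0 := Multiset.filter_eq_nil.2 fun b hb hb' => by
      obtain ⟨j, hj⟩ := hodd b hb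
      have := hne (2 * j + 2) 1 (by rw [← hj, hb', pow_one])
      omega
    have z2 : ((evenOdd s).2.map (a * ·)).filter (fun b => ‖b‖ = 1) = 0 := Multiset.filter_eq_nil.2 fun b hb hb' => by
      obtain ⟨j, hj⟩ := hodd b hb
      have := hne (2 * j + 2) 0 (by rw [← hj, hb', pow_zero])
      omega
    have hiff : ∀ c : ℂ, ‖a * c‖ = r ↔ ‖c‖ = 1 := fun c => by
      rw [norm_mul, ha, mul_eq_left₀ (zero_lt_one.trans hr).ne']
    simp only [evenOdd, Multiset.filter_add, h1, h2, h3, z1, z2, add_zero, Multiset.filter_map, Function.comp_def]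
    refine ⟨trivial, ?_, trivial⟩
    rw [Multiset.filter_congr (q := fun c => ‖c‖ = 1) fun c _ => hiff c, h3, Multiset.map_singleton, _root_.mul_one, add_comm,
      Multiset.singleton_add]
    rfl

/-- Equal counts give equal multisets of roots. -/
theorem roots_eq_of_prod_eq {r : ℝ} (hr : 1 < r) (s t : Multiset ℂ) (hs : ∀ α ∈ s, ‖α‖ = r) (ht : ∀ α ∈ t, ‖α‖ = r)
    (h : ∀ m : ℕ, m ≠ 0 → (s.map fun α => 1 - α ^ m).prod = (t.map fun α => 1 - α ^ m).prod) : s = t := by
  induction s using Quotient.inductionOn with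
  | _ s =>
  induction t using Quotient.inductionOn with
  | _ t =>
  change ∀ α ∈ (s : Multiset ℂ), ‖α‖ = r at hs
  simp only [Multiset.quot_mk_to_coe, Multiset.map_coe, Multiset.prod_coe, prod_eq_evenOdd] at h
  simp only [Multiset.quot_mk_to_coe, Multiset.mem_coe] at hs ht ⊢
  set eS := (evenOdd s).1
  set oS := (evenOdd s).2
  set eT := (evenOdd t).1
  set oT := (evenOdd t).2
  have key : eS + oT + Multiset.replicate (Multiset.card (eT + oS)) 0 =
      eT + oS + Multiset.replicate (Multiset.card (eS + oT)) 0 := by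
    refine AVAmpleLib.eq_of_psum fun j => ?_
    rcases Nat.eq_zero_or_pos j with rfl | hj
    · simp [Multiset.map_const', Multiset.sum_replicate]
      ring
    · simp only [Multiset.map_add, Multiset.sum_add, Multiset.map_replicate, zero_pow hj.ne', Multiset.sum_replicate,
        smul_zero, add_zero]
      linear_combination h j hj.ne'
  have hz : ∀ n, (Multiset.replicate n (0 : ℂ)).filter (fun b => ‖b‖ = r) = 0 := fun n =>
    Multiset.filter_eq_nil.2 fun b hb hb' => by
      rw [Multiset.eq_of_mem_replicate hb, norm_zero] at hb'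
      linarith
  have h' := congrArg (Multiset.filter fun b => ‖b‖ = r) key
  obtain ⟨a1, a2, -⟩ := filter_evenOdd hr s hs
  obtain ⟨b1, b2, -⟩ := filter_evenOdd hr t ht
  simp only [Multiset.filter_add, hz, eS, oS, eT, oT, a1, a2, b1, b2, zero_add, add_zero] at h'
  exact h'.symm

end Combinatorics

variable {k : Type u} [Field k] [Finite k]

/-- The characteristic polynomial of the Frobenius and the numbers of points. -/
theorem exists_frob_data (X : Over (Spec (CommRingCat.of k))) [GrpObj X] [IsCommMonObj X] [IsProper X.hom]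
    [GeometricallyIntegral X.hom] :
    ∃ (π : X ⟶ X) (_ : IsMonHom π) (hle : ∀ U : X.left.Opens, U ≤ π.left ⁻¹ᵁ U) (P : Polynomial ℤ),
      π.left.base = 𝟙 _ ∧ (∀ (U : X.left.Opens) (s : Γ(X.left, U)), (π.left.appLE U U (hle U)).hom s = s ^ Nat.card k) ∧
      P.Monic ∧
      (∀ (l : ℕ) [Fact l.Prime], (l : k) ≠ 0 →
        ∀ [Module.Free ℤ_[l] (AbDual.TateMod X l (SGA7.pt (K := k) (AlgebraicClosure k)))]
          [Module.Finite ℤ_[l] (AbDual.TateMod X l (SGA7.pt (K := k) (AlgebraicClosure k)))],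
          (AbDual.tateMapₗ (l := l) (T := SGA7.pt (K := k) (AlgebraicClosure k)) π).charpoly =
            P.map (Int.castRingHom ℤ_[l])) ∧
      (∀ α ∈ (P.map (Int.castRingHom ℂ)).roots, ‖α‖ = Real.sqrt (Nat.card k)) ∧
      (∀ m : ℕ, m ≠ 0 → (Zeta.nPts X.hom m : ℂ) = ((P.map (Int.castRingHom ℂ)).roots.map fun α => 1 - α ^ m).prod) ∧
      ∀ (k' : Type u) [Field k'] [Algebra k k'] [Finite k'],
        (Nat.card (Over.mk (Spec.map (CommRingCat.ofHom (algebraMap k k'))) ⟶ X) : ℂ) =
          ((P.map (Int.castRingHom ℂ)).roots.map fun α => 1 - α ^ Module.finrank k k').prod := by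
  obtain ⟨π, hπ, hle, hb, happ⟩ := AVAmpleLib.exists_frob X
  obtain ⟨g, hg⟩ := AVAmpleLib.exists_dim_field X
  obtain ⟨P, hm, hd, hchar, hP⟩ := AVAmpleLib.exists_charpoly_bc (AlgebraicClosure k) X hg (EndAV.End.of π)
  exact ⟨π, hπ, hle, P, hb, happ, hm,
    fun l _ hl _ _ => hP l (natCast_Ω_ne_zero (Ω := AlgebraicClosure k) hl),
    AVAmpleLib.norm_root_frob π hb hle happ Nat.card_pos (AlgebraicClosure k) hg hchar,
    fun m hm0 => AVAmpleLib.nPts_frob π hb hle happ (AlgebraicClosure k) hg hm hd hchar hm0,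
    fun k' _ _ _ => AVAmpleLib.natCard_points_frob π hb hle happ k' (AlgebraicClosure k) hg hm hd hchar⟩

/-- Isogeny classes, zeta functions and numbers of points. -/
theorem isogenous_iff_counts (X Y : Over (Spec (CommRingCat.of k))) [GrpObj X] [IsCommMonObj X] [IsProper X.hom]
    [GeometricallyIntegral X.hom] [GrpObj Y] [IsCommMonObj Y] [IsProper Y.hom] [GeometricallyIntegral Y.hom] :
    ((∃ (u : X ⟶ Y) (_ : IsMonHom u) (v : Y ⟶ X) (_ : IsMonHom v) (n : ℕ), 0 < n ∧
        u ≫ v = (𝟙 X) ^ n ∧ v ≫ u = (𝟙 Y) ^ n) ↔ ∀ m : ℕ, m ≠ 0 → Zeta.nPts X.hom m = Zeta.nPts Y.hom m) ∧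
    ((∀ (k' : Type u) [Field k'] [Algebra k k'] [Finite k'],
        Nat.card (Over.mk (Spec.map (CommRingCat.ofHom (algebraMap k k'))) ⟶ X) =
          Nat.card (Over.mk (Spec.map (CommRingCat.ofHom (algebraMap k k'))) ⟶ Y)) ↔
      ∀ m : ℕ, m ≠ 0 → Zeta.nPts X.hom m = Zeta.nPts Y.hom m) := by
  obtain ⟨πX, _, hleX, PX, hbX, happX, hmX, hcX, hnX, hNX, hkX⟩ := exists_frob_data X
  obtain ⟨πY, _, hleY, PY, hbY, happY, hmY, hcY, hnY, hNY, hkY⟩ := exists_frob_data Y
  obtain ⟨l, _, hl⟩ := AVAmpleLib.exists_prime_ne_zero k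
  obtain ⟨_, _⟩ := free_finite (A := X) (Ω := AlgebraicClosure k) hl
  obtain ⟨_, _⟩ := free_finite (A := Y) (Ω := AlgebraicClosure k) hl
  have h36 := Groth.Agent.S14936.result k (AlgebraicClosure k) l hl X Y πX hbX hleX happX πY hbY hleY happY
  rw [hcX l hl, hcY l hl] at h36
  have hr : 1 < Real.sqrt (Nat.card k) :=
    (Real.lt_sqrt zero_le_one).2 (by rw [one_pow]; exact_mod_cast Finite.one_lt_card)
  have hPeq : (∀ m : ℕ, m ≠ 0 → Zeta.nPts X.hom m = Zeta.nPts Y.hom m) ↔ PX = PY := by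
    refine ⟨fun h => Polynomial.map_injective _ (RingHom.injective_int (Int.castRingHom ℂ)) ?_, fun h m hm => ?_⟩
    · have hroots := roots_eq_of_prod_eq hr _ _ hnX hnY fun m hm => by rw [← hNX m hm, ← hNY m hm, h m hm]
      rw [(IsAlgClosed.splits _).eq_prod_roots_of_monic (hmX.map _), hroots,
        ← (IsAlgClosed.splits _).eq_prod_roots_of_monic (hmY.map _)]
    · have h1 := hNX m hm
      rw [h, ← hNY m hm] at h1
      exact_mod_cast h1
  refine ⟨?_, fun h => ?_, fun h k' _ _ _ => ?_⟩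
  · rw [h36, hPeq]
    exact ⟨fun h => Polynomial.map_injective _ (RingHom.injective_int _) h, fun h => by rw [h]⟩
  · intro m hm
    haveI : NeZero m := ⟨hm⟩
    obtain ⟨p, hp⟩ := CharP.exists k
    haveI : Fact p.Prime := ⟨CharP.char_is_prime k p⟩
    let k' : Type u := ULift.{u} (FiniteField.Extension k p m)
    have hfr : Module.finrank k k' = m := by
      rw [LinearEquiv.finrank_eq (ULift.moduleEquiv (R := k) (M := FiniteField.Extension k p m)),
        FiniteField.finrank_extension]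
    have h1 : (Nat.card (Over.mk (Spec.map (CommRingCat.ofHom (algebraMap k k'))) ⟶ X) : ℂ) =
        Nat.card (Over.mk (Spec.map (CommRingCat.ofHom (algebraMap k k'))) ⟶ Y) := by exact_mod_cast h k'
    rw [hkX k', hkY k', hfr, ← hNX m hm, ← hNY m hm] at h1
    exact_mod_cast h1
  · have h1 := hkX k'
    rw [hPeq.1 h, ← hkY k'] at h1
    exact_mod_cast h1

theorem zetaFun_eq_iff {X Y : Scheme.{u}} (f : X ⟶ Spec (CommRingCat.of k)) (g : Y ⟶ Spec (CommRingCat.of k)) :
    Zeta.zetaFun f = Zeta.zetaFun g ↔ ∀ m : ℕ, m ≠ 0 → Zeta.nPts f m = Zeta.nPts g m := by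
  constructor
  · intro h m _
    have h1 := WeilLib.X_mul_derivative_zetaFun f
    rw [h, WeilLib.X_mul_derivative_zetaFun g] at h1
    have hne : Zeta.zetaFun g ≠ 0 := fun h0 => by
      have := WeilLib.constantCoeff_zetaFun g
      rw [h0, map_zero] at this
      exact zero_ne_one this
    have := congrArg (PowerSeries.coeff m) (mul_left_cancel₀ hne h1)
    simp only [PowerSeries.coeff_mk] at this
    exact_mod_cast this.symm
  · intro h
    unfold Zeta.zetaFun
    congr 1
    ext m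
    simp only [Zeta.logZeta, PowerSeries.coeff_mk]
    rcases eq_or_ne m 0 with rfl | hm
    · simp [Zeta.nPts]
    · rw [h m hm]

end TateThmLib

end
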