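import Groth.Agent.TateThmLib.MinOrderTate
import Groth.Agent.AVAmpleLib.IsogInv
import Groth.Agent.TateThmLib.Engine

/-!
Biduality of Tate modules with the minimal central order.
-/

set_option autoImplicit false
set_option maxHeartbeats 1000000
set_option synthInstance.maxHeartbeats 200000
set_option maxRecDepth 8000
set_option backward.isDefEq.respectTransparency false
set_option linter.style.haveILetI false
set_option linter.unusedSectionVars false

noncomputable section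

universe u

open CategoryTheory CategoryTheory.Limits MonoidalCategory CartesianMonoidalCategory MonObj AlgebraicGeometry
open scoped TensorProduct
open Polynomial (aeval)

namespace TateThmLib

namespace MinOrder

theorem ne_zero_of_weil {p : ℕ} [Fact p.Prime] {F : Type*} [Field F] [CharZero F] (ϖ : F)
    (hweil : ∀ z ∈ (minpoly ℤ ϖ).aroots ℂ, ‖z‖ = Real.sqrt p) : ϖ ≠ 0 := by
  rintro rfl
  have h0 : (minpoly ℤ (0 : F)).coeff 0 = 0 := by
    simpa [Polynomial.aeval_def, Polynomial.eval₂_at_zero] using minpoly.aeval ℤ (0 : F)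
  have h := hweil 0 (by
    rw [Polynomial.mem_aroots, ← Polynomial.coeff_zero_eq_aeval_zero', h0, map_zero]
    exact ⟨minpoly.ne_zero isIntegral_zero, rfl⟩)
  rw [norm_zero, eq_comm, Real.sqrt_eq_zero (Nat.cast_nonneg p), Nat.cast_eq_zero] at h
  exact (Fact.out : p.Prime).ne_zero h

variable {k : Type u} [Field k] [Finite k] {p : ℕ} [Fact p.Prime] (hk : Nat.card k = p)
  {J : Type} [Fintype J] {K : J → Type} [∀ j, Field (K j)] [∀ j, CharZero (K j)] {ϖ : ∀ j, K j}
  (hint : ∀ j, IsIntegral ℤ (ϖ j)) (hinj : ∀ i j, minpoly ℤ (ϖ i) = minpoly ℤ (ϖ j) → i = j)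
  (hne : ∀ j, ϖ j ≠ 0)
  {Aw : Over (Spec (CommRingCat.of k))} [GrpObj Aw] [IsCommMonObj Aw] [IsProper Aw.hom]
  [GeometricallyIntegral Aw.hom] {πw : Aw ⟶ Aw} [IsMonHom πw] (hπw : IsFrob πw)
  (ρw : (Φ p ϖ).range ≃+* EndAV.End Aw)
  (hρw : ρw ⟨Φ p ϖ (MvPolynomial.X 0), AlgHom.mem_range_self _ _⟩ = EndAV.End.of πw)
  {l : ℕ} [Fact l.Prime] (hl : (l : k) ≠ 0) {Ω : Type u} [Field Ω] [Algebra k Ω] [IsAlgClosure k Ω]
  {A : Over (Spec (CommRingCat.of k))} [GrpObj A] [IsCommMonObj A] [IsProper A.hom] [GeometricallyIntegral A.hom]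
  {πA : A ⟶ A} [IsMonHom πA] (hπA : IsFrob πA) (hPA : aeval (EndAV.End.of πA) (Pw ϖ) = 0)

include hk hint hinj hne hπw hρw hl hπA hPA in
/-- Homomorphisms separate and equivariant maps are evaluations. -/
theorem tate_biduality :
    (∀ z : AbDual.TateMod A l (SGA7.pt (K := k) Ω),
        (∀ φ : EndAV.Hom A Aw, EndAV.Hom.tateMap l (SGA7.pt (K := k) Ω) φ z = 0) → z = 0) ∧
      ∀ g : EndAV.Hom A Aw →+ AbDual.TateMod Aw l (SGA7.pt (K := k) Ω),
        (∀ φ : EndAV.Hom A Aw, g (φ ≫ EndAV.Hom.of πw) = TF l Ω πw (g φ)) →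
          ∃ z, ∀ φ : EndAV.Hom A Aw, g φ = EndAV.Hom.tateMap l (SGA7.pt (K := k) Ω) φ z := by
  haveI : IsAlgClosed Ω := IsAlgClosure.isAlgClosed k
  obtain ⟨_, _⟩ := free_finite (A := A) (Ω := Ω) hl
  obtain ⟨_, _⟩ := free_finite (A := Aw) (Ω := Ω) hl
  obtain ⟨x, bb, hbb⟩ := exists_cyclic (l := l) (Ω := Ω) hk hint hinj hne hπw ρw hρw hl
  have hPm : ((Pw ϖ).map (algebraMap ℤ ℤ_[l])).Monic := (monic_Pw ϖ hint).map _
  obtain ⟨hsep, hev⟩ := interR_biduality (TF l Ω πw) (TF l Ω πA) x bb hbb hPm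
    ((monic_Pw ϖ hint).natDegree_map _)
    (aeval_TF πw ((aeval_eq_zero_iff ρw hρw _).2 fun j => aeval_Pw ϖ j)) (aeval_TF πA hPA)
  have hmem : ∀ φ : EndAV.Hom A Aw,
      EndAV.Hom.tateMap l (SGA7.pt (K := k) Ω) φ ∈ interR (TF l Ω πA) (TF l Ω πw) := fun φ z =>
    LinearMap.congr_fun ((span_hom_iff hπA hπw hl _).1 (Submodule.subset_span (Set.mem_range_self φ))) z
  have hspan : ∀ u ∈ interR (TF l Ω πA) (TF l Ω πw),
      u ∈ Submodule.span ℤ_[l] (Set.range (EndAV.Hom.tateMap (A := A) (B := Aw) l (SGA7.pt (K := k) Ω))) :=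
    fun u hu => (span_hom_iff hπA hπw hl u).2 (LinearMap.ext hu)
  refine ⟨fun z hz => hsep z fun u hu => ?_, fun g hg => ?_⟩
  · have h := hspan u hu
    clear hu
    induction h using Submodule.span_induction with
    | mem w hw => obtain ⟨φ, rfl⟩ := hw; exact hz φ
    | zero => rfl
    | add a b _ _ ha hb => rw [LinearMap.add_apply, ha, hb, add_zero]
    | smul a w _ hw => rw [LinearMap.smul_apply, hw, smul_zero]
  · haveI := AVAmpleLib.fg_hom_of_ext (k := k) Ω A Aw
    haveI := AVAmpleLib.isTorsionFree_hom (A := A) (B := Aw)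
    haveI : Module.Free ℤ (EndAV.Hom A Aw) := Module.free_of_finite_type_torsion_free'
    let e := Module.finBasis ℤ (EndAV.Hom A Aw)
    let v : Fin _ → interR (TF l Ω πA) (TF l Ω πw) := fun i => ⟨_, hmem (e i)⟩
    have hv : LinearIndependent ℤ_[l] v := LinearIndependent.of_comp (Submodule.subtype _)
      (AVAmpleLib.linearIndependent_tateMap_ext Ω A Aw l (natCast_Ω_ne_zero hl) _ e.linearIndependent)
    have hrep : ∀ φ : EndAV.Hom A Aw, (⟨_, hmem φ⟩ : interR (TF l Ω πA) (TF l Ω πw)) =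
        ∑ i, ((e.repr φ i : ℤ) : ℤ_[l]) • v i := fun φ => by
      refine Subtype.ext ?_
      rw [AddSubmonoidClass.coe_finsetSum]
      show EndAV.Hom.tateMap l (SGA7.pt (K := k) Ω) φ = _
      conv_lhs => rw [← e.sum_repr φ, map_sum]
      refine Finset.sum_congr rfl fun i _ => ?_
      rw [map_zsmul, SetLike.val_smul, Int.cast_smul_eq_zsmul]
    have hv' : ⊤ ≤ Submodule.span ℤ_[l] (Set.range v) := by
      rintro ⟨u, hu⟩ -
      have h := hspan u hu
      obtain ⟨c, hc⟩ := (Finsupp.mem_span_range_iff_exists_finsupp).1 h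
      have : (⟨u, hu⟩ : interR (TF l Ω πA) (TF l Ω πw)) = ∑ φ ∈ c.support, c φ • ⟨_, hmem φ⟩ := Subtype.ext (by
        rw [AddSubmonoidClass.coe_finsetSum]
        exact hc.symm)
      rw [this]
      refine sum_mem fun φ _ => Submodule.smul_mem _ _ ?_
      rw [hrep]
      exact sum_mem fun i _ => Submodule.smul_mem _ _ (Submodule.subset_span ⟨i, rfl⟩)
    let bL := Module.Basis.mk hv hv'
    let G := bL.constr ℤ_[l] fun i => g (e i)
    have hG : ∀ φ : EndAV.Hom A Aw, G ⟨_, hmem φ⟩ = g φ := fun φ => by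
      rw [hrep φ, map_sum]
      conv_rhs => rw [← e.sum_repr φ, map_sum]
      refine Finset.sum_congr rfl fun i _ => ?_
      rw [map_smul, map_zsmul, Int.cast_smul_eq_zsmul, show v i = bL i from (Module.Basis.mk_apply hv hv' i).symm,
        Module.Basis.constr_basis]
    have hcomp : ∀ φ : EndAV.Hom A Aw, EndAV.Hom.tateMap l (SGA7.pt (K := k) Ω) (φ ≫ EndAV.Hom.of πw) =
        TF l Ω πw ∘ₗ EndAV.Hom.tateMap l (SGA7.pt (K := k) Ω) φ := fun φ => LinearMap.ext fun y =>
      AbDual.TateMod.ext fun n => congrArg Additive.ofMul (Category.assoc _ _ _).symm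
    let S : interR (TF l Ω πA) (TF l Ω πw) →ₗ[ℤ_[l]] interR (TF l Ω πA) (TF l Ω πw) :=
      { toFun := fun u => ⟨TF l Ω πw ∘ₗ (u : _ →ₗ[ℤ_[l]] _), fun y => congrArg (TF l Ω πw) (u.2 y)⟩
        map_add' := fun a b => Subtype.ext (LinearMap.comp_add _ _ _)
        map_smul' := fun c a => Subtype.ext (LinearMap.comp_smul _ _ _) }
    have hS : G ∘ₗ S = TF l Ω πw ∘ₗ G := bL.ext fun i => by
      rw [LinearMap.comp_apply, LinearMap.comp_apply, show bL i = (⟨_, hmem (e i)⟩ : interR (TF l Ω πA) (TF l Ω πw))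
        from Module.Basis.mk_apply hv hv' i, hG, show S ⟨_, hmem (e i)⟩ =
        (⟨_, hmem (e i ≫ EndAV.Hom.of πw)⟩ : interR (TF l Ω πA) (TF l Ω πw)) from Subtype.ext (hcomp (e i)).symm,
        hG, hg]
    obtain ⟨z, hz⟩ := hev G fun u w h => by
      rw [show w = S u from Subtype.ext h]
      exact LinearMap.congr_fun hS u
    exact ⟨z, fun φ => (hG φ).symm.trans (hz _)⟩

include hk hint hinj hne hπw hρw hl hπA hPA in
/-- A homomorphism inducing an injection with finite cokernel on homomorphisms is injective on Tate modules. -/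
theorem tateMap_injective_of_precomp {B : Over (Spec (CommRingCat.of k))} [GrpObj B] [IsCommMonObj B] [IsProper B.hom]
    [GeometricallyIntegral B.hom] (f : EndAV.Hom A B)
    (hf : Finite (EndAV.Hom A Aw ⧸ (Preadditive.leftComp (CommGrp.mk Aw) f).range)) :
    Function.Injective (EndAV.Hom.tateMap l (SGA7.pt (K := k) Ω) f) := by
  obtain ⟨_, _⟩ := free_finite (A := A) (Ω := Ω) hl
  refine (injective_iff_map_eq_zero _).2 fun z hz => ?_
  set N := Nat.card (EndAV.Hom A Aw ⧸ (Preadditive.leftComp (CommGrp.mk Aw) f).range)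
  have hN : (N : ℤ_[l]) ≠ 0 := Nat.cast_ne_zero.2 Nat.card_pos.ne'
  refine (smul_eq_zero.1 ((tate_biduality hk hint hinj hne hπw ρw hρw hl hπA hPA).1 ((N : ℤ_[l]) • z) fun φ => ?_)).resolve_left hN
  obtain ⟨ψ, hψ⟩ : N • φ ∈ (Preadditive.leftComp (CommGrp.mk Aw) f).range := by
    rw [← QuotientAddGroup.eq_zero_iff, QuotientAddGroup.mk_nsmul]
    exact card_nsmul_eq_zero'
  have h : f ≫ ψ = N • φ := hψ
  rw [map_smul, ← LinearMap.smul_apply, Nat.cast_smul_eq_nsmul, ← map_nsmul, ← h]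
  show EndAV.Hom.tateMap l (SGA7.pt (K := k) Ω) (f ≫ ψ) z = 0
  have hc : EndAV.Hom.tateMap l (SGA7.pt (K := k) Ω) (f ≫ ψ) =
      EndAV.Hom.tateMap l (SGA7.pt (K := k) Ω) ψ ∘ₗ EndAV.Hom.tateMap l (SGA7.pt (K := k) Ω) f :=
    LinearMap.ext fun y => AbDual.TateMod.ext fun n => congrArg Additive.ofMul (Category.assoc _ _ _).symm
  rw [hc, LinearMap.comp_apply, hz, map_zero]

include hk hint hinj hne hπw hρw hπA hPA in
/-- Isogenies are detected by the lattice functor. -/
theorem isogeny_iff {B : Over (Spec (CommRingCat.of k))} [GrpObj B] [IsCommMonObj B] [IsProper B.hom]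
    [GeometricallyIntegral B.hom] {πB : B ⟶ B} [IsMonHom πB] (hπB : IsFrob πB)
    (hPB : aeval (EndAV.End.of πB) (Pw ϖ) = 0) (f : EndAV.Hom A B) :
    (IsFinite f.toHom.left ∧ Surjective f.toHom.left) ↔
      (Function.Injective (Preadditive.leftComp (CommGrp.mk Aw) f) ∧
        Finite (EndAV.Hom A Aw ⧸ (Preadditive.leftComp (CommGrp.mk Aw) f).range)) := by
  haveI := AVAmpleLib.fg_hom_of_ext (k := k) (AlgebraicClosure k) A Aw
  haveI := AVAmpleLib.fg_hom_of_ext (k := k) (AlgebraicClosure k) B Aw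
  haveI := AVAmpleLib.isTorsionFree_hom (A := A) (B := Aw)
  haveI := AVAmpleLib.isTorsionFree_hom (A := B) (B := Aw)
  let L := (Preadditive.leftComp (CommGrp.mk Aw) f).toIntLinearMap
  constructor
  · rintro ⟨_, _⟩
    obtain ⟨n, ψ, hn, _, h1, h2⟩ := AVAmpleLib.exists_quasi_inverse f.toHom
    have e1 : f ≫ EndAV.Hom.of ψ = n • 𝟙 (CommGrp.mk A) := EndAV.Hom.ext (by rw [EndAV.Hom.toHom_nsmul]; exact h1)
    have e2 : EndAV.Hom.of ψ ≫ f = n • 𝟙 (CommGrp.mk B) := EndAV.Hom.ext (by rw [EndAV.Hom.toHom_nsmul]; exact h2)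
    refine ⟨(injective_iff_map_eq_zero _).2 fun φ hφ => ?_, ?_⟩
    · change f ≫ φ = 0 at hφ
      have h3 : n • φ = 0 := by
        rw [← Category.id_comp φ, ← Preadditive.nsmul_comp, ← e2, Category.assoc, hφ, Limits.comp_zero]
      rw [← natCast_zsmul] at h3
      exact (smul_eq_zero.1 h3).resolve_left (Int.natCast_ne_zero.2 hn.ne')
    · have hsurj : Function.Surjective (QuotientAddGroup.mk' (Preadditive.leftComp (CommGrp.mk Aw) f).range) :=
        QuotientAddGroup.mk'_surjective _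
      haveI : Module.Finite ℤ (EndAV.Hom A Aw ⧸ (Preadditive.leftComp (CommGrp.mk Aw) f).range) :=
        Module.Finite.of_surjective (QuotientAddGroup.mk' _).toIntLinearMap hsurj
      haveI : AddGroup.FG (EndAV.Hom A Aw ⧸ (Preadditive.leftComp (CommGrp.mk Aw) f).range) :=
        Module.Finite.iff_addGroup_fg.1 inferInstance
      refine AddCommGroup.finite_of_fg_torsion _ fun q => ?_
      obtain ⟨φ, rfl⟩ := hsurj q
      refine isOfFinAddOrder_iff_nsmul_eq_zero.2 ⟨n, hn, ?_⟩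
      rw [← map_nsmul, QuotientAddGroup.mk'_apply, QuotientAddGroup.eq_zero_iff]
      refine ⟨EndAV.Hom.of ψ ≫ φ, ?_⟩
      show f ≫ EndAV.Hom.of ψ ≫ φ = n • φ
      rw [← Category.assoc, e1, Preadditive.nsmul_comp, Category.id_comp]
  · rintro ⟨hinj', hfin⟩
    obtain ⟨l, _, hl⟩ := AVAmpleLib.exists_prime_ne_zero k
    let Ω := AlgebraicClosure k
    obtain ⟨_, _⟩ := free_finite (A := A) (Ω := Ω) hl
    obtain ⟨_, _⟩ := free_finite (A := B) (Ω := Ω) hl
    obtain ⟨gA, hgA⟩ := AVAmpleLib.exists_dim_field A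
    obtain ⟨gB, hgB⟩ := AVAmpleLib.exists_dim_field B
    have hrA := finrank_hom_minOrder ρw hρw hπw hint hinj hπA hPA hgA
    have hrB := finrank_hom_minOrder ρw hρw hπw hint hinj hπB hPB hgB
    have hr : Module.finrank ℤ (EndAV.Hom B Aw) = Module.finrank ℤ (EndAV.Hom A Aw) := by
      refine le_antisymm (LinearMap.finrank_le_finrank_of_injective (f := L) hinj') ?_
      set N := Nat.card (EndAV.Hom A Aw ⧸ (Preadditive.leftComp (CommGrp.mk Aw) f).range)
      have hN : (N : ℤ) ≠ 0 := Int.natCast_ne_zero.2 Nat.card_pos.ne'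
      have hmem : ∀ φ : EndAV.Hom A Aw, ((N : ℤ) • φ) ∈ LinearMap.range L := fun φ => by
        have : N • φ ∈ (Preadditive.leftComp (CommGrp.mk Aw) f).range := by
          rw [← QuotientAddGroup.eq_zero_iff, QuotientAddGroup.mk_nsmul]
          exact card_nsmul_eq_zero'
        obtain ⟨ψ, hψ⟩ := this
        exact ⟨ψ, by rw [natCast_zsmul]; exact hψ⟩
      refine (LinearMap.finrank_le_finrank_of_injective
        (f := ((N : ℤ) • LinearMap.id : EndAV.Hom A Aw →ₗ[ℤ] EndAV.Hom A Aw).codRestrict (LinearMap.range L) hmem)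
        fun a b hab => ?_).trans (LinearMap.finrank_range_le L)
      exact smul_right_injective (EndAV.Hom A Aw) hN (congrArg Subtype.val hab)
    have hdim : Module.finrank ℚ_[l] (VT A l (SGA7.pt (K := k) Ω)) = Module.finrank ℚ_[l] (VT B l (SGA7.pt (K := k) Ω)) := by
      rw [Module.finrank_baseChange, Module.finrank_baseChange,
        (AVAmpleLib.tate_free_finite_finrank_ext Ω A hgA l (natCast_Ω_ne_zero hl)).2.2,
        (AVAmpleLib.tate_free_finite_finrank_ext Ω B hgB l (natCast_Ω_ne_zero hl)).2.2]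
      omega
    have hti := tateMap_injective_of_precomp (l := l) (Ω := Ω) hk hint hinj hne hπw ρw hρw hl hπA hPA f hfin
    have hbi : Function.Injective (bV l (SGA7.pt (K := k) Ω) f) :=
      Module.Flat.lTensor_preserves_injective_linearMap (M := ℚ_[l]) _ hti
    have hb : Function.Bijective (bV l (SGA7.pt (K := k) Ω) f) :=
      ⟨hbi, (LinearMap.injective_iff_surjective_of_finrank_eq_finrank hdim).1 hbi⟩
    let e := LinearEquiv.ofBijective _ hb
    have hnat : (bV l (SGA7.pt (K := k) Ω) f) ∘ₗ VF l Ω πA = VF l Ω πB ∘ₗ (bV l (SGA7.pt (K := k) Ω) f) :=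
      mem_kerL.1 ((span_homs_eq (l := l) (Ω := Ω) hπA hπB hl).le (Submodule.subset_span ⟨f, rfl⟩))
    have hmem : e.symm.toLinearMap ∈ Submodule.span ℚ_[l] (homs l A Ω B) := by
      rw [span_homs_eq hπB hπA hl, mem_kerL]
      refine LinearMap.ext fun y => hbi ?_
      show bV l (SGA7.pt (K := k) Ω) f (e.symm (VF l Ω πB y)) = bV l (SGA7.pt (K := k) Ω) f (VF l Ω πA (e.symm y))
      rw [show bV l (SGA7.pt (K := k) Ω) f (VF l Ω πA (e.symm y)) = VF l Ω πB (bV l (SGA7.pt (K := k) Ω) f (e.symm y)) from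
        LinearMap.congr_fun hnat _]
      exact (e.apply_symm_apply _).trans (congrArg _ (e.apply_symm_apply y).symm)
    haveI := AVAmpleLib.fg_hom_of_ext (k := k) Ω B A
    haveI := AVAmpleLib.isTorsionFree_hom (A := B) (B := A)
    haveI : Module.Free ℤ (EndAV.Hom B A) := Module.free_of_finite_type_torsion_free'
    let b := Module.finBasis ℤ (EndAV.Hom B A)
    have hmem' : e.symm.toLinearMap ∈ Submodule.span ℚ_[l] (Set.range fun i => bV l (SGA7.pt (K := k) Ω) (b i)) := by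
      refine Submodule.span_le.2 ?_ hmem
      rintro _ ⟨φ, rfl⟩
      show bV l (SGA7.pt (K := k) Ω) φ ∈ _
      rw [← b.sum_repr φ, map_sum]
      refine sum_mem fun i _ => ?_
      rw [map_zsmul, ← Int.cast_smul_eq_zsmul ℚ_[l]]
      exact Submodule.smul_mem _ _ (Submodule.subset_span ⟨i, rfl⟩)
    obtain ⟨c, hc⟩ := exists_int_bijective (fun i => bV l (SGA7.pt (K := k) Ω) (b i)) hmem' e.symm.bijective
    obtain ⟨v, n, hn, h1, h2⟩ := exists_isogeny_pair (Ω := Ω) hl f (∑ i, c i • b i) hb (by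
      rw [map_sum]; simp only [map_zsmul]; exact hc)
    exact finite_surj_of_mul f.toHom v.toHom hn.ne' h1 h2

end MinOrder

end TateThmLib

end
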