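import Groth.Agent.GradedCechLib.System
import Mathlib.Algebra.Field.Basic
import Mathlib.Data.Fintype.Basic
import Mathlib.Tactic.Abel
import Mathlib.Tactic.Ring
import Mathlib.Tactic.NormNum

/-!
Uniform generation and syzygies from Čech vanishing, by the Koszul complex on a base point free family.
-/

set_option autoImplicit false
set_option maxHeartbeats 1000000
set_option linter.unusedSectionVars false

noncomputable section

universe u

open CategoryTheory CategoryTheory.Limits GradedCechLib

namespace TateThmLib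

variable {k : Type u} [CommRing k] {ι : Type} [Fintype ι] [DecidableEq ι] {V W : Type u} [AddCommGroup V] [Module k V]
  [AddCommGroup W] [Module k W]

/-- The system of a monotone family of submodules of a fixed module. -/
def subSys (F : Finset ι →o Submodule k V) : Sys k ι where
  obj s := ModuleCat.of k (F s)
  map h := ModuleCat.ofHom (Submodule.inclusion (F.monotone (leOfHom h)))
  map_id _ := rfl
  map_comp _ _ := rfl

/-- A linear map carrying one family into another. -/
def subHom (F : Finset ι →o Submodule k V) (G : Finset ι →o Submodule k W) (f : V →ₗ[k] W)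
    (h : ∀ s, ∀ x ∈ F s, f x ∈ G s) : subSys F ⟶ subSys G where
  app s := ModuleCat.ofHom (f.restrict (h s))
  naturality _ _ _ := rfl

/-- The alternating sum defining the Čech differential. -/
def cdd {n : ℕ} (c : (Fin (n + 1) → ι) → V) (J : Fin (n + 2) → ι) : V :=
  ∑ a : Fin (n + 2), ((-1 : ℤ) ^ (a : ℕ)) • c (J ∘ a.succAbove)

theorem coe_dd (F : Finset ι →o Submodule k V) (n : ℕ) (c : Cochain (subSys F) n) (J : Fin (n + 2) → ι) :
    Subtype.val (dd (subSys F) n c J : F (rng J)) = cdd (fun J' => Subtype.val (c J' : F (rng J'))) J := by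
  rw [dd_apply, cdd]
  refine (map_sum (F (rng J)).subtype (fun a : Fin (n + 2) => ((-1 : ℤ) ^ (a : ℕ)) •
    res (subSys F) (rng_comp J a.succAbove) (c (J ∘ a.succAbove))) Finset.univ).trans
    (Finset.sum_congr rfl fun a _ => ?_)
  exact map_zsmul (F (rng J)).subtype _ _

/-- Every cocycle of positive degree is a coboundary. -/
def CochVanish (F : Finset ι →o Submodule k V) (p : ℕ) : Prop :=
  ∀ c : (Fin (p + 2) → ι) → V, (∀ J, c J ∈ F (rng J)) → (∀ J, cdd c J = 0) →
    ∃ b : (Fin (p + 1) → ι) → V, (∀ J, b J ∈ F (rng J)) ∧ ∀ J, cdd b J = c J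

theorem isZero_of_cochVanish {F : Finset ι →o Submodule k V} {p : ℕ} (h : CochVanish F p) :
    IsZero (H (subSys F) (p + 1)) := isZero_succ p fun c hc => by
  obtain ⟨b, hb, hbc⟩ := h (fun J => Subtype.val (c J : F (rng J))) (fun J => (c J).2) fun J => by
    rw [← coe_dd, hc]; rfl
  exact ⟨fun J => ⟨b J, hb J⟩, funext fun J => Subtype.ext ((coe_dd F p _ J).trans (hbc J))⟩

theorem cochVanish_of_isZero {F : Finset ι →o Submodule k V} {p : ℕ} (h : IsZero (H (subSys F) (p + 1))) :
    CochVanish F p := fun c hc hd => by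
  rw [← HomologicalComplex.exactAt_iff_isZero_homology, HomologicalComplex.exactAt_iff' _ p (p + 1) (p + 2) (by simp)
    (by simp), ShortComplex.moduleCat_exact_iff] at h
  obtain ⟨b, hb⟩ := h (fun J => ⟨c J, hc J⟩) ((cx_d (L := subSys F) (p + 1) _).trans (funext fun J => Subtype.ext ((coe_dd F (p + 1)
    (fun J => ⟨c J, hc J⟩) J).trans (hd J))))
  exact ⟨fun J => Subtype.val (b J : F (rng J)), fun J => (b J).2, fun J =>
    (coe_dd F p b J).symm.trans (congrArg (fun z : Cochain (subSys F) (p + 1) => Subtype.val (z J : F (rng J)))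
      ((cx_d (L := subSys F) p b).symm.trans hb))⟩

section Sign

variable [LinearOrder ι]

/-- The sign of adding `a` to `u`. -/
def ksgn (a : ι) (u : Finset ι) : ℤ := (-1) ^ (u.filter (· < a)).card

theorem ksgn_mul_self (a : ι) (u : Finset ι) : ksgn a u * ksgn a u = 1 := by
  rw [ksgn, ← pow_add, ← two_mul, pow_mul, neg_one_sq, one_pow]

theorem ksgn_insert (a b : ι) (u : Finset ι) (hb : b ∉ u) :
    ksgn a (insert b u) = (if b < a then -1 else 1) * ksgn a u := by
  rw [ksgn, ksgn, Finset.filter_insert]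
  split
  · rw [Finset.card_insert_of_notMem fun h => hb (Finset.mem_filter.1 h).1, pow_succ, mul_comm]
  · rw [one_mul]

theorem ksgn_anti {a b : ι} (hab : a ≠ b) (u : Finset ι) (ha : a ∉ u) (hb : b ∉ u) :
    ksgn a u * ksgn b (insert a u) = -(ksgn b u * ksgn a (insert b u)) := by
  rw [ksgn_insert b a u ha, ksgn_insert a b u hb]
  rcases lt_or_gt_of_ne hab with h | h
  · rw [if_pos h, if_neg h.asymm]; ring
  · rw [if_neg h.asymm, if_pos h]; ring

end Sign

variable {A : Type u} [CommRing A] [Algebra k A] (t : ι → A) [LinearOrder ι]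

/-- The Koszul differential on the full exterior algebra. -/
def kd : (Finset ι → A) →ₗ[k] (Finset ι → A) where
  toFun f u := ∑ a ∈ uᶜ, (ksgn a u) • (t a * f (insert a u))
  map_add' f g := funext fun u => by
    simp only [Pi.add_apply, mul_add, smul_add, Finset.sum_add_distrib]
  map_smul' r f := funext fun u => by
    simp only [Pi.smul_apply, RingHom.id_apply, Finset.smul_sum, mul_smul_comm, smul_comm r]

theorem kd_apply (f : Finset ι → A) (u : Finset ι) :
    kd (k := k) t f u = ∑ a ∈ uᶜ, (ksgn a u) • (t a * f (insert a u)) := rfl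

theorem kd_kd (f : Finset ι → A) : kd (k := k) t (kd (k := k) t f) = 0 := by
  funext u
  rw [kd_apply, Pi.zero_apply]
  simp only [kd_apply, Finset.mul_sum, Finset.smul_sum, mul_smul_comm, smul_smul]
  rw [Finset.sum_sigma']
  refine Finset.sum_involution (fun p _ => ⟨p.2, p.1⟩) (fun p hp => ?_) (fun p hp _ => ?_) (fun p hp => ?_)
    fun p _ => rfl
  · rw [Finset.mem_sigma, Finset.mem_compl, Finset.mem_compl, Finset.mem_insert, not_or] at hp
    rw [ksgn_anti (Ne.symm hp.2.1) u hp.1 hp.2.2, Finset.insert_comm, neg_smul, mul_left_comm, neg_add_cancel]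
  · rw [Finset.mem_sigma, Finset.mem_compl, Finset.mem_compl, Finset.mem_insert, not_or] at hp
    exact fun h => hp.2.1 (congrArg Sigma.fst h)
  · simp only [Finset.mem_sigma, Finset.mem_compl, Finset.mem_insert, not_or] at hp ⊢
    exact ⟨hp.2.2, Ne.symm hp.2.1, hp.1⟩

variable (S : ℕ → (Finset ι →o Submodule k A))

/-- Cochains of the Koszul complex. -/
def kK (j : ℕ) : Finset ι →o Submodule k (Finset ι → A) :=
  ⟨fun s => Submodule.pi Set.univ fun _ => S j s,
    fun _ _ h _ hf u hu => (S j).monotone h (hf u hu)⟩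

/-- Cycles of the Koszul complex. -/
def kZ (j : ℕ) : Finset ι →o Submodule k (Finset ι → A) :=
  ⟨fun s => kK S j s ⊓ LinearMap.ker (kd t), fun _ _ h => inf_le_inf_right _ ((kK S j).monotone h)⟩

theorem mem_kK {j : ℕ} {s : Finset ι} {f : Finset ι → A} : f ∈ kK S j s ↔ ∀ u, f u ∈ S j s :=
  ⟨fun h u => h u trivial, fun h u _ => h u⟩

theorem mem_kZ {j : ℕ} {s : Finset ι} {f : Finset ι → A} :
    f ∈ kZ t S j s ↔ (∀ u, f u ∈ S j s) ∧ kd (k := k) t f = 0 := by
  show f ∈ kK S j s ⊓ LinearMap.ker (kd t) ↔ _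
  rw [Submodule.mem_inf, mem_kK, LinearMap.mem_ker]

/-- The multiplicative structure of the sections. -/
structure Graded : Prop where
  mul_mem : ∀ j s a, ∀ x ∈ S j s, t a * x ∈ S (j + 1) s
  div_mem : ∀ j s, ∀ a ∈ s, ∀ x ∈ S (j + 1) s, ∃ y ∈ S j s, t a * y = x

variable {t S}

theorem Graded.kd_mem (h : Graded t S) {j : ℕ} {s : Finset ι} {f : Finset ι → A} (hf : f ∈ kK S j s) :
    kd (k := k) t f ∈ kZ t S (j + 1) s := by
  refine (mem_kZ t S).2 ⟨fun u => ?_, kd_kd t f⟩
  rw [kd_apply]
  exact Submodule.sum_mem _ fun a _ => zsmul_mem (h.mul_mem j s a _ ((mem_kK S).1 hf _)) _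

/-- The Koszul complex is exact where one element is invertible. -/
theorem Graded.exists_kd_eq (h : Graded t S) (hreg : ∀ a, ∀ x : A, t a * x = 0 → x = 0) {j : ℕ} {s : Finset ι}
    {b : ι} (hb : b ∈ s) {f : Finset ι → A} (hf : f ∈ kZ t S (j + 1) s) :
    ∃ g ∈ kK S j s, kd (k := k) t g = f := by
  obtain ⟨hfm, hf0⟩ := (mem_kZ t S).1 hf
  choose y hy hty using fun v => h.div_mem j s b hb (f v) (hfm v)
  let g : Finset ι → A := fun u => if b ∈ u then ksgn b (u.erase b) • y (u.erase b) else 0
  refine ⟨g, (mem_kK S).2 fun u => ?_, funext fun u => ?_⟩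
  · show (if b ∈ u then _ else _) ∈ _
    split
    · exact zsmul_mem (hy _) _
    · exact Submodule.zero_mem _
  rw [kd_apply]
  by_cases hu : b ∈ u
  · -- the cycle condition
    refine sub_eq_zero.1 (hreg b _ ?_)
    obtain ⟨u', hu', rfl⟩ : ∃ u', b ∉ u' ∧ u = insert b u' := ⟨u.erase b, Finset.notMem_erase _ _, (Finset.insert_erase hu).symm⟩
    have hc : kd (k := k) t f u' = 0 := by rw [hf0]; rfl
    rw [kd_apply] at hc
    have he : (u'ᶜ : Finset ι) = insert b (insert b u')ᶜ := by
      ext x; by_cases hx : x = b <;> simp [hx, hu']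
    rw [he, Finset.sum_insert (by simp), add_eq_zero_iff_eq_neg] at hc
    have key : ∀ a ∈ (insert b u')ᶜ, t b * (ksgn a (insert b u') • (t a * g (insert a (insert b u')))) =
        -(ksgn b u' • (ksgn a u' • (t a * f (insert a u')))) := by
      intro a ha
      rw [Finset.mem_compl, Finset.mem_insert, not_or] at ha
      have hg : g (insert a (insert b u')) = ksgn b (insert a u') • y (insert a u') := by
        show (if _ then _ else _) = _
        rw [if_pos (by simp), Finset.insert_comm, Finset.erase_insert (by simp [Ne.symm ha.1, hu'])]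
      simp only [hg, mul_smul_comm, smul_smul]
      rw [mul_left_comm, hty, ← neg_smul]
      congr 1
      rw [ksgn_insert a b u' hu', ksgn_insert b a u' ha.2]
      rcases lt_or_gt_of_ne ha.1 with hab | hab
      · rw [if_neg hab.asymm, if_pos hab]; ring
      · rw [if_pos hab, if_neg hab.asymm]; ring
    rw [mul_sub, Finset.mul_sum, Finset.sum_congr rfl key, Finset.sum_neg_distrib, ← Finset.smul_sum,
      ← smul_neg, ← hc, smul_smul, ksgn_mul_self, one_smul, sub_self]
  · rw [Finset.sum_eq_single b]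
    · show ksgn b u • (t b * if b ∈ insert b u then _ else _) = _
      rw [if_pos (Finset.mem_insert_self b u), Finset.erase_insert hu, mul_smul_comm, hty, smul_smul, ksgn_mul_self,
        one_smul]
    · intro a _ hab
      show ksgn a u • (t a * if b ∈ insert a u then _ else _) = _
      rw [if_neg (by simp [Ne.symm hab, hu]), mul_zero, smul_zero]
    · intro hb'
      exact absurd (Finset.mem_compl.2 hu) hb'

variable (hG : Graded t S) (hreg : ∀ a, ∀ x : A, t a * x = 0 → x = 0)

/-- Coordinatewise vanishing. -/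
theorem cochVanish_kK {j p : ℕ} (h : CochVanish (S j) p) : CochVanish (kK S j) p := fun c hc hd => by
  choose b hb hbc using fun u => h (fun J => c J u) (fun J => (mem_kK S).1 (hc J) u)
    fun J => by simpa [cdd] using congrFun (hd J) u
  refine ⟨fun J u => b u J, fun J => (mem_kK S).2 fun u => hb u J, fun J => funext fun u => ?_⟩
  simpa [cdd] using hbc u J

/-- Vanishing of Čech cohomology in positive degrees for the systems of a sufficiently high degree. -/
def Vanishing : Prop := ∀ j p, 1 ≤ j → CochVanish (S j) p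

variable (hvan : Vanishing (S := S))

include hG hreg hvan in
theorem isZero_kZ : ∀ m p j : ℕ, 1 ≤ p → Fintype.card ι ≤ p + m → m + 1 ≤ j →
    IsZero (H (subSys (kZ t S j)) p) := by
  intro m
  induction m with
  | zero => exact fun p j _ hp _ => isZero_of_card_le _ p hp
  | succ m ih =>
    intro p j hp hcard hj
    obtain ⟨p, rfl⟩ : ∃ q, p = q + 1 := ⟨p - 1, by omega⟩
    obtain ⟨j, rfl⟩ : ∃ q, j = q + 1 := ⟨j - 1, by omega⟩
    let φ := subHom (kZ t S j) (kK S j) LinearMap.id fun s x hx => (Submodule.mem_inf.1 hx).1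
    let ψ := subHom (kK S j) (kZ t S (j + 1)) (kd t) fun s x hx => hG.kd_mem hx
    have hex : Exact3 φ ψ :=
      { inj := fun _ _ _ _ e => Subtype.ext ((congrArg Subtype.val e :))
        surj := fun s ⟨b, hb⟩ y => by
          obtain ⟨g, hg, e⟩ := hG.exists_kd_eq hreg hb y.2
          exact ⟨⟨g, hg⟩, Subtype.ext e⟩
        zero := fun s x => Subtype.ext ((mem_kZ t S).1 x.2).2
        exact := fun s _ y hy => ⟨⟨y.1, (mem_kZ t S).2 ⟨(mem_kK S).1 y.2, congrArg Subtype.val hy⟩⟩, rfl⟩ }
    exact isZero_right hex (p + 1) (isZero_of_cochVanish (cochVanish_kK (hvan j p (by omega))))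
      (ih (p + 2) j (by omega) (by omega) (by omega))

include hG hreg hvan in
/-- A global cycle is the boundary of a global chain. -/
theorem exists_global_kd_eq [Nonempty ι] {j : ℕ} (hj : Fintype.card ι ≤ j) {g : Finset ι → A}
    (hg : ∀ a, g ∈ kZ t S (j + 1) {a}) :
    ∃ f : Finset ι → A, (∀ u a, f u ∈ S j {a}) ∧ kd (k := k) t f = g := by
  have hcard : 0 < Fintype.card ι := Fintype.card_pos
  choose b hb hbg using fun a => hG.exists_kd_eq hreg (Finset.mem_singleton_self a) (hg a)
  have hsub : ∀ (J : Fin 2 → ι) (a : Fin 2), ({J a} : Finset ι) ⊆ rng J := fun J a => by simp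
  have hsucc : ∀ (x : ι → Finset ι → A) (J : Fin 2 → ι), cdd (fun J' : Fin 1 → ι => x (J' 0)) J = x (J 1) - x (J 0) := by
    intro x J
    rw [cdd, Fin.sum_univ_two]
    simp [Function.comp, sub_eq_add_neg]
  obtain ⟨e, he, hee⟩ := cochVanish_of_isZero (isZero_kZ hG hreg hvan (Fintype.card ι - 1) 1 j le_rfl (by omega)
    (by omega)) (cdd fun J' : Fin 1 → ι => b (J' 0)) (fun J => by
      rw [hsucc]
      refine (mem_kZ t S).2 ⟨fun u => Submodule.sub_mem _ ((S j).monotone (hsub J 1) ((mem_kK S).1 (hb _) u))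
        ((S j).monotone (hsub J 0) ((mem_kK S).1 (hb _) u)), ?_⟩
      rw [map_sub, hbg, hbg, sub_self]) fun J => by
        rw [funext (hsucc b), cdd, Fin.sum_univ_three]
        simp only [Function.comp, show (0 : Fin 3).succAbove 0 = 1 from rfl, show (0 : Fin 3).succAbove 1 = 2 from rfl,
          show (1 : Fin 3).succAbove 0 = 0 from rfl, show (1 : Fin 3).succAbove 1 = 2 from rfl,
          show (2 : Fin 3).succAbove 0 = 0 from rfl, show (2 : Fin 3).succAbove 1 = 1 from rfl]
        norm_num
  let e' : ι → Finset ι → A := fun a => e fun _ => a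
  have he' : ∀ J : Fin 1 → ι, e J = e' (J 0) := fun J => congrArg e (funext fun i => by rw [Subsingleton.elim i 0])
  have hconst : ∀ a a', b a - e' a = b a' - e' a' := by
    intro a a'
    have h := hee ![a, a']
    rw [funext he', hsucc, hsucc] at h
    simp only [Matrix.cons_val_zero, Matrix.cons_val_one] at h
    rw [sub_eq_sub_iff_add_eq_add] at h ⊢
    exact (add_comm _ _).trans h
  obtain ⟨a₀⟩ := ‹Nonempty ι›
  refine ⟨b a₀ - e' a₀, fun u a => ?_, ?_⟩
  · rw [hconst a₀ a]
    refine Submodule.sub_mem _ ((mem_kK S).1 (hb a) u) ((S j).monotone ?_ (((mem_kZ t S).1 (he fun _ => a)).1 u))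
    intro x hx
    simpa [eq_comm] using hx
  · rw [map_sub, hbg, ((mem_kZ t S).1 (he fun _ => a₀)).2, sub_zero]

include hG hreg hvan in
/-- Generation in bounded degree. -/
theorem exists_gen [Nonempty ι] {j : ℕ} (hj : Fintype.card ι ≤ j) {z : A} (hz : ∀ a, z ∈ S (j + 1) {a}) :
    ∃ f : ι → A, (∀ a b, f a ∈ S j {b}) ∧ ∑ a, t a * f a = z := by
  let g : Finset ι → A := fun u => if u = ∅ then z else 0
  obtain ⟨f, hf, hfg⟩ := exists_global_kd_eq hG hreg hvan hj (g := g) fun a => (mem_kZ t S).2 ⟨fun u => by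
    show (if _ then _ else _) ∈ _
    split
    exacts [hz a, Submodule.zero_mem _], funext fun u => by
      rw [kd_apply]
      exact Finset.sum_eq_zero fun a _ => by simp [g, Finset.insert_ne_empty]⟩
  refine ⟨fun a => f {a}, fun a b => hf _ b, ?_⟩
  have h := congrFun hfg ∅
  rw [kd_apply, Finset.compl_empty] at h
  simpa [g, ksgn] using h

include hG hreg hvan in
/-- Syzygies in bounded degree. -/
theorem exists_syz [Nonempty ι] {j : ℕ} (hj : Fintype.card ι ≤ j) {r : ι → A} (hr : ∀ a b, r a ∈ S (j + 1) {b})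
    (h0 : ∑ a, t a * r a = 0) :
    ∃ c : ι → ι → A, (∀ a b x, c a b ∈ S j {x}) ∧ (∀ a, c a a = 0) ∧ (∀ a b, c a b = -c b a) ∧
      ∀ a, r a = ∑ b, t b * c a b := by
  let g : Finset ι → A := fun u => ∑ a, if u = {a} then r a else 0
  have hg1 : ∀ a, g {a} = r a := fun a => by simp [g, Finset.singleton_inj]
  obtain ⟨f, hf, hfg⟩ := exists_global_kd_eq hG hreg hvan hj (g := g) fun a => (mem_kZ t S).2 ⟨fun u => by
    refine Submodule.sum_mem _ fun b _ => ?_
    split
    exacts [hr b a, Submodule.zero_mem _], funext fun u => by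
      rw [kd_apply, Pi.zero_apply]
      by_cases hu : u = ∅
      · subst hu
        simpa [hg1, ksgn] using h0
      · refine Finset.sum_eq_zero fun b hb => ?_
        have : g (insert b u) = 0 := Finset.sum_eq_zero fun a _ => if_neg fun he => by
          obtain ⟨y, hy⟩ := Finset.nonempty_iff_ne_empty.2 hu
          have hya : y ∈ ({a} : Finset ι) := he ▸ Finset.mem_insert_of_mem hy
          have hba : b ∈ ({a} : Finset ι) := he ▸ Finset.mem_insert_self b u
          rw [Finset.mem_singleton] at hya hba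
          exact (Finset.mem_compl.1 hb) (hba ▸ hya ▸ hy)
        rw [this, mul_zero, smul_zero]⟩
  refine ⟨fun a b => if a = b then 0 else ksgn b {a} • f {a, b}, fun a b x => ?_, fun a => if_pos rfl, fun a b => ?_,
    fun a => ?_⟩
  · dsimp only
    split
    exacts [Submodule.zero_mem _, zsmul_mem (hf _ x) _]
  · dsimp only
    by_cases hab : a = b
    · simp [hab]
    rw [if_neg hab, if_neg (Ne.symm hab), Finset.pair_comm b a, ← neg_smul]
    congr 1
    rw [ksgn, ksgn, Finset.filter_singleton, Finset.filter_singleton]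
    rcases lt_or_gt_of_ne hab with h | h
    · rw [if_pos h, if_neg h.asymm]; simp
    · rw [if_neg h.asymm, if_pos h]; simp
  · have h := congrFun hfg {a}
    rw [kd_apply, hg1] at h
    rw [← h, ← Finset.sum_subset (Finset.subset_univ ({a} : Finset ι)ᶜ) fun b _ hb => by
      rw [Finset.mem_compl, not_not, Finset.mem_singleton] at hb
      simp [hb]]
    refine Finset.sum_congr rfl fun b hb => ?_
    rw [Finset.mem_compl, Finset.mem_singleton] at hb
    dsimp only
    rw [if_neg (Ne.symm hb), mul_smul_comm, Finset.pair_comm a b]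

end TateThmLib

end
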