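import Groth.Agent.TateThmLib.SecFinite
import Groth.Agent.AmpleLib.Powers
import Groth.Agent.TwistLib.PullGen
import Groth.Agent.AmpleThLib.Pow
import Groth.Agent.QCohLib.Vanishing
import Groth.Agent.CechLib.Compare
import Groth.Agent.TwistLib.SpecSections
import Groth.Agent.ModGlueLib.Basic
import Mathlib.AlgebraicGeometry.FunctionField

/-!
An invertible module with sections generating on affine opens, in the function field.
-/

set_option autoImplicit false
set_option maxHeartbeats 1000000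
set_option backward.isDefEq.respectTransparency false
set_option linter.unusedSectionVars false

noncomputable section

universe u

open CategoryTheory AlgebraicGeometry TopologicalSpace Opposite
open AmpleLib (res GenAt GenOn shT)

namespace TateThmLib

/-- An invertible module with sections generating on affine opens. -/
structure ChartData (k : Type u) [Field k] (ι : Type) where
  X : Scheme.{u}
  [integral : IsIntegral X]
  [separated : X.IsSeparated]
  cst : k →+* Γ(X, ⊤)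
  M : X.Modules
  inv : PicF.IsInvertible M
  σ : ι → Γ(M, ⊤)
  gen : ∀ a, genericPoint X ∈ TwistLib.genSet inv (σ a)
  aff : ∀ a, IsAffineOpen (TwistLib.genSet inv (σ a))
  cover : ∀ x : X, ∃ a, x ∈ TwistLib.genSet inv (σ a)

attribute [instance] ChartData.integral ChartData.separated

namespace ChartData

variable {k : Type u} [Field k] {ι : Type} (D : ChartData k ι)

/-- The chart of a section. -/
def U (a : ι) : D.X.Opens := TwistLib.genSet D.inv (D.σ a)

/-- The generic point. -/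
abbrev η : D.X := genericPoint D.X

/-- The function field. -/
abbrev K : Type u := D.X.functionField

/-- A function at the generic point. -/
def fn {W : D.X.Opens} (h : D.η ∈ W) : Γ(D.X, W) →+* D.K := (D.X.presheaf.germ W D.η h).hom

theorem fn_res {V W : D.X.Opens} (hVW : V ≤ W) (h : D.η ∈ V) (f : Γ(D.X, W)) :
    D.fn h (D.X.presheaf.map (homOfLE hVW).op f) = D.fn (hVW h) f :=
  TopCat.Presheaf.germ_res_apply _ _ _ _ _

theorem fn_injective {W : D.X.Opens} (h : D.η ∈ W) : Function.Injective (D.fn h) :=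
  germ_injective_of_isIntegral D.X D.η h

instance algebraK : Algebra k D.K := ((D.fn (W := ⊤) trivial).comp D.cst).toAlgebra

theorem algebraMap_eq {W : D.X.Opens} (h : D.η ∈ W) (c : k) :
    algebraMap k D.K c = D.fn h (D.X.presheaf.map (homOfLE le_top).op (D.cst c)) :=
  (D.fn_res le_top h (D.cst c)).symm

/-- The powers of a section. -/
def pw (a : ι) : ∀ e, Γ(CohB1.tensorPow D.M e, ⊤)
  | 0 => (1 : Γ(D.X, ⊤))
  | e + 1 => shT (pw a e) (D.σ a)

theorem pw_genAt (a : ι) (e : ℕ) {x : D.X} (hx : x ∈ D.U a) :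
    GenAt (CohB1.tensorPow D.M e) (D.pw a e) (show x ∈ (⊤ : D.X.Opens) from trivial) := by
  induction e with
  | zero => exact (AmpleLib.one_genOn ⊤).genAt _
  | succ e ih => exact ih.tensor hx

theorem pw_genOn (a : ι) (e : ℕ) : GenOn _ (res (CohB1.tensorPow D.M e) (le_top : D.U a ≤ ⊤) (D.pw a e)) :=
  TwistLib.genOn_of_genAt fun x hx => (AmpleLib.genAt_res _ _ hx).2 (D.pw_genAt a e hx)

theorem sigma_genOn (a : ι) : GenOn D.M (res D.M (le_top : D.U a ≤ ⊤) (D.σ a)) := TwistLib.genSet_genOn D.inv _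

theorem exists_fn_smul (a b : ι) {W : D.X.Opens} (hW : W ≤ D.U a) :
    ∃ r : Γ(D.X, W), r • res D.M (le_top : W ≤ ⊤) (D.σ a) = res D.M le_top (D.σ b) := by
  obtain ⟨r, hr⟩ := (D.sigma_genOn a W hW).2 (res D.M le_top (D.σ b))
  exact ⟨r, by simpa only [AmpleLib.res_res] using hr⟩

theorem pw_smul {a b : ι} {W : D.X.Opens} (r : Γ(D.X, W))
    (hr : r • res D.M (le_top : W ≤ ⊤) (D.σ a) = res D.M le_top (D.σ b)) :
    ∀ e, r ^ e • res (CohB1.tensorPow D.M e) (le_top : W ≤ ⊤) (D.pw a e) = res _ le_top (D.pw b e)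
  | 0 => by rw [pow_zero, one_smul]; rfl
  | e + 1 => by
    show _ • res (CohB1.tensorMod _ _) _ (shT _ _) = res (CohB1.tensorMod _ _) _ (shT _ _)
    rw [AmpleLib.shT_res, AmpleLib.shT_res, pow_succ, ← AmpleLib.shT_smul, pw_smul r hr e, hr]

variable (i₀ : ι)

theorem eta_mem (a : ι) : D.η ∈ D.U a := D.gen a

/-- The coordinate of the `b`-th section. -/
def t (b : ι) : D.K := D.fn (D.eta_mem i₀) (D.exists_fn_smul i₀ b le_rfl).choose

theorem germ_res' (e : ℕ) {W : D.X.Opens} (hη : D.η ∈ W) (s : Γ(CohB1.tensorPow D.M e, ⊤)) :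
    (CohB1.tensorPow D.M e).presheaf.germ W D.η hη (res _ le_top s) =
      (CohB1.tensorPow D.M e).presheaf.germ ⊤ D.η trivial s :=
  AmpleLib.germ_res _ _ _ _

theorem germ_pw (b : ι) (e : ℕ) :
    (CohB1.tensorPow D.M e).presheaf.germ ⊤ D.η trivial (D.pw b e) =
      (D.t i₀ b ^ e : D.K) • (CohB1.tensorPow D.M e).presheaf.germ ⊤ D.η trivial (D.pw i₀ e) := by
  have h := congrArg ((CohB1.tensorPow D.M e).presheaf.germ (D.U i₀) D.η (D.eta_mem i₀))
    (D.pw_smul _ (D.exists_fn_smul i₀ b le_rfl).choose_spec e)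
  rw [AmpleLib.germ_smul, D.germ_res', D.germ_res', map_pow] at h
  exact h.symm

theorem t_ne_zero (b : ι) : D.t i₀ b ≠ 0 := fun h => by
  have hg := D.pw_genAt b 1 (D.eta_mem b)
  rw [GenAt, D.germ_pw i₀ b 1, h, pow_one] at hg
  exact zero_ne_one (α := D.K) (hg.1 (by simp))

theorem t_self : D.t i₀ i₀ = 1 := by
  have hg := D.pw_genAt i₀ 1 (D.eta_mem i₀)
  have h : (D.t i₀ i₀ ^ 1 : D.K) • (CohB1.tensorPow D.M 1).presheaf.germ ⊤ D.η trivial (D.pw i₀ 1) =
      (1 : D.K) • (CohB1.tensorPow D.M 1).presheaf.germ ⊤ D.η trivial (D.pw i₀ 1) :=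
    (D.germ_pw i₀ i₀ 1).symm.trans (one_smul _ _).symm
  simpa using hg.1 h

/-- The coordinate at the generic point. -/
def coord (e : ℕ) : D.K ≃ₗ[D.K] (CohB1.tensorPow D.M e).presheaf.stalk D.η :=
  LinearEquiv.ofBijective (LinearMap.toSpanSingleton D.K _
    ((CohB1.tensorPow D.M e).presheaf.germ ⊤ D.η trivial (D.pw i₀ e))) (D.pw_genAt i₀ e (D.eta_mem i₀))

/-- The value of a section in the function field. -/
def val (e : ℕ) {W : D.X.Opens} (h : D.η ∈ W) : Γ(CohB1.tensorPow D.M e, W) →+ D.K :=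
  (D.coord i₀ e).symm.toLinearMap.toAddMonoidHom.comp
    ((CohB1.tensorPow D.M e).presheaf.germ W D.η h).hom

theorem val_smul (e : ℕ) {W : D.X.Opens} (h : D.η ∈ W) (r : Γ(D.X, W)) (s : Γ(CohB1.tensorPow D.M e, W)) :
    D.val i₀ e h (r • s) = D.fn h r * D.val i₀ e h s := by
  show (D.coord i₀ e).symm ((CohB1.tensorPow D.M e).presheaf.germ W D.η h (r • s)) = _
  rw [AmpleLib.germ_smul]
  exact (D.coord i₀ e).symm.map_smul (D.fn h r) _

theorem val_res (e : ℕ) {V W : D.X.Opens} (hVW : V ≤ W) (h : D.η ∈ V) (s : Γ(CohB1.tensorPow D.M e, W)) :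
    D.val i₀ e h (res _ hVW s) = D.val i₀ e (hVW h) s :=
  congrArg (D.coord i₀ e).symm (AmpleLib.germ_res _ _ _ _)

theorem val_pw (e : ℕ) (b : ι) {W : D.X.Opens} (h : D.η ∈ W) :
    D.val i₀ e h (res _ le_top (D.pw b e)) = D.t i₀ b ^ e := by
  rw [D.val_res]
  show (D.coord i₀ e).symm _ = _
  exact (D.coord i₀ e).symm_apply_eq.2 (D.germ_pw i₀ b e)

theorem val_injective (e : ℕ) {W : D.X.Opens} (h : D.η ∈ W) : Function.Injective (D.val i₀ e h) := by
  refine (injective_iff_map_eq_zero _).2 fun s hs => TwistLib.mod_ext _ fun x hx => ?_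
  obtain ⟨a, ha⟩ := D.cover x
  have hη : D.η ∈ W ⊓ D.U a := ⟨h, D.eta_mem a⟩
  obtain ⟨r, hr⟩ := (D.pw_genOn a e (W ⊓ D.U a) inf_le_right).2 (res _ inf_le_left s)
  dsimp only at hr
  rw [AmpleLib.res_res] at hr
  have h0 := congrArg (D.val i₀ e hη) hr
  rw [D.val_smul, D.val_pw, D.val_res, hs, mul_eq_zero] at h0
  have hr0 : r = 0 := D.fn_injective hη ((h0.resolve_right (pow_ne_zero _ (D.t_ne_zero i₀ a))).trans (map_zero _).symm)
  have hg := congrArg ((CohB1.tensorPow D.M e).presheaf.germ (W ⊓ D.U a) x ⟨hx, ha⟩) hr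
  rw [hr0, zero_smul, AmpleLib.germ_res, map_zero] at hg
  rw [map_zero]
  exact hg.symm

variable [DecidableEq ι]

/-- The intersections of charts. -/
def V (s : Finset ι) : D.X.Opens := s.inf D.U

theorem eta_memV (s : Finset ι) : D.η ∈ D.V s := by
  induction s using Finset.induction with
  | empty => rw [V, Finset.inf_empty]; exact trivial
  | insert a s _ ih => rw [V, Finset.inf_insert]; exact ⟨D.eta_mem a, ih⟩

theorem V_le {s : Finset ι} {a : ι} (ha : a ∈ s) : D.V s ≤ D.U a := Finset.inf_le ha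

theorem V_anti {s s' : Finset ι} (h : s ⊆ s') : D.V s' ≤ D.V s := Finset.inf_mono h

theorem V_singleton (a : ι) : D.V {a} = D.U a := Finset.inf_singleton

theorem isAffineOpen_V {s : Finset ι} (hs : s.Nonempty) : IsAffineOpen (D.V s) := by
  induction hs using Finset.Nonempty.cons_induction with
  | singleton a => rw [V, Finset.inf_singleton]; exact D.aff a
  | cons a s _ _ ih => rw [V, Finset.inf_cons]; exact IsAffineOpen.inf (D.aff a) ih

/-- The sections of the powers, as functions. -/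
def sec (e : ℕ) : Finset ι →o Submodule k D.K where
  toFun s :=
    { carrier := Set.range (D.val i₀ e (D.eta_memV s))
      add_mem' := fun ⟨a, ha⟩ ⟨b, hb⟩ => ⟨a + b, by rw [map_add, ha, hb]⟩
      zero_mem' := ⟨0, map_zero _⟩
      smul_mem' := fun c _ ⟨a, ha⟩ => ⟨D.X.presheaf.map (homOfLE le_top).op (D.cst c) • a, by
        rw [D.val_smul, ha, ← D.algebraMap_eq, Algebra.smul_def]⟩ }
  monotone' s s' h x := by
    rintro ⟨a, rfl⟩
    exact ⟨res _ (D.V_anti h) a, D.val_res i₀ e _ _ a⟩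

theorem mem_sec {e : ℕ} {s : Finset ι} {x : D.K} : x ∈ D.sec i₀ e s ↔ ∃ a, D.val i₀ e (D.eta_memV s) a = x :=
  Iff.rfl

theorem mem_sec_iff {e : ℕ} {s : Finset ι} {a : ι} (ha : a ∈ s) {x : D.K} :
    x ∈ D.sec i₀ e s ↔ ∃ f : Γ(D.X, D.V s), x = D.fn (D.eta_memV s) f * D.t i₀ a ^ e := by
  refine ⟨?_, ?_⟩
  · rintro ⟨y, rfl⟩
    obtain ⟨f, rfl⟩ := (D.pw_genOn a e (D.V s) (D.V_le ha)).2 y
    refine ⟨f, ?_⟩
    dsimp only
    rw [D.val_smul, AmpleLib.res_res, D.val_pw]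
  · rintro ⟨f, rfl⟩
    exact ⟨f • res _ le_top (D.pw a e), by rw [D.val_smul, D.val_pw]⟩

theorem sec_mul {i j : ℕ} {a : ι} {x y : D.K} (hx : x ∈ D.sec i₀ i {a}) (hy : y ∈ D.sec i₀ j {a}) :
    x * y ∈ D.sec i₀ (i + j) {a} := by
  obtain ⟨f, rfl⟩ := (D.mem_sec_iff i₀ (Finset.mem_singleton_self a)).1 hx
  obtain ⟨g, rfl⟩ := (D.mem_sec_iff i₀ (Finset.mem_singleton_self a)).1 hy
  exact (D.mem_sec_iff i₀ (Finset.mem_singleton_self a)).2 ⟨f * g, by rw [map_mul]; ring⟩

theorem one_mem_sec (e : ℕ) (s : Finset ι) : (1 : D.K) ∈ D.sec i₀ e s :=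
  ⟨res _ le_top (D.pw i₀ e), by rw [D.val_pw, t_self, one_pow]⟩

theorem graded : Graded (D.t i₀) fun j => D.sec i₀ j where
  mul_mem j s a x := by
    rintro ⟨y, rfl⟩
    refine ⟨shT y (res D.M le_top (D.σ a)), ?_⟩
    have hη : D.η ∈ D.V s ⊓ D.U i₀ := ⟨D.eta_memV s, D.eta_mem i₀⟩
    obtain ⟨f, hf⟩ := (D.pw_genOn i₀ j (D.V s ⊓ D.U i₀) inf_le_right).2 (res _ inf_le_left y)
    dsimp only at hf
    rw [AmpleLib.res_res] at hf
    have hy : D.val i₀ j (D.eta_memV s) y = D.fn hη f := by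
      rw [← D.val_res i₀ j inf_le_left hη, ← hf, D.val_smul, D.val_pw, t_self, one_pow, mul_one]
    obtain ⟨r, hr⟩ := D.exists_fn_smul i₀ a (W := D.V s ⊓ D.U i₀) inf_le_right
    have ht : D.t i₀ a = D.fn hη r := by
      have h := D.germ_pw i₀ a 1
      have h' := congrArg ((CohB1.tensorPow D.M 1).presheaf.germ _ D.η hη) (D.pw_smul r hr 1)
      rw [AmpleLib.germ_smul, D.germ_res', D.germ_res', pow_one, h, pow_one] at h'
      exact ((D.pw_genAt i₀ 1 (D.eta_mem i₀)).1 h').symm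
    show D.val i₀ (j + 1) _ _ = _
    rw [← D.val_res i₀ (j + 1) inf_le_left hη, hy, ht]
    have he : res (CohB1.tensorPow D.M (j + 1)) (inf_le_left : D.V s ⊓ D.U i₀ ≤ D.V s)
        (shT y (res D.M le_top (D.σ a))) = (f * r) • res (CohB1.tensorPow D.M (j + 1)) le_top (D.pw i₀ (j + 1)) := by
      show res (CohB1.tensorMod _ _) _ _ = _ • res (CohB1.tensorMod _ _) _ (shT _ _)
      rw [AmpleLib.shT_res, AmpleLib.shT_res, AmpleLib.res_res, ← hr, ← hf, AmpleLib.shT_smul]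
    rw [he, D.val_smul, D.val_pw, t_self, one_pow, mul_one, map_mul, mul_comm]
  div_mem j s a ha x hx := by
    obtain ⟨f, rfl⟩ := (D.mem_sec_iff i₀ ha).1 hx
    exact ⟨_, (D.mem_sec_iff i₀ ha).2 ⟨f, rfl⟩, by ring⟩

theorem sec_congr (e : ℕ) {W W' : D.X.Opens} (he : W = W') (h : D.η ∈ W) (h' : D.η ∈ W')
    (y : Γ(CohB1.tensorPow D.M e, W)) : ∃ y', D.val i₀ e h' y' = D.val i₀ e h y := by
  subst he
  exact ⟨y, rfl⟩

theorem exists_global (e : ℕ) {x : D.K} (hx : ∀ a, ∃ y, D.val i₀ e (D.eta_mem a) y = x) :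
    ∃ g : Γ(CohB1.tensorPow D.M e, ⊤), D.val i₀ e (W := ⊤) trivial g = x := by
  choose y hy using hx
  let N := CohB1.tensorPow D.M e
  obtain ⟨g, hg⟩ := ModGlueLib.exists_glue (M := N) (V := ⊤) (fun a : ULift.{u} ι => D.U a.down)
    (fun _ => le_top) (fun z _ => by
      obtain ⟨a, ha⟩ := D.cover z
      exact ⟨⟨a⟩, ha⟩) (fun a => y a.down) (fun a b => by
        refine D.val_injective i₀ e (W := D.U a.down ⊓ D.U b.down) ⟨D.eta_mem _, D.eta_mem _⟩ ?_
        show D.val i₀ e _ (res N inf_le_left (y a.down)) = D.val i₀ e _ (res N inf_le_right (y b.down))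
        rw [D.val_res, D.val_res, hy, hy])
  refine ⟨g, ?_⟩
  rw [← hy i₀, ← hg ⟨i₀⟩]
  exact (D.val_res i₀ e (le_top : D.U i₀ ≤ ⊤) _ g).symm

theorem mem_sec_empty_iff (e : ℕ) {x : D.K} : x ∈ D.sec i₀ e ∅ ↔ ∀ a, x ∈ D.sec i₀ e {a} := by
  refine ⟨fun h a => (D.sec i₀ e).monotone (Finset.empty_subset _) h, fun h => ?_⟩
  obtain ⟨g, hg⟩ := D.exists_global i₀ e (x := x) fun a => by
    obtain ⟨y, hy⟩ := (D.mem_sec i₀).1 (h a)
    obtain ⟨y', hy'⟩ := D.sec_congr i₀ e (D.V_singleton a) (D.eta_memV _) (D.eta_mem a) y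
    exact ⟨y', hy'.trans hy⟩
  obtain ⟨g', hg'⟩ := D.sec_congr i₀ e (show (⊤ : D.X.Opens) = D.V ∅ from Finset.inf_empty.symm) trivial
    (D.eta_memV ∅) g
  exact ⟨g', hg'.trans hg⟩

end ChartData

end TateThmLib

end
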