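import Groth.Agent.TateThmLib.ChartIso

/-!
Over a finite field there are finitely many chart data with prescribed dimensions of sections.
-/

set_option autoImplicit false
set_option maxHeartbeats 1000000
set_option backward.isDefEq.respectTransparency false
set_option linter.unusedSectionVars false

noncomputable section

universe u

open CategoryTheory AlgebraicGeometry

namespace TateThmLib

namespace ChartData

variable {k : Type u} [Field k] {ι : Type} [Fintype ι] [LinearOrder ι] (D : ChartData k ι) (i₀ : ι)
  (hvan : ∀ e p, 1 ≤ e → Subsingleton (Coh.HH D.X (CohB1.tensorPow D.M e) (p + 1)))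

theorem secData_G_eq {j : ℕ} :
    (D.secData i₀ hvan).G j = if Fintype.card ι + 1 ≤ j then D.sec i₀ j ∅ else ⊥ := by
  split
  next h => ext x; rw [D.mem_secData_G i₀ hvan h, D.mem_sec_empty_iff]
  next h => exact if_neg h

end ChartData

/-- Over a finite field, among infinitely many chart data with the same dimensions of sections and vanishing
higher cohomology two schemes are isomorphic over the constants. -/
theorem exists_chart_iso {k : Type u} [Field k] [Finite k] {ι : Type} [Fintype ι] [LinearOrder ι] (i₀ : ι)
    {I : Type u} [Infinite I] (D : I → ChartData k ι)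
    (hvan : ∀ i e p, 1 ≤ e → Subsingleton (Coh.HH (D i).X (CohB1.tensorPow (D i).M e) (p + 1)))
    (d : ℕ → ℕ) (hfin : ∀ i e, Fintype.card ι + 1 ≤ e → FiniteDimensional k ((D i).sec i₀ e ∅))
    (hd : ∀ i e, Fintype.card ι + 1 ≤ e → Module.finrank k ((D i).sec i₀ e ∅) = d e) :
    ∃ i i', i ≠ i' ∧ ∃ e : (D i).X ≅ (D i').X, ∀ c, e.hom.appTop ((D i').cst c) = (D i).cst c := by
  let n := Fintype.card ι + 1
  haveI : ∀ i j, FiniteDimensional k (((D i).secData i₀ (hvan i)).G j) := fun i j => by
    rw [(D i).secData_G_eq]
    by_cases h : n ≤ j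
    · rw [if_pos h]; exact hfin i j h
    · rw [if_neg h]; infer_instance
  have hdim : ∀ i j, Module.finrank k (((D i).secData i₀ (hvan i)).G j) = if n ≤ j then d j else 0 := fun i j => by
    rw [(D i).secData_G_eq]
    by_cases h : n ≤ j
    · rw [if_pos h, if_pos h, hd i j h]
    · rw [if_neg h, if_neg h, finrank_bot]
  obtain ⟨i, i', hne, ⟨T⟩⟩ := exists_secTable (fun i => (D i).K) (fun i => (D i).secData i₀ (hvan i))
    (fun j => if n ≤ j then d j else 0) hdim
  haveI := (D i).isFractionRing_ring i₀ (hvan i)
  haveI := (D i').isFractionRing_ring i₀ (hvan i')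
  obtain ⟨σ, -, hσ⟩ := T.exists_algEquiv
  refine ⟨i, i', hne, (D i).exists_iso (D i') σ fun a x => ?_⟩
  rw [← (D i).mem_chart_iff i₀ (hvan i), ← (D i').mem_chart_iff i₀ (hvan i')]
  exact hσ a x

end TateThmLib

end
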