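import Groth.Agent.TateThmLib.ChartRing
import Mathlib.AlgebraicGeometry.Morphisms.Separated

/-!
An isomorphism of function fields respecting the chart rings gives an isomorphism of schemes.
-/

set_option autoImplicit false
set_option maxHeartbeats 1000000
set_option backward.isDefEq.respectTransparency false
set_option linter.unusedSectionVars false

noncomputable section

universe u

open CategoryTheory CategoryTheory.Limits AlgebraicGeometry TopologicalSpace Opposite

namespace TateThmLib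

namespace ChartData

variable {k : Type u} [Field k] {ι : Type} (D D' : ChartData k ι)

theorem affU (a : ι) : IsAffineOpen (D.U a) := D.aff a

/-- The generic point as a morphism. -/
def gpt : Spec (CommRingCat.of D.K) ⟶ D.X := D.X.fromSpecStalk D.η

/-- The generic point in a chart. -/
def gptU (a : ι) : Spec (CommRingCat.of D.K) ⟶ (D.U a).toScheme :=
  Spec.map (D.X.presheaf.germ (D.U a) D.η (D.eta_mem a)) ≫ (D.affU a).isoSpec.inv

theorem gptU_ι (a : ι) : D.gptU a ≫ (D.U a).ι = D.gpt := by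
  rw [gptU, Category.assoc, IsAffineOpen.isoSpec_inv_ι]
  exact (D.affU a).fromSpecStalk_eq_fromSpecStalk (D.eta_mem a)

theorem isDominant_lift {W : Scheme.{u}} (j : W ⟶ D.X) [IsOpenImmersion j] (l : Spec (CommRingCat.of D.K) ⟶ W)
    (hl : l ≫ j = D.gpt) : IsDominant l := by
  have hj : j (l (IsLocalRing.closedPoint D.K)) = D.η := by
    rw [← Scheme.Hom.comp_apply, hl]
    exact Scheme.fromSpecStalk_closedPoint
  refine ⟨Dense.mono (Set.singleton_subset_iff.2 ⟨_, rfl⟩ : {l (IsLocalRing.closedPoint D.K)} ⊆ Set.range l) ?_⟩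
  have h := j.isOpenEmbedding.isOpenMap.preimage_closure_eq_closure_preimage j.continuous {D.η}
  have hs : j ⁻¹' {D.η} = {l (IsLocalRing.closedPoint D.K)} :=
    Set.ext fun x => ⟨fun hx => j.isOpenEmbedding.injective (Eq.trans hx hj.symm), fun hx => by
      rw [Set.mem_singleton_iff.1 hx]; exact hj⟩
  rw [(genericPoint_spec D.X).def, Set.preimage_univ, hs] at h
  exact dense_iff_closure_eq.2 h.symm

variable (σ : D.K ≃ₐ[k] D'.K)
  (hσ : ∀ a (f : Γ(D'.X, D'.U a)), ∃ g : Γ(D.X, D.U a), σ (D.fn (D.eta_mem a) g) = D'.fn (D'.eta_mem a) f)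

/-- The map of chart rings. -/
def chartHom (a : ι) : Γ(D'.X, D'.U a) →+* Γ(D.X, D.U a) where
  toFun f := (hσ a f).choose
  map_one' := D.fn_injective (D.eta_mem a) (σ.injective (by
    rw [(hσ a 1).choose_spec, map_one, map_one, map_one]))
  map_mul' f g := D.fn_injective (D.eta_mem a) (σ.injective (by
    rw [(hσ a (f * g)).choose_spec, map_mul, map_mul, map_mul, (hσ a f).choose_spec, (hσ a g).choose_spec]))
  map_zero' := D.fn_injective (D.eta_mem a) (σ.injective (by
    rw [(hσ a 0).choose_spec, map_zero, map_zero, map_zero]))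
  map_add' f g := D.fn_injective (D.eta_mem a) (σ.injective (by
    rw [(hσ a (f + g)).choose_spec, map_add, map_add, map_add, (hσ a f).choose_spec, (hσ a g).choose_spec]))

theorem chartHom_spec (a : ι) (f : Γ(D'.X, D'.U a)) :
    D.fn (D.eta_mem a) (D.chartHom D' σ hσ a f) = σ.symm (D'.fn (D'.eta_mem a) f) :=
  σ.eq_symm_apply.2 (hσ a f).choose_spec

/-- The morphism on a chart. -/
def chartMap (a : ι) : (D.U a).toScheme ⟶ D'.X :=
  (D.affU a).isoSpec.hom ≫ Spec.map (CommRingCat.ofHom (D.chartHom D' σ hσ a)) ≫ (D'.affU a).fromSpec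

/-- The field map on spectra. -/
def fieldMap : Spec (CommRingCat.of D.K) ⟶ Spec (CommRingCat.of D'.K) :=
  Spec.map (CommRingCat.ofHom (σ.symm : D'.K →+* D.K))

theorem gptU_chartMap (a : ι) : D.gptU a ≫ D.chartMap D' σ hσ a = D.fieldMap D' σ ≫ D'.gpt := by
  rw [← D'.gptU_ι a, gptU, gptU, chartMap, Category.assoc, Category.assoc, IsAffineOpen.isoSpec_inv_ι,
    Iso.inv_hom_id_assoc, fieldMap, ← Category.assoc, ← Category.assoc, ← Spec.map_comp, ← Spec.map_comp]
  congr 2
  exact CommRingCat.hom_ext (RingHom.ext fun f => D.chartHom_spec D' σ hσ a f)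

include hσ in
theorem exists_hom : ∃ Φ : D.X ⟶ D'.X, D.gpt ≫ Φ = D.fieldMap D' σ ≫ D'.gpt := by
  have hcov : IsOpenCover D.U := IsOpenCover.iSup_eq_top (top_unique fun x _ => Opens.mem_iSup.2 (D.cover x))
  let 𝒰 := D.X.openCoverOfIsOpenCover D.U hcov
  have hagree : ∀ a b, pullback.fst (𝒰.f a) (𝒰.f b) ≫ D.chartMap D' σ hσ a =
      pullback.snd _ _ ≫ D.chartMap D' σ hσ b := by
    intro a b
    let l : Spec (CommRingCat.of D.K) ⟶ pullback (𝒰.f a) (𝒰.f b) :=
      pullback.lift (D.gptU a) (D.gptU b) ((D.gptU_ι a).trans (D.gptU_ι b).symm)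
    haveI : IsDominant l := D.isDominant_lift (pullback.fst (𝒰.f a) (𝒰.f b) ≫ 𝒰.f a) l (by
      rw [pullback.lift_fst_assoc]; exact D.gptU_ι a)
    haveI : IsReduced (pullback (𝒰.f a) (𝒰.f b)) :=
      isReduced_of_isOpenImmersion (pullback.fst (𝒰.f a) (𝒰.f b) ≫ 𝒰.f a)
    refine ext_of_isDominant l ?_
    rw [pullback.lift_fst_assoc, pullback.lift_snd_assoc, D.gptU_chartMap, D.gptU_chartMap]
  refine ⟨Scheme.Cover.glueMorphisms 𝒰 (fun a => D.chartMap D' σ hσ a) hagree, ?_⟩
  obtain ⟨a, -⟩ := D.cover D.η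
  rw [← D.gptU_ι a, Category.assoc, show (D.U a).ι = 𝒰.f a from rfl, Scheme.Cover.ι_glueMorphisms]
  exact D.gptU_chartMap D' σ hσ a

/-- A homomorphism over the constants is determined at the generic point. -/
theorem appTop_cst {Φ : D.X ⟶ D'.X} (hΦ : D.gpt ≫ Φ = D.fieldMap D' σ ≫ D'.gpt) (c : k) :
    Φ.appTop (D'.cst c) = D.cst c := by
  have h : D.gpt ≫ D.X.toSpecΓ ≫ Spec.map Φ.appTop = D.fieldMap D' σ ≫ D'.gpt ≫ D'.X.toSpecΓ := by
    rw [← Scheme.toSpecΓ_naturality, ← Category.assoc, hΦ, Category.assoc]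
  rw [← Category.assoc, gpt, gpt, Scheme.fromSpecStalk_toSpecΓ, Scheme.fromSpecStalk_toSpecΓ, fieldMap,
    ← Spec.map_comp, ← Spec.map_comp] at h
  have h' := congrArg (fun f : Γ(D'.X, ⊤) ⟶ CommRingCat.of D.K => f (D'.cst c)) (Spec.map_injective h)
  exact D.fn_injective (W := ⊤) trivial (h'.trans (σ.symm.commutes c))

end ChartData

open ChartData in
/-- An isomorphism of function fields respecting the charts gives an isomorphism over the constants. -/
theorem ChartData.exists_iso {k : Type u} [Field k] {ι : Type} (D D' : ChartData k ι) (σ : D.K ≃ₐ[k] D'.K)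
    (h : ∀ a (x : D.K), (∃ f, D.fn (D.eta_mem a) f = x) ↔ ∃ f, D'.fn (D'.eta_mem a) f = σ x) :
    ∃ e : D.X ≅ D'.X, ∀ c, e.hom.appTop (D'.cst c) = D.cst c := by
  obtain ⟨Φ, hΦ⟩ := D.exists_hom D' σ fun a f => by
    obtain ⟨g, hg⟩ := (h a (σ.symm (D'.fn (D'.eta_mem a) f))).2 ⟨f, (σ.apply_symm_apply _).symm⟩
    exact ⟨g, by rw [hg, σ.apply_symm_apply]⟩
  obtain ⟨Ψ, hΨ⟩ := D'.exists_hom D σ.symm fun a g => by
    obtain ⟨f, hf⟩ := (h a (D.fn (D.eta_mem a) g)).1 ⟨g, rfl⟩
    exact ⟨f, by rw [hf, σ.symm_apply_apply]⟩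
  have h1 : D.fieldMap D' σ ≫ D'.fieldMap D σ.symm = 𝟙 _ := by
    rw [fieldMap, fieldMap, ← Spec.map_comp, ← Spec.map_id]
    exact congrArg Spec.map (CommRingCat.hom_ext (RingHom.ext fun x => σ.symm_apply_apply x))
  have h2 : D'.fieldMap D σ.symm ≫ D.fieldMap D' σ = 𝟙 _ := by
    rw [fieldMap, fieldMap, ← Spec.map_comp, ← Spec.map_id]
    exact congrArg Spec.map (CommRingCat.hom_ext (RingHom.ext fun x => σ.apply_symm_apply x))
  haveI := D.isDominant_lift (𝟙 D.X) D.gpt (Category.comp_id _)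
  haveI := D'.isDominant_lift (𝟙 D'.X) D'.gpt (Category.comp_id _)
  refine ⟨⟨Φ, Ψ, ext_of_isDominant D.gpt ?_, ext_of_isDominant D'.gpt ?_⟩, D.appTop_cst D' σ hΦ⟩
  · rw [← Category.assoc, hΦ, Category.assoc, hΨ, ← Category.assoc, h1, Category.id_comp, Category.comp_id]
  · rw [← Category.assoc, hΨ, Category.assoc, hΦ, ← Category.assoc, h2, Category.id_comp, Category.comp_id]

end TateThmLib

end
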