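import Groth.Agent.TateThmLib.ChartVanish

/-!
The system of sections of a chart datum recovers the coordinate rings of the charts.
-/

set_option autoImplicit false
set_option maxHeartbeats 1000000
set_option backward.isDefEq.respectTransparency false
set_option linter.unusedSectionVars false

noncomputable section

universe u

open CategoryTheory AlgebraicGeometry TopologicalSpace Opposite
open AmpleLib (res)

namespace TateThmLib

namespace ChartData

variable {k : Type u} [Field k] {ι : Type} [Fintype ι] [LinearOrder ι] (D : ChartData k ι) (i₀ : ι)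

theorem fn_mul_t {a b : ι} {W : D.X.Opens} (hW : D.η ∈ W) (u : Γ(D.X, W))
    (hu : u • res D.M (le_top : W ≤ ⊤) (D.σ a) = res D.M le_top (D.σ b)) :
    D.fn hW u * D.t i₀ a = D.t i₀ b := by
  have h := congrArg (D.val i₀ 1 hW) (D.pw_smul u hu 1)
  rwa [D.val_smul, D.val_pw, D.val_pw, pow_one, pow_one, pow_one] at h

theorem exists_pow_mem (a b : ι) (f : Γ(D.X, D.U b)) :
    ∃ m, D.fn (D.eta_mem b) f * D.t i₀ b ^ m ∈ D.sec i₀ m {a} := by
  obtain ⟨u, hu⟩ := D.exists_fn_smul a b (le_refl (D.U a))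
  have hV : D.X.basicOpen u ≤ D.U b := fun x hx => by
    have hxa : x ∈ D.U a := D.X.basicOpen_le u hx
    have h := (AmpleLib.genAt_smul_iff u _ hxa ((D.sigma_genOn a).genAt hxa)).2 hx
    rw [hu] at h
    exact (AmpleLib.genAt_res _ _ hxa).1 h
  have hηu : D.η ∈ D.X.basicOpen u := by
    refine (AmpleLib.genAt_smul_iff u _ (D.eta_mem a) ((D.sigma_genOn a).genAt (D.eta_mem a))).1 ?_
    rw [hu]
    exact (AmpleLib.genAt_res _ _ _).2 (D.gen b)
  letI := D.aff a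
  haveI : IsLocalization.Away u Γ(D.X, D.X.basicOpen u) := (D.aff a).isLocalization_basicOpen u
  obtain ⟨m, g, hg⟩ := IsLocalization.Away.surj u (D.X.presheaf.map (homOfLE hV).op f)
  refine ⟨m, (D.mem_sec_iff i₀ (Finset.mem_singleton_self a)).2
    ⟨D.X.presheaf.map (homOfLE (D.V_singleton a).le).op g, ?_⟩⟩
  have h := congrArg (D.fn hηu) hg
  rw [map_mul, map_pow, D.fn_res] at h
  have e1 : ∀ y : Γ(D.X, D.U a), D.fn hηu (algebraMap Γ(D.X, D.U a) Γ(D.X, D.X.basicOpen u) y) =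
      D.fn (D.eta_mem a) y := fun y => D.fn_res (D.X.basicOpen_le u) hηu y
  rw [e1, e1] at h
  rw [D.fn_res, ← h, ← D.fn_mul_t i₀ (D.eta_mem a) u hu]
  ring

theorem pow_mem_succ {a b : ι} {x : D.K} {m : ℕ} (h : x * D.t i₀ b ^ m ∈ D.sec i₀ m {a}) :
    x * D.t i₀ b ^ (m + 1) ∈ D.sec i₀ (m + 1) {a} := by
  have := (D.graded i₀).mul_mem m {a} b _ h
  rwa [show x * D.t i₀ b ^ (m + 1) = D.t i₀ b * (x * D.t i₀ b ^ m) by ring]

theorem pow_mem_mono {a b : ι} {x : D.K} {m m' : ℕ} (hm : m ≤ m') (h : x * D.t i₀ b ^ m ∈ D.sec i₀ m {a}) :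
    x * D.t i₀ b ^ m' ∈ D.sec i₀ m' {a} := by
  induction m', hm using Nat.le_induction with
  | base => exact h
  | succ m' _ ih => exact D.pow_mem_succ i₀ ih

variable (hvan : ∀ e p, 1 ≤ e → Subsingleton (Coh.HH D.X (CohB1.tensorPow D.M e) (p + 1)))

/-- The system of sections of a chart datum. -/
def secData : SecData k ι i₀ D.K (Fintype.card ι + 1) :=
  SecData.ofVanishing (D.t i₀) i₀ (fun j => D.sec i₀ j) (D.graded i₀) (D.vanishing i₀ hvan) (D.t_self i₀)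
    (D.t_ne_zero i₀) (fun _ _ _ _ hx _ hy => D.sec_mul i₀ hx hy) fun _ => D.one_mem_sec i₀ _ _

theorem secData_t (a : ι) : (D.secData i₀ hvan).t a = D.t i₀ a := rfl

theorem mem_secData_G {j : ℕ} (hj : Fintype.card ι + 1 ≤ j) {x : D.K} :
    x ∈ (D.secData i₀ hvan).G j ↔ ∀ a, x ∈ D.sec i₀ j {a} := mem_globalG hj

theorem mem_chart_iff (b : ι) {x : D.K} :
    x ∈ (D.secData i₀ hvan).chart b ↔ ∃ f : Γ(D.X, D.U b), D.fn (D.eta_mem b) f = x := by
  constructor
  · rintro ⟨j, hj, h⟩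
    obtain ⟨f, hf⟩ := (D.mem_sec_iff i₀ (Finset.mem_singleton_self b)).1 ((D.mem_secData_G i₀ hvan hj).1 h b)
    refine ⟨D.X.presheaf.map (homOfLE (D.V_singleton b).ge).op f, ?_⟩
    rw [D.fn_res]
    exact (mul_right_cancel₀ (pow_ne_zero j (D.t_ne_zero i₀ b)) hf).symm
  · rintro ⟨f, rfl⟩
    choose m hm using fun a => D.exists_pow_mem i₀ a b f
    refine ⟨(Fintype.card ι + 1) ⊔ Finset.univ.sup m, le_sup_left, (D.mem_secData_G i₀ hvan le_sup_left).2 fun a => ?_⟩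
    exact D.pow_mem_mono i₀ ((Finset.le_sup (Finset.mem_univ a)).trans le_sup_right) (hm a)

theorem mem_ring_iff {x : D.K} :
    x ∈ (D.secData i₀ hvan).ring ↔ ∃ f : Γ(D.X, D.U i₀), D.fn (D.eta_mem i₀) f = x := by
  rw [← D.mem_chart_iff i₀ hvan, SecData.mem_ring]
  simp only [SecData.chart, Set.mem_setOf_eq, D.secData_t, D.t_self, one_pow, mul_one]
  exact ⟨fun ⟨m, h⟩ => ⟨_, Nat.le_add_right _ m, h⟩,
    fun ⟨j, hj, h⟩ => ⟨j - (Fintype.card ι + 1), by rwa [Nat.add_sub_cancel' hj]⟩⟩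

theorem isFractionRing_ring : IsFractionRing (D.secData i₀ hvan).ring D.K := by
  haveI : Nonempty (D.U i₀) := ⟨⟨D.η, D.eta_mem i₀⟩⟩
  haveI := functionField_isFractionRing_of_isAffineOpen D.X (D.U i₀) (D.aff i₀)
  refine IsFractionRing.of_field _ D.K fun z => ?_
  obtain ⟨a, b, hb, rfl⟩ := IsFractionRing.div_surjective Γ(D.X, D.U i₀) z
  exact ⟨⟨_, (D.mem_ring_iff i₀ hvan).2 ⟨a, rfl⟩⟩, ⟨_, (D.mem_ring_iff i₀ hvan).2 ⟨b, rfl⟩⟩, rfl⟩

end ChartData

end TateThmLib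

end
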