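import Groth.Agent.TateThmLib.ChartData

/-!
Čech vanishing for the sections of the powers, from the vanishing of cohomology.
-/

set_option autoImplicit false
set_option maxHeartbeats 1000000
set_option backward.isDefEq.respectTransparency false
set_option linter.unusedSectionVars false

noncomputable section

universe u

open CategoryTheory AlgebraicGeometry TopologicalSpace Opposite
open AmpleLib (res)

namespace TateThmLib

namespace ChartData

variable {k : Type u} [Field k] {ι : Type} [DecidableEq ι] (D : ChartData k ι) (i₀ : ι)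

/-- The charts, indexed in the universe of the scheme. -/
abbrev U' : ULift.{u} ι → D.X.Opens := fun a => D.U a.down

theorem cap_eq {n : ℕ} (J : Fin n → ULift.{u} ι) : CechLib.cap D.U' J = D.V (Finset.univ.image (ULift.down ∘ J)) := by
  rw [CechLib.cap, V, Finset.inf_image]
  exact (Finset.inf_univ_eq_iInf _).symm

theorem eta_cap {n : ℕ} (J : Fin n → ULift.{u} ι) : D.η ∈ CechLib.cap D.U' J := by
  rw [D.cap_eq]; exact D.eta_memV _

/-- The values of a cochain. -/
def cval (e : ℕ) {n : ℕ} (c : CechLib.Cochain D.U' ((QCohLib.toAbF D.X).obj (CohB1.tensorPow D.M e)).obj n)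
    (J : Fin (n + 1) → ι) : D.K :=
  D.val i₀ e (D.eta_cap (ULift.up ∘ J)) (c (ULift.up ∘ J))

theorem cval_dd (e n : ℕ) (c : CechLib.Cochain D.U' ((QCohLib.toAbF D.X).obj (CohB1.tensorPow D.M e)).obj n)
    (J : Fin (n + 2) → ι) : D.cval i₀ e (CechLib.dd _ _ n c) J = cdd (D.cval i₀ e c) J := by
  rw [cval, CechLib.dd_apply, cdd]
  refine (map_sum (D.val i₀ e (D.eta_cap _)) _ Finset.univ).trans (Finset.sum_congr rfl fun a _ => ?_)
  refine (map_zsmul (D.val i₀ e (D.eta_cap _)) _ _).trans (congrArg _ ?_)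
  exact D.val_res i₀ e (CechLib.cap_comp_le D.U' (ULift.up ∘ J) a.succAbove) _ (c _)

theorem cochVanish_sec (e p : ℕ) (h : Subsingleton (Coh.HH D.X (CohB1.tensorPow D.M e) (p + 1))) :
    CochVanish (D.sec i₀ e) p := by
  haveI := TwistLib.isQCoh_of_isInvertible (AmpleThLib.tensorPow_isInvertible D.inv e)
  set F := (QCohLib.toAbF D.X).obj (CohB1.tensorPow D.M e) with hF
  have hacyc : CechLib.Acyc D.U' F := fun n J q => by
    rw [D.cap_eq]
    exact QCohLib.subsingleton_HU_affine _ q (D.isAffineOpen_V (Finset.univ_nonempty.image _))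
  have htop : (⨆ a, D.U' a) = ⊤ := top_unique fun x _ => by
    obtain ⟨a, ha⟩ := D.cover x
    exact Opens.mem_iSup.2 ⟨⟨a⟩, ha⟩
  obtain ⟨eq⟩ := CechLib.nonempty_homology_equiv D.U' (p + 1) F hacyc
  have hsub : Subsingleton (QCohLib.HU F (p + 1) (⨆ a, D.U' a)) := by
    rw [htop]
    exact (QCohLib.hEquiv F (p + 1)).symm.injective.subsingleton
  have hz : Limits.IsZero ((CechLib.cx D.U' F.obj).homology (p + 1)) := by
    have := @Function.Injective.subsingleton _ _ _ eq.injective hsub
    exact AddCommGrpCat.isZero_of_subsingleton _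
  intro c hc hd
  have hy : ∀ J : Fin (p + 2) → ULift.{u} ι,
      ∃ y, D.val i₀ e (D.eta_cap J) y = c (ULift.down ∘ J) := fun J => by
    obtain ⟨y, hy⟩ := (D.mem_sec i₀).1 (hc (ULift.down ∘ J))
    obtain ⟨y', hy'⟩ := D.sec_congr i₀ e (D.cap_eq J).symm (D.eta_memV _) (D.eta_cap J) y
    exact ⟨y', hy'.trans hy⟩
  choose y hy using hy
  have hval : ∀ J, D.cval i₀ e y J = c J := fun J => hy (ULift.up ∘ J)
  obtain ⟨b, hb⟩ := (CechLib.isZero_homology_succ_iff D.U' F.obj p).1 hz y (funext fun J => by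
    refine D.val_injective i₀ e (D.eta_cap J) ?_
    refine ((D.cval_dd i₀ e (p + 1) y (ULift.down ∘ J)).trans ?_).trans (map_zero _).symm
    rw [funext hval]
    exact hd _)
  refine ⟨D.cval i₀ e b, fun J => ?_, fun J => ?_⟩
  · obtain ⟨y', hy'⟩ := D.sec_congr i₀ e (D.cap_eq (ULift.up ∘ J)) (D.eta_cap _) (D.eta_memV _) (b (ULift.up ∘ J))
    exact ⟨y', hy'⟩
  · rw [← D.cval_dd, hb, hval]

theorem vanishing (h : ∀ e p, 1 ≤ e → Subsingleton (Coh.HH D.X (CohB1.tensorPow D.M e) (p + 1))) :
    Vanishing (S := fun j => D.sec i₀ j) := fun j p hj => D.cochVanish_sec i₀ j p (h j p hj)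

end ChartData

end TateThmLib

end
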