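import Mathlib.Algebra.Module.PID
import Mathlib.LinearAlgebra.AnnihilatingPolynomial
import Mathlib.LinearAlgebra.Charpoly.Basic
import Mathlib.LinearAlgebra.Charpoly.BaseChange
import Mathlib.RingTheory.LocalRing.Module
import Mathlib.RingTheory.Polynomial.Basic
import Mathlib.LinearAlgebra.Dual.Lemmas
import Mathlib.RingTheory.OrzechProperty
import Mathlib.LinearAlgebra.Dimension.OrzechProperty
import Mathlib.LinearAlgebra.FiniteDimensional.Lemmas

/-!
Cyclic endomorphisms of lattices and biduality for intertwiners.
-/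

set_option autoImplicit false
set_option maxHeartbeats 1000000
set_option linter.unusedSectionVars false

noncomputable section

open scoped TensorProduct
open Polynomial (aeval)

namespace TateThmLib

section Field

variable {K V : Type*} [Field K] [AddCommGroup V] [Module K V] [FiniteDimensional K V]

/-- A vector whose annihilator is the minimal polynomial. -/
theorem exists_vec_annihilator (f : Module.End K V) :
    ∃ v : V, ∀ q : Polynomial K, aeval f q v = 0 → minpoly K f ∣ q := by
  obtain ⟨x, hx⟩ := Module.exists_ker_toSpanSingleton_eq_annihilator (Polynomial K) (Module.AEval' f)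
  obtain ⟨v, rfl⟩ := (Module.AEval'.of f).surjective x
  refine ⟨v, fun q hq => ?_⟩
  rw [← Polynomial.span_minpoly_eq_annihilator] at hx
  rw [← Ideal.mem_span_singleton, ← hx, LinearMap.mem_ker, LinearMap.toSpanSingleton_apply,
    ← Module.AEval'.of f |>.map_zero]
  exact (Module.AEval.of_aeval_smul f q v).symm.trans (congrArg _ hq)

/-- An endomorphism whose minimal polynomial has full degree has a cyclic vector. -/
theorem exists_cyclic_basis (f : Module.End K V) {n : ℕ} (hn : Module.finrank K V = n)
    (h : (minpoly K f).natDegree = n) :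
    ∃ (v : V) (b : Module.Basis (Fin n) K V), ∀ i : Fin n, b i = (f ^ (i : ℕ)) v := by
  obtain ⟨v, hv⟩ := exists_vec_annihilator f
  have hli : LinearIndependent K fun i : Fin n => (f ^ (i : ℕ)) v := by
    rw [Fintype.linearIndependent_iff]
    intro c hc i
    let q : Polynomial K := ∑ j : Fin n, Polynomial.monomial (j : ℕ) (c j)
    have hq : aeval f q v = 0 := by
      rw [map_sum, LinearMap.sum_apply, ← hc]
      refine Finset.sum_congr rfl fun j _ => ?_
      rw [Polynomial.aeval_monomial, Module.End.mul_apply, Module.algebraMap_end_apply]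
    have h0 : q = 0 := by
      by_contra hne
      have h1 := Polynomial.natDegree_le_of_dvd (hv q hq) hne
      have h2 : q.natDegree < n := by
        rcases Nat.eq_zero_or_pos n with rfl | hpos
        · exact i.elim0
        · refine lt_of_le_of_lt (Polynomial.natDegree_sum_le_of_forall_le _ _ (n := n - 1) fun j _ => ?_) (by omega)
          exact (Polynomial.natDegree_monomial_le _).trans (by have := j.2; omega)
      omega
    have h3 := congrArg (fun p => Polynomial.coeff p (i : ℕ)) h0
    simpa [q, Polynomial.finsetSum_coeff, Polynomial.coeff_monomial, Fin.val_inj] using h3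
  refine ⟨v, basisOfLinearIndependentOfCardEqFinrank' _ hli (by rw [Fintype.card_fin, hn]), fun i => ?_⟩
  rw [coe_basisOfLinearIndependentOfCardEqFinrank']

end Field

section Lattice

variable {R T : Type*} [CommRing R] [IsDomain R] [IsLocalRing R] [AddCommGroup T] [Module R T] [Module.Free R T]
  [Module.Finite R T] {t : R} (ht : IsLocalRing.maximalIdeal R = Ideal.span {t}) (ht0 : t ≠ 0)

include ht in
/-- An endomorphism vanishing modulo the maximal ideal is divisible by the uniformiser. -/
theorem exists_smul_of_baseChange_eq_zero (g : Module.End R T)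
    (hg : g.baseChange (IsLocalRing.ResidueField R) = 0) : ∃ u : Module.End R T, g = t • u := by
  classical
  let b := Module.Free.chooseBasis R T
  have hy : ∀ y, ∃ z, g y = t • z := fun y => by
    have h0 : (1 : IsLocalRing.ResidueField R) ⊗ₜ[R] g y = 0 := by
      rw [← LinearMap.baseChange_tmul, hg, LinearMap.zero_apply]
    have hc : ∀ i, ∃ c, b.repr (g y) i = t * c := fun i => by
      have h1 := congrArg (fun z => (b.baseChange (IsLocalRing.ResidueField R)).repr z i) h0
      simp only [Module.Basis.baseChange_repr_tmul, map_zero, Finsupp.zero_apply] at h1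
      rw [Algebra.smul_def, mul_one, IsLocalRing.ResidueField.algebraMap_eq, IsLocalRing.residue_eq_zero_iff, ht,
        Ideal.mem_span_singleton] at h1
      exact h1
    choose c hc using hc
    refine ⟨∑ i, c i • b i, ?_⟩
    conv_lhs => rw [← b.sum_repr (g y)]
    rw [Finset.smul_sum]
    exact Finset.sum_congr rfl fun i _ => by rw [hc, mul_smul]
  choose z hz using fun i => hy (b i)
  refine ⟨b.constr R z, b.ext fun i => ?_⟩
  rw [LinearMap.smul_apply, Module.Basis.constr_basis, hz]

include ht ht0 in
/-- A cyclic vector over a local ring. -/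
theorem exists_cyclic_lattice (π : Module.End R T) {n : ℕ} (hn : Module.finrank R T = n)
    (hmin : ∀ q : Polynomial R, q.natDegree < n → aeval π q = 0 → q = 0)
    (hcomm : ∀ u : Module.End R T, u * π = π * u → u ∈ Algebra.adjoin R {π}) :
    ∃ (x : T) (b : Module.Basis (Fin n) R T), ∀ i : Fin n, b i = (π ^ (i : ℕ)) x := by
  classical
  let k := IsLocalRing.ResidueField R
  have hnk : Module.finrank k (k ⊗[R] T) = n := by rw [Module.finrank_baseChange, hn]
  have hchi : π.charpoly.natDegree = n := by rw [LinearMap.charpoly_natDegree, hn]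
  have hint : IsIntegral k (π.baseChange k) := .of_finite k _
  have hdeg : (minpoly k (π.baseChange k)).natDegree = n := by
    refine le_antisymm ?_ (not_lt.1 fun hlt => ?_)
    · refine (Polynomial.natDegree_le_of_dvd (LinearMap.minpoly_dvd_charpoly _) (LinearMap.charpoly_monic _).ne_zero).trans ?_
      rw [LinearMap.charpoly_natDegree, hnk]
    · obtain ⟨q, hq, hqd, hqm⟩ := Polynomial.lifts_and_natDegree_eq_and_monic
        (f := IsLocalRing.residue R) (p := minpoly k (π.baseChange k))
        (Polynomial.map_surjective (IsLocalRing.residue R) IsLocalRing.residue_surjective _ : _) (minpoly.monic hint)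
      have h0 : (aeval π q).baseChange k = 0 := by
        have h1 := minpoly.aeval k (π.baseChange k)
        rw [← hq, ← IsLocalRing.ResidueField.algebraMap_eq, Polynomial.aeval_map_algebraMap] at h1
        rw [← h1]
        exact (Polynomial.aeval_algHom_apply (Module.End.baseChangeHom R k T) π q).symm
      obtain ⟨u, hu⟩ := exists_smul_of_baseChange_eq_zero ht _ h0
      have hc : u * π = π * u := by
        refine smul_right_injective (Module.End R T) ht0 ?_
        show t • (u * π) = t • (π * u)
        rw [← smul_mul_assoc, ← mul_smul_comm, ← hu]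
        conv_lhs => arg 2; rw [← Polynomial.aeval_X (R := R) π]
        conv_rhs => arg 1; rw [← Polynomial.aeval_X (R := R) π]
        rw [← map_mul, ← map_mul, mul_comm]
      obtain ⟨r, hr⟩ : ∃ r : Polynomial R, aeval π r = u := by
        have := hcomm u hc
        rwa [Algebra.adjoin_singleton_eq_range_aeval, AlgHom.mem_range] at this
      have hr' : aeval π (r %ₘ π.charpoly) = u := by
        rw [Polynomial.modByMonic_eq_sub_mul_div, map_sub, map_mul, LinearMap.aeval_self_charpoly,
          MulZeroClass.zero_mul, sub_zero, hr]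
      have hz : q - Polynomial.C t * (r %ₘ π.charpoly) = 0 := by
        refine hmin _ ?_ (by rw [map_sub, map_mul, Polynomial.aeval_C, hr', hu, Algebra.algebraMap_eq_smul_one,
          smul_mul_assoc, one_mul, sub_self])
        refine lt_of_le_of_lt (Polynomial.natDegree_sub_le _ _) (max_lt (hqd.symm ▸ hlt) ?_)
        refine lt_of_le_of_lt (Polynomial.natDegree_C_mul_le _ _) ?_
        by_cases h1 : π.charpoly = 1
        · rw [h1, Polynomial.natDegree_one] at hchi
          omega
        · exact hchi ▸ Polynomial.natDegree_modByMonic_lt _ (LinearMap.charpoly_monic π) h1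
      have h2 := congrArg (fun p => Polynomial.coeff p q.natDegree) hz
      simp only [Polynomial.coeff_sub, Polynomial.coeff_C_mul, hqm.coeff_natDegree, Polynomial.coeff_zero, sub_eq_zero] at h2
      have hu1 : IsUnit t := .of_mul_eq_one _ h2.symm
      exact (IsLocalRing.maximalIdeal.isMaximal R).ne_top (ht ▸ Ideal.span_singleton_eq_top.2 hu1)
  obtain ⟨v, bk, hbk⟩ := exists_cyclic_basis (π.baseChange k) hnk hdeg
  obtain ⟨x, hx⟩ := TensorProduct.mk_surjective R T k IsLocalRing.residue_surjective v
  have hspan : Submodule.span R (Set.range fun i : Fin n => (π ^ (i : ℕ)) x) = ⊤ :=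
    IsLocalRing.span_eq_top_of_tmul_eq_basis _ bk fun i => by
      rw [hbk, ← hx, ← LinearMap.baseChange_pow]
      rfl
  exact ⟨x, basisOfTopLeSpanOfCardEqFinrank _ hspan.ge (by rw [Fintype.card_fin, hn]), fun i => by simp⟩

end Lattice

section Biduality

variable {R T W : Type*} [CommRing R] [AddCommGroup T] [Module R T] [AddCommGroup W] [Module R W]

/-- The intertwiners. -/
def interR (π : Module.End R T) (σ : Module.End R W) : Submodule R (T →ₗ[R] W) where
  carrier := {u | ∀ z, u (π z) = σ (u z)}
  add_mem' {u v} hu hv := fun z => by rw [LinearMap.add_apply, LinearMap.add_apply, map_add, hu, hv]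
  zero_mem' := fun z => by simp
  smul_mem' c u hu := fun z => by rw [LinearMap.smul_apply, LinearMap.smul_apply, map_smul, hu]

variable {n : ℕ} (σ : Module.End R W) (π : Module.End R T) (x : W) (bb : Module.Basis (Fin n) R W)
  (hbb : ∀ i : Fin n, bb i = (σ ^ (i : ℕ)) x) {P : Polynomial R} (hP : P.Monic) (hPn : P.natDegree = n)
  (hPσ : aeval σ P = 0) (hPπ : aeval π P = 0)

/-- The last coordinate. -/
def topCoord : W →ₗ[R] R := ∑ i : Fin n, (if (i : ℕ) + 1 = n then (1 : R) else 0) • bb.coord i

/-- The coordinates by the powers. -/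
def powCoord : W →ₗ[R] (Fin n → R) := LinearMap.pi fun i => topCoord bb ∘ₗ (σ ^ (i : ℕ))

include hbb in
theorem topCoord_pow (i : ℕ) (hi : i < n) : topCoord bb ((σ ^ i) x) = if i + 1 = n then 1 else 0 := by
  classical
  rw [show i = ((⟨i, hi⟩ : Fin n) : ℕ) from rfl, ← hbb, topCoord, LinearMap.sum_apply]
  simp only [LinearMap.smul_apply, Module.Basis.coord_apply, Module.Basis.repr_self, Finsupp.single_apply, smul_eq_mul]
  rw [Finset.sum_eq_single ⟨i, hi⟩]
  · simp
  · intro j _ hj; simp [Ne.symm hj]
  · simp

include hbb in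
theorem powCoord_bijective [Nontrivial R] : Function.Bijective (powCoord σ bb) := by
  classical
  have key : ∀ (c : Fin n → R) (m : ℕ), ∃ w, ∀ i : Fin n, (i : ℕ) < m → powCoord σ bb w i = c i := by
    intro c m
    induction m with
    | zero => exact ⟨0, fun i hi => absurd hi (Nat.not_lt_zero _)⟩
    | succ m ih =>
      obtain ⟨w, hw⟩ := ih
      by_cases hm : m < n
      · refine ⟨w + (c ⟨m, hm⟩ - powCoord σ bb w ⟨m, hm⟩) • (σ ^ (n - 1 - m)) x, fun i hi => ?_⟩
        have e : powCoord σ bb ((σ ^ (n - 1 - m)) x) i = if (i : ℕ) = m then 1 else 0 := by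
          show topCoord bb ((σ ^ (i : ℕ)) ((σ ^ (n - 1 - m)) x)) = _
          rw [← Module.End.mul_apply, ← pow_add, topCoord_pow σ x bb hbb _ (by omega)]
          congr 1
          exact propext (by omega)
        rw [map_add, map_smul, Pi.add_apply, Pi.smul_apply, e]
        rcases eq_or_lt_of_le (Nat.le_of_lt_succ hi) with him | him
        · obtain rfl : i = ⟨m, hm⟩ := Fin.ext him
          simp
        · rw [hw i him, if_neg him.ne, smul_zero, add_zero]
      · exact ⟨w, fun i hi => hw i (by have := i.2; omega)⟩
  have hs : Function.Surjective (powCoord σ bb) := fun c => by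
    obtain ⟨w, hw⟩ := key c n
    exact ⟨w, funext fun i => hw i i.2⟩
  have hb := OrzechProperty.bijective_of_surjective_endomorphism (powCoord σ bb ∘ₗ bb.equivFun.symm.toLinearMap)
    (hs.comp bb.equivFun.symm.surjective)
  refine ⟨fun a b h => bb.equivFun.injective (hb.injective ?_), hs⟩
  simpa using h

theorem pow_inter {u : T →ₗ[R] W} (hu : u ∈ interR π σ) (i : ℕ) (z : T) : u ((π ^ i) z) = (σ ^ i) (u z) := by
  induction i with
  | zero => simp
  | succ i ih => rw [pow_succ', pow_succ', Module.End.mul_apply, Module.End.mul_apply, hu, ih]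

include hbb hP hPn hPσ hPπ in
/-- Biduality: a linear map on intertwiners commuting with the action is evaluation at a point, and intertwiners separate. -/
theorem interR_biduality [Nontrivial R] [Module.Free R T] [Module.Finite R T] :
    (∀ z, (∀ u ∈ interR π σ, u z = 0) → z = 0) ∧
      ∀ G : interR π σ →ₗ[R] W, (∀ u v : interR π σ, (v : T →ₗ[R] W) = σ ∘ₗ (u : T →ₗ[R] W) → G v = σ (G u)) →
        ∃ z, ∀ u : interR π σ, G u = (u : T →ₗ[R] W) z := by
  classical
  have hΦ := powCoord_bijective σ x bb hbb
  let Φ := LinearEquiv.ofBijective (powCoord σ bb) hΦ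
  let e : interR π σ →ₗ[R] Module.Dual R T :=
    { toFun := fun u => topCoord bb ∘ₗ (u : T →ₗ[R] W)
      map_add' := fun u v => LinearMap.comp_add _ _ _
      map_smul' := fun c u => LinearMap.comp_smul _ _ _ }
  have einj : Function.Injective e := (injective_iff_map_eq_zero e).2 fun u hu => Subtype.ext (LinearMap.ext fun z =>
    hΦ.injective (funext fun i => by
      show topCoord bb ((σ ^ (i : ℕ)) ((u : T →ₗ[R] W) z)) = topCoord bb ((σ ^ (i : ℕ)) 0)
      rw [map_zero, map_zero, ← pow_inter σ π u.2]
      exact LinearMap.congr_fun hu _))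
  have esurj : Function.Surjective e := fun θ => by
    let u : T →ₗ[R] W := Φ.symm.toLinearMap ∘ₗ LinearMap.pi fun i : Fin n => θ ∘ₗ (π ^ (i : ℕ))
    have h1 : ∀ (z : T) (i : Fin n), topCoord bb ((σ ^ (i : ℕ)) (u z)) = θ ((π ^ (i : ℕ)) z) := fun z i =>
      congrFun (Φ.apply_symm_apply (fun i : Fin n => θ ((π ^ (i : ℕ)) z))) i
    have h2 : ∀ (z : T) (q : Polynomial R), topCoord bb (aeval σ q (u z)) = θ (aeval π q z) := fun z q => by
      have hσ : aeval σ q = aeval σ (q %ₘ P) := by
        rw [Polynomial.modByMonic_eq_sub_mul_div, map_sub, map_mul, hPσ, MulZeroClass.zero_mul, sub_zero]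
      have hπ : aeval π q = aeval π (q %ₘ P) := by
        rw [Polynomial.modByMonic_eq_sub_mul_div, map_sub, map_mul, hPπ, MulZeroClass.zero_mul, sub_zero]
      rcases Nat.eq_zero_or_pos n with h0 | hpos
      · have h1 : P = 1 := hP.natDegree_eq_zero.1 (hPn.trans h0)
        rw [hσ, hπ, h1, Polynomial.modByMonic_one, map_zero, map_zero]
        simp
      have hlt : (q %ₘ P).natDegree < n := hPn ▸ Polynomial.natDegree_modByMonic_lt _ hP (fun h1 => by
        rw [h1, Polynomial.natDegree_one] at hPn; omega)
      rw [hσ, hπ, Polynomial.aeval_eq_sum_range' hlt, Polynomial.aeval_eq_sum_range' hlt]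
      simp only [LinearMap.sum_apply, LinearMap.smul_apply, map_sum, map_smul]
      exact Finset.sum_congr rfl fun j hj => by rw [h1 z ⟨j, Finset.mem_range.1 hj⟩]
    refine ⟨⟨u, fun z => hΦ.injective (funext fun i => ?_)⟩, LinearMap.ext fun z => ?_⟩
    · show topCoord bb ((σ ^ (i : ℕ)) (u (π z))) = topCoord bb ((σ ^ (i : ℕ)) (σ (u z)))
      rw [h1, ← Module.End.mul_apply, ← pow_succ, ← Module.End.mul_apply, ← pow_succ]
      have := h2 z (Polynomial.X ^ ((i : ℕ) + 1))
      simp only [map_pow, Polynomial.aeval_X] at this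
      exact this.symm
    · show topCoord bb (u z) = θ z
      simpa using h2 z 1
  refine ⟨fun z hz => (Module.forall_dual_apply_eq_zero_iff R z).1 fun θ => ?_, fun G hG => ?_⟩
  · obtain ⟨u, rfl⟩ := esurj θ
    show topCoord bb ((u : T →ₗ[R] W) z) = 0
    rw [hz u u.2, map_zero]
  · let E := LinearEquiv.ofBijective e ⟨einj, esurj⟩
    refine ⟨(Module.evalEquiv R T).symm (topCoord bb ∘ₗ G ∘ₗ E.symm.toLinearMap), fun u => ?_⟩
    set z := (Module.evalEquiv R T).symm (topCoord bb ∘ₗ G ∘ₗ E.symm.toLinearMap) with hz
    have h0 : ∀ v : interR π σ, topCoord bb (G v) = topCoord bb ((v : T →ₗ[R] W) z) := fun v => by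
      have := Module.apply_evalEquiv_symm_apply (R := R) (M := T) (E v) (topCoord bb ∘ₗ G ∘ₗ E.symm.toLinearMap)
      rw [← hz] at this
      refine Eq.trans ?_ this.symm
      simp
    have hpow : ∀ i : ℕ, ∃ v : interR π σ, (v : T →ₗ[R] W) = (σ ^ i) ∘ₗ (u : T →ₗ[R] W) ∧ G v = (σ ^ i) (G u) := by
      intro i
      induction i with
      | zero => exact ⟨u, by simp [Module.End.one_eq_id], by simp⟩
      | succ i ih =>
        obtain ⟨v, hv, hGv⟩ := ih
        refine ⟨⟨σ ∘ₗ (v : T →ₗ[R] W), fun y => congrArg σ (v.2 y)⟩, ?_, ?_⟩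
        · show σ ∘ₗ (v : T →ₗ[R] W) = _
          rw [hv, pow_succ', ← LinearMap.comp_assoc]
          rfl
        · rw [hG v _ rfl, hGv, pow_succ', Module.End.mul_apply]
    refine hΦ.injective (funext fun i => ?_)
    obtain ⟨v, hv, hGv⟩ := hpow i
    show topCoord bb ((σ ^ (i : ℕ)) (G u)) = topCoord bb ((σ ^ (i : ℕ)) ((u : T →ₗ[R] W) z))
    rw [← hGv, h0 v, hv]
    rfl

end Biduality

end TateThmLib

end
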