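import Groth.Agent.AVThetaLib.Norm
import Groth.Agent.AVThetaLib.NSplit
import Groth.Agent.AVThetaLib.DescKernel
import Groth.Agent.AVThetaLib.Rep

/-!
Descent along a quotient by a subgroup of an abelian subvariety on which the module is trivial.
-/

set_option autoImplicit false
set_option maxHeartbeats 1000000
set_option maxRecDepth 8000
set_option backward.isDefEq.respectTransparency false
set_option linter.style.haveILetI false
set_option linter.unusedSectionVars false

noncomputable section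

universe u

open CategoryTheory CategoryTheory.Limits MonoidalCategory CartesianMonoidalCategory MonObj AlgebraicGeometry
open Pseudofunctor Bicategory ThetaGrp CubeConsLib AVThetaLib

namespace TateThmLib

variable {k : Type u} [Field k] {A C : Over (Spec (CommRingCat.of k))} [GrpObj A] [GrpObj C] [IsCommMonObj A]
  [IsCommMonObj C] [IsProper A.hom] [GeometricallyIntegral A.hom] [IsProper C.hom] [GeometricallyIntegral C.hom]
  {jC : A ⟶ C} [IsMonHom jC] {Λ : C.left.Modules} (hΛ : PicF.IsInvertible Λ)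
  (θ : (Scheme.Modules.pullback (toUnit A).left).obj
        (Coh.structureModule (𝟙_ (Over (Spec (CommRingCat.of k)))).left) ≅
      (Scheme.Modules.pullback jC.left).obj Λ)
  {T U : Over (Spec (CommRingCat.of k))}

/-- A point over `x` restricting to the canonical point along `A`. -/
def IsNormJ (x : T ⟶ A) (β : thetaPts C Λ T) : Prop :=
  pt β = x ≫ jC ∧ Pushes (dlift (toUnit A) θ x (Subsingleton.elim _ _)) β

include hΛ in
theorem IsNormJ.unique {x : T ⟶ A} {β β' : thetaPts C Λ T} (h : IsNormJ θ x β) (h' : IsNormJ θ x β') : β = β' := by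
  obtain ⟨c, rfl⟩ := exists_eq_mul_scal hΛ (h.1.trans h'.1.symm)
  have e := h.2.mul (pushes_scal (f := jC) c)
  have e' : dlift (toUnit A) θ x (Subsingleton.elim _ _) * scal A _ T c = dlift (toUnit A) θ x (Subsingleton.elim _ _) :=
    pts_ext' (qf jC Λ T) (by rw [pt_mul, pt_scal, _root_.one_mul]) (e.trans h'.2.symm)
  rw [mul_eq_left] at e'
  rw [scal_injective (AmpleDevLib.isInvertible_pb _ hΛ) (e'.trans (map_one (scal A _ T)).symm), map_one,
    _root_.mul_one]

theorem IsNormJ.mul {x y : T ⟶ A} {β β' : thetaPts C Λ T} (h : IsNormJ θ x β) (h' : IsNormJ θ y β') :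
    IsNormJ θ (x * y) (β * β') := by
  refine ⟨?_, ?_⟩
  · rw [pt_mul, h.1, h'.1, ← MonObj.mul_comp, mul_comm y x]
  · rw [dlift_mul (toUnit A) θ x y (Subsingleton.elim _ _) (Subsingleton.elim _ _) (Subsingleton.elim _ _)]
    exact h.2.mul h'.2

theorem IsNormJ.bc {x : T ⟶ A} {β : thetaPts C Λ T} (h : IsNormJ θ x β) (g : U ⟶ T) :
    IsNormJ θ (g ≫ x) (AVThetaLib.bc g β) := by
  refine ⟨by rw [pt_bc, h.1, Category.assoc], ?_⟩
  rw [← bc_dlift (toUnit A) θ g x (Subsingleton.elim _ _) (Subsingleton.elim _ _)]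
  exact h.2.bc (by rw [h.1, pt_dlift]) g

include hΛ in
theorem exists_isNormJ {N : Over (Spec (CommRingCat.of k))} [GrpObj N] [IsFinite N.hom] (x : N ⟶ A) [IsMonHom x]
    (hx : MumfordZero hΛ (x ≫ jC)) : ∃ β, IsNormJ θ x β := by
  obtain ⟨β₀, hβ₀⟩ := exists_pts_of_finite hΛ (x ≫ jC) hx
  obtain ⟨α₀, hα₀, hp⟩ := exists_pushes β₀ x hβ₀
  obtain ⟨c, hc⟩ := exists_eq_mul_scal (AmpleDevLib.isInvertible_pb _ hΛ) (α := α₀)
    (α' := dlift (toUnit A) θ x (Subsingleton.elim _ _)) (by rw [hα₀, pt_dlift])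
  refine ⟨β₀ * scal C Λ N c, by rw [pt_mul, pt_scal, _root_.one_mul, hβ₀], ?_⟩
  rw [hc]
  exact hp.mul (pushes_scal c)

include hΛ in
/-- Descent along a surjection whose finite kernel lies in an abelian subvariety where the module is trivial. -/
theorem exists_descent_of_triv (htriv : pullA jC.left (clA hΛ) = 0) {D N : Over (Spec (CommRingCat.of k))}
    [GrpObj D] [IsProper D.hom] [GeometricallyIntegral D.hom] [GrpObj N] [IsFinite N.hom] {iN : N ⟶ A} [IsMonHom iN]
    (hmz : MumfordZero hΛ (iN ≫ jC)) {f : C ⟶ D} [IsMonHom f] [Surjective f.left]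
    (hN : AlgGrp.IsKernel (iN ≫ jC) f) :
    ∃ M : D.left.Modules, PicF.IsInvertible M ∧ Nonempty ((Scheme.Modules.pullback f.left).obj M ≅ Λ) := by
  obtain ⟨θ⟩ : Nonempty ((Scheme.Modules.pullback (toUnit A).left).obj
      (Coh.structureModule (𝟙_ (Over (Spec (CommRingCat.of k)))).left) ≅
      (Scheme.Modules.pullback jC.left).obj Λ) := (clA_eq_iff
        (AmpleDevLib.isInvertible_pb _ (isInvertible_one _)) (AmpleDevLib.isInvertible_pb _ hΛ)).1 (by
    rw [← pullA_clA _ (isInvertible_one _), ← pullA_clA _ hΛ, htriv, clA_one, map_zero])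
  obtain ⟨β₀, hβ₀⟩ := exists_isNormJ hΛ θ iN hmz
  obtain ⟨G, hGrp, u, hG⟩ := exists_isThetaGrpSch (L := Λ) hΛ
  obtain ⟨j, hj, -⟩ := hG.univ N β₀
  rw [isBaseChange_iff] at hj
  have key : ∀ (T : Over (Spec (CommRingCat.of k))) (y : T ⟶ N), IsNormJ θ (y ≫ iN) (AVThetaLib.bc (y ≫ j) u) := by
    intro T y
    rw [← bc_bc, ← hj]
    exact hβ₀.bc θ y
  haveI : IsMonHom j := isMonHom_of_mul j fun T x y => by
    refine (hG.univ T (AVThetaLib.bc ((x * y) ≫ j) u)).unique (isBaseChange_iff.2 rfl) ?_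
    have h1 := hG.mul T (x ≫ j) (y ≫ j) _ _ (isBaseChange_iff.2 (rfl : AVThetaLib.bc (x ≫ j) u = _))
      (isBaseChange_iff.2 (rfl : AVThetaLib.bc (y ≫ j) u = _))
    have h2 := (key T x).mul θ (key T y)
    rw [← MonObj.mul_comp] at h2
    rwa [(key T (x * y)).unique hΛ θ h2]
  exact exists_descent_of_lift (j := j) hN hΛ hG fun T n => ((key T n).1).trans (Category.assoc _ _ _)

end TateThmLib

end
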