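import Groth.Agent.CSALib.SepElem
import Groth.Agent.CSALib.SepCenter
import Mathlib.FieldTheory.Perfect

/-!
Semisimple algebras over perfect fields stay semisimple after extension of scalars; double centralizers.
-/

set_option autoImplicit false
set_option linter.style.haveILetI false

noncomputable section

open scoped TensorProduct

namespace TateThmLib

universe u v w

theorem isSeparable_center {k : Type u} [Field k] [PerfectField k] (A : Type v) [Ring A] [Algebra k A]
    [FiniteDimensional k A] [IsSemisimpleRing A] : Algebra.IsSeparable k (Subalgebra.center k A) := by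
  refine ⟨fun x => PerfectField.separable_iff_squarefree.mpr ?_⟩
  have hint : IsIntegral k x := Algebra.IsIntegral.isIntegral x
  rw [← (isRadical_iff_squarefree_of_ne_zero (minpoly.ne_zero hint))]
  intro n f hf
  rw [minpoly.dvd_iff] at hf ⊢
  rw [map_pow] at hf
  set y := Polynomial.aeval x f with hy
  -- the nilpotent central element vanishes
  have hn : IsNilpotent y := ⟨n, hf⟩
  have hA : IsNilpotent (y : A) := hn.map (Subalgebra.center k A).val
  have hc : (y : A) ∈ Subalgebra.center k A := y.2
  refine Subtype.ext ?_
  show (y : A) = 0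
  obtain ⟨e, he, hspan⟩ := IsSemisimpleRing.ideal_eq_span_idempotent (Ideal.span {(y : A)})
  obtain ⟨a, ha⟩ : ∃ a, a * (y : A) = e :=
    Ideal.mem_span_singleton'.1 (hspan ▸ Ideal.mem_span_singleton_self e)
  obtain ⟨b, hb⟩ : ∃ b, b * e = (y : A) :=
    Ideal.mem_span_singleton'.1 (hspan ▸ Ideal.mem_span_singleton_self (y : A))
  have hen : IsNilpotent e := ha ▸ Commute.isNilpotent_mul_left (Subalgebra.mem_center_iff.1 hc a) hA
  obtain ⟨m, hm⟩ := hen
  have he0 : e = 0 := by
    rcases m with _ | m
    · rw [pow_zero] at hm
      rw [← mul_one e, hm, mul_zero]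
    · rwa [he.pow_succ_eq] at hm
  rw [← hb, he0, mul_zero]

theorem isSemisimpleRing_baseChange {k : Type u} [Field k] [PerfectField k] (A : Type v) [Ring A] [Algebra k A]
    [FiniteDimensional k A] [IsSemisimpleRing A] (K : Type w) [Field K] [Algebra k K] :
    IsSemisimpleRing (K ⊗[k] A) := by
  haveI := isSeparable_center (k := k) A
  exact CSALib.isSemisimpleRing_baseChange_of_sepElem (CSALib.hasSepElem_semisimple A) K

theorem isSemisimpleRing_range {K : Type u} [Field K] {R : Type v} [Ring R] [Algebra K R] [IsSemisimpleRing R]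
    {S : Type w} [Ring S] [Algebra K S] (f : R →ₐ[K] S) : IsSemisimpleRing f.range :=
  RingHom.isSemisimpleRing_of_surjective f.rangeRestrict.toRingHom f.rangeRestrict_surjective

/-- The span of the image of a semisimple rational algebra is a semisimple subalgebra. -/
theorem exists_span_subalgebra {R : Type u} [Ring R] [Algebra ℚ R] [FiniteDimensional ℚ R]
    [IsSemisimpleRing R] {K : Type w} [Field K] [Algebra ℚ K] {S : Type v} [Ring S] [Algebra K S]
    [Algebra ℚ S] [IsScalarTower ℚ K S] (g : R →ₐ[ℚ] S) :
    ∃ E : Subalgebra K S, IsSemisimpleRing E ∧ ∀ u, u ∈ E ↔ u ∈ Submodule.span K (Set.range g) := by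
  haveI := isSemisimpleRing_baseChange (k := ℚ) R K
  let ψ : K ⊗[ℚ] R →ₐ[K] S :=
    Algebra.TensorProduct.lift (Algebra.ofId K _) g fun c x => Algebra.commutes c (g x)
  have hψ : ∀ (c : K) x, ψ (c ⊗ₜ x) = c • g x := fun c x => by
    rw [Algebra.smul_def]
    exact Algebra.TensorProduct.lift_tmul _ _ _ _ _
  refine ⟨ψ.range, isSemisimpleRing_range ψ, fun u => ⟨?_, fun hu => ?_⟩⟩
  · rintro ⟨z, rfl⟩
    show ψ z ∈ _
    induction z with
    | zero => rw [map_zero]; exact Submodule.zero_mem _
    | tmul c x =>
      rw [hψ]
      exact Submodule.smul_mem _ _ (Submodule.subset_span (Set.mem_range_self x))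
    | add x y hx hy => rw [map_add]; exact Submodule.add_mem _ hx hy
  · refine (Submodule.span_le (p := Subalgebra.toSubmodule ψ.range)).2 ?_ hu
    rintro _ ⟨y, rfl⟩
    exact ⟨1 ⊗ₜ y, show ψ _ = _ by rw [hψ, one_smul]⟩

/-- A semisimple algebra of endomorphisms is its own double centralizer. -/
theorem mem_of_commute_centralizer {K : Type u} [Field K] {V : Type v} [AddCommGroup V] [Module K V]
    [Module.Finite K V] (E : Subalgebra K (Module.End K V)) [IsSemisimpleRing E] (φ : Module.End K V)
    (h : ∀ d : Module.End K V, (∀ e ∈ E, d * e = e * d) → φ * d = d * φ) : φ ∈ E := by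
  classical
  obtain ⟨s, hs⟩ := Module.Finite.fg_top (R := K) (M := V)
  haveI : IsSemisimpleModule E V := inferInstance
  let toK : Module.End E V → Module.End K V := fun d =>
    { toFun := d
      map_add' := d.map_add
      map_smul' := fun c v => by
        have := d.map_smul (algebraMap K E c) v
        simpa [Subalgebra.smul_def] using this }
  let F : Module.End (Module.End E V) V :=
    { toFun := φ
      map_add' := φ.map_add
      map_smul' := fun d v => by
        have := LinearMap.congr_fun (h (toK d) (fun e he => LinearMap.ext fun w => by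
          have := d.map_smul (⟨e, he⟩ : E) w
          exact this)) v
        exact this }
  obtain ⟨r, hr⟩ := jacobson_density F s
  have : φ = (r : Module.End K V) := LinearMap.ext_on hs fun m hm => hr m hm
  exact this ▸ r.2

end TateThmLib

end
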