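import Groth.Agent.TateThmLib.Isog
import Groth.Agent.TateThmLib.SemisimpleBC
import Mathlib.LinearAlgebra.Matrix.Charpoly.Eigs
import Mathlib.RingTheory.AdjoinRoot

/-!
The endomorphism algebra of an abelian variety over a finite field: dimension and centre.
-/

set_option autoImplicit false
set_option maxHeartbeats 1000000
set_option maxRecDepth 8000
set_option backward.isDefEq.respectTransparency false
set_option linter.style.haveILetI false
set_option linter.unusedSectionVars false

noncomputable section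

universe u

open CategoryTheory CategoryTheory.Limits MonoidalCategory CartesianMonoidalCategory MonObj AlgebraicGeometry
open scoped TensorProduct
open Polynomial (aeval)
open UniqueFactorizationMonoid

namespace TateThmLib

section Alg

/-- A ring map carries the minimal polynomial to an annihilator. -/
theorem aeval_map_minpoly_of_hom {R : Type*} [Ring R] [Algebra ℚ R] {K S : Type*} [Field K] [Algebra ℚ K] [Ring S]
    [Algebra K S] (g : R →+* S) (x : R) (y : S) (hy : g x = y) :
    aeval y ((minpoly ℚ x).map (algebraMap ℚ K)) = 0 := by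
  rw [Polynomial.aeval_def, Polynomial.eval₂_map, Subsingleton.elim ((algebraMap K S).comp (algebraMap ℚ K))
    (g.comp (algebraMap ℚ R)), ← hy, ← Polynomial.hom_eval₂, ← Polynomial.aeval_def, minpoly.aeval, map_zero]

/-- A root of the characteristic polynomial is a root of every annihilating polynomial. -/
theorem eval_eq_zero_of_root {K V : Type*} [Field K] [AddCommGroup V] [Module K V] [FiniteDimensional K V]
    (f : Module.End K V) {q : Polynomial K} (hq : aeval f q = 0) {L : Type*} [Field L] [Algebra K L] {x : L}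
    (hx : x ∈ (f.charpoly.map (algebraMap K L)).roots) : (q.map (algebraMap K L)).eval x = 0 := by
  classical
  let b := Module.finBasis K V
  let M := (LinearMap.toMatrix b b f).map (algebraMap K L)
  haveI : Nontrivial L := inferInstance
  have h1 : x ∈ spectrum L M := by
    refine Matrix.mem_spectrum_of_isRoot_charpoly ?_
    rw [Matrix.charpoly_map, LinearMap.charpoly_toMatrix]
    exact (Polynomial.mem_roots'.1 hx).2
  have h2 : (q.map (algebraMap K L)).eval x ∈ spectrum L (aeval M (q.map (algebraMap K L))) :=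
    spectrum.subset_polynomial_aeval M (q.map (algebraMap K L)) ⟨x, h1, rfl⟩
  have h0 : aeval M (q.map (algebraMap K L)) = 0 := by
    rw [Polynomial.aeval_map_algebraMap, show M = (Algebra.ofId K L).mapMatrix (LinearMap.toMatrix b b f) from rfl,
      Polynomial.aeval_algHom_apply, aeval_toMatrix b f hq, map_zero]
  rw [h0] at h2
  haveI : Nonempty (Fin (Module.finrank K V)) := by
    by_contra hne
    haveI := not_nonempty_iff.1 hne
    rw [spectrum.of_subsingleton (R := L) M] at h1
    exact h1
  rwa [spectrum.zero_eq, Set.mem_singleton_iff] at h2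

/-- The dimension of the algebra generated by one element. -/
theorem finrank_adjoin_singleton {S : Type*} [Ring S] [Algebra ℚ S] {x : S} (hint : IsIntegral ℚ x) :
    Module.finrank ℚ (Algebra.adjoin ℚ {x}) = (minpoly ℚ x).natDegree := by
  let f : AdjoinRoot (minpoly ℚ x) →ₐ[ℚ] S :=
    Ideal.Quotient.liftₐ _ (aeval x) fun a ha => by
      obtain ⟨c, rfl⟩ := Ideal.mem_span_singleton.1 ha
      rw [map_mul, minpoly.aeval, MulZeroClass.zero_mul]
  have hinj : Function.Injective f := by
    refine (injective_iff_map_eq_zero f).2 fun a ha => ?_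
    obtain ⟨a, rfl⟩ := Ideal.Quotient.mk_surjective a
    exact Ideal.Quotient.eq_zero_iff_mem.2 (Ideal.mem_span_singleton.2 (minpoly.dvd ℚ x ha))
  have hr : f.range = Algebra.adjoin ℚ {x} := by
    rw [Algebra.adjoin_singleton_eq_range_aeval]
    refine le_antisymm (fun y ⟨a, ha⟩ => ?_) fun y ⟨a, ha⟩ => ⟨Ideal.Quotient.mk _ a, ha⟩
    obtain ⟨a, rfl⟩ := Ideal.Quotient.mk_surjective a
    exact ⟨a, ha⟩
  rw [← ((AlgEquiv.ofInjective f hinj).trans (Subalgebra.equivOfEq _ _ hr)).toLinearEquiv.finrank_eq,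
    (AdjoinRoot.powerBasis (minpoly.ne_zero hint)).finrank, AdjoinRoot.powerBasis_dim]

/-- Descent of membership along a linear map of full rank. -/
theorem mem_of_mem_span_image {K L : Type*} [Field K] [Field L] [Algebra K L] {E₀ M : Type*} [AddCommGroup E₀]
    [Module K E₀] [FiniteDimensional K E₀] [AddCommGroup M] [Module K M] [Module L M] [IsScalarTower K L M]
    (g : E₀ →ₗ[K] M) (hg : Function.Injective g)
    (hdim : Module.finrank L (Submodule.span L (Set.range g)) = Module.finrank K E₀) (S : Submodule K E₀) {x : E₀}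
    (hx : g x ∈ Submodule.span L (g '' (S : Set E₀))) : x ∈ S := by
  classical
  obtain ⟨S', hS'⟩ := S.exists_isCompl
  have hspan : ∀ U : Submodule K E₀, ∃ t : Finset M, t.card ≤ Module.finrank K U ∧
      Submodule.span L (g '' (U : Set E₀)) = Submodule.span L (t : Set M) := fun U => by
    let b := Module.finBasis K U
    refine ⟨Finset.univ.image fun i => g (b i), Finset.card_image_le.trans_eq (Fintype.card_fin _), ?_⟩
    refine le_antisymm (Submodule.span_le.2 ?_) (Submodule.span_mono ?_)
    · rintro _ ⟨u, hu, rfl⟩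
      have := congrArg (fun z : U => g z) (b.sum_repr ⟨u, hu⟩)
      simp only [AddSubmonoidClass.coe_finsetSum, SetLike.val_smul, map_sum, map_smul] at this
      rw [SetLike.mem_coe, ← this]
      refine Submodule.sum_mem _ fun i _ => ?_
      rw [← algebraMap_smul L]
      exact Submodule.smul_mem _ _ (Submodule.subset_span (by simp))
    · intro y hy
      simp only [Finset.coe_image, Finset.coe_univ, Set.image_univ, Set.mem_range] at hy
      obtain ⟨i, rfl⟩ := hy
      exact ⟨_, (b i).2, rfl⟩
  obtain ⟨t, ht, hts⟩ := hspan S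
  obtain ⟨t', ht', hts'⟩ := hspan S'
  let A := Submodule.span L (g '' (S : Set E₀))
  let B := Submodule.span L (g '' (S' : Set E₀))
  haveI : FiniteDimensional L A := by rw [show A = _ from hts]; exact FiniteDimensional.span_finset L t
  haveI : FiniteDimensional L B := by rw [show B = _ from hts']; exact FiniteDimensional.span_finset L t'
  have hsup : A ⊔ B = Submodule.span L (Set.range g) := by
    refine le_antisymm (sup_le (Submodule.span_mono (Set.image_subset_range _ _)) (Submodule.span_mono (Set.image_subset_range _ _)))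
      (Submodule.span_le.2 ?_)
    rintro _ ⟨z, rfl⟩
    obtain ⟨s, hs, s', hs', rfl⟩ := Submodule.mem_sup.1 (hS'.sup_eq_top ▸ Submodule.mem_top : z ∈ S ⊔ S')
    rw [map_add]
    exact Submodule.add_mem _ (Submodule.mem_sup_left (Submodule.subset_span ⟨s, hs, rfl⟩))
      (Submodule.mem_sup_right (Submodule.subset_span ⟨s', hs', rfl⟩))
  have hA : Module.finrank L A ≤ Module.finrank K S := by
    rw [show A = _ from hts]; exact (finrank_span_finset_le_card t).trans ht
  have hB : Module.finrank L B ≤ Module.finrank K S' := by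
    rw [show B = _ from hts']; exact (finrank_span_finset_le_card t').trans ht'
  have hAB : A ⊓ B = ⊥ := by
    have h := Submodule.finrank_sup_add_finrank_inf_eq A B
    rw [hsup, hdim, ← Submodule.finrank_add_eq_of_isCompl hS'] at h
    exact Submodule.finrank_eq_zero.1 (by omega)
  obtain ⟨s, hs, s', hs', rfl⟩ := Submodule.mem_sup.1 (hS'.sup_eq_top ▸ Submodule.mem_top : x ∈ S ⊔ S')
  have h0 : g s' ∈ A ⊓ B := ⟨by
    have := Submodule.sub_mem _ hx (Submodule.subset_span ⟨s, hs, rfl⟩ : g s ∈ A)
    rwa [map_add, add_sub_cancel_left] at this, Submodule.subset_span ⟨s', hs', rfl⟩⟩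
  rw [hAB, Submodule.mem_bot, ← map_zero g] at h0
  rw [hg h0, add_zero]
  exact hs

end Alg

section End

variable {k Ω : Type u} [Field k] [Finite k] [Field Ω] [Algebra k Ω] [IsAlgClosure k Ω] {l : ℕ} [Fact l.Prime]
  {A : Over (Spec (CommRingCat.of k))} [GrpObj A] [IsCommMonObj A] [IsProper A.hom] [GeometricallyIntegral A.hom]
  {πA : A ⟶ A} [IsMonHom πA] (hπA : IsFrob πA) (hl : (l : k) ≠ 0)

theorem finrank_end0 : Module.finrank ℚ (EndAV.End0 A) = Module.finrank ℤ (EndAV.Hom A A) := by
  haveI := AVAmpleLib.fg_hom_of_ext (k := k) (AlgebraicClosure k) A A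
  haveI := AVAmpleLib.isTorsionFree_hom (A := A) (B := A)
  haveI : Module.Free ℤ (EndAV.Hom A A) := Module.free_of_finite_type_torsion_free'
  exact Module.finrank_baseChange (R := ℚ) (S := ℤ) (M' := EndAV.Hom A A)

include hπA hl in
/-- The rational Tate representation of the endomorphism algebra. -/
theorem exists_rep :
    ∃ g : EndAV.End0 A →ₐ[ℚ] Module.End ℚ_[l] (VT A l (SGA7.pt (K := k) Ω)),
      (∀ φ, g (EndAV.toEnd0 φ) = endV A l (SGA7.pt (K := k) Ω) φ) ∧ Function.Injective g ∧
      Submodule.span ℚ_[l] (Set.range g) = kerL (VF l Ω πA) (VF l Ω πA) ∧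
      Module.finrank ℚ_[l] (Submodule.span ℚ_[l] (Set.range g)) = Module.finrank ℚ (EndAV.End0 A) := by
  obtain ⟨g, hg⟩ := exists_end0Rep l A (SGA7.pt (K := k) Ω)
  have hg1 : ∀ φ, g (EndAV.toEnd0 φ) = endV A l (SGA7.pt (K := k) Ω) φ := fun φ => by
    rw [EndAV.toEnd0_apply, hg, one_smul]
  have hspan : Submodule.span ℚ_[l] (Set.range g) = Submodule.span ℚ_[l] (homs l A Ω A) := by
    refine le_antisymm (Submodule.span_le.2 ?_) (Submodule.span_mono ?_)
    · rintro _ ⟨x, rfl⟩
      induction x using TensorProduct.induction_on with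
      | zero => rw [map_zero]; exact Submodule.zero_mem _
      | tmul q φ =>
        rw [hg, SetLike.mem_coe, ← algebraMap_smul ℚ_[l] q]
        exact Submodule.smul_mem _ _ (Submodule.subset_span ⟨φ, rfl⟩)
      | add x y hx hy => rw [map_add]; exact Submodule.add_mem _ hx hy
    · rintro _ ⟨φ, rfl⟩
      exact ⟨_, hg1 φ⟩
  refine ⟨g, hg1, (injective_iff_map_eq_zero g).2 fun x hx => ?_, by rw [hspan, span_homs_eq hπA hπA hl], by
    rw [hspan, finrank_span_homs Ω hl, finrank_end0]⟩
  obtain ⟨q, φ, rfl⟩ := AVAmpleLib.exists_tmul x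
  rw [hg] at hx
  rcases smul_eq_zero.1 hx with rfl | hφ
  · exact TensorProduct.zero_tmul _ _
  · rw [endV_injective (Ω := Ω) hl (hφ.trans (map_zero _).symm), TensorProduct.tmul_zero]

include hπA in
/-- The centre is generated by the Frobenius. -/
theorem mem_qadj_iff (x : EndAV.End0 A) :
    x ∈ EndAV.QAdj (EndAV.End.of πA) ↔ ∀ y, y * x = x * y := by
  obtain ⟨l, _, hl⟩ := AVAmpleLib.exists_prime_ne_zero k
  let Ω := AlgebraicClosure k
  obtain ⟨g, hg1, hginj, hspan, hdim⟩ := exists_rep (Ω := Ω) hπA hl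
  obtain ⟨_, _⟩ := free_finite (A := A) (Ω := Ω) hl
  have hgπ : g (EndAV.toEnd0 (EndAV.End.of πA)) = VF l Ω πA := hg1 _
  have hcommπ : ∀ y, y * EndAV.toEnd0 (EndAV.End.of πA) = EndAV.toEnd0 (EndAV.End.of πA) * y := fun y => hginj (by
    rw [map_mul, map_mul, hgπ]
    exact mem_kerL.1 (hspan ▸ Submodule.subset_span (Set.mem_range_self y)))
  constructor
  · intro hx y
    induction hx using Algebra.adjoin_induction with
    | mem z hz => rw [Set.mem_singleton_iff.1 hz]; exact hcommπ y
    | algebraMap r => exact (Algebra.commutes r y).symm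
    | add z w _ _ hz hw => rw [mul_add, add_mul, hz, hw]
    | mul z w _ _ hz hw => rw [← _root_.mul_assoc, hz, _root_.mul_assoc, hw, _root_.mul_assoc]
  · intro hx
    haveI := AVAmpleLib.fg_end A
    haveI : Module.Finite ℚ (EndAV.End0 A) := inferInstanceAs (Module.Finite ℚ (ℚ ⊗[ℤ] EndAV.End A))
    obtain ⟨hsq, hint⟩ : Squarefree (minpoly ℚ (EndAV.toEnd0 (EndAV.End.of πA))) ∧
        IsIntegral ℚ (EndAV.toEnd0 (EndAV.End.of πA)) := by
      obtain ⟨h, hle, happ⟩ := hπA
      exact AVAmpleLib.squarefree_minpoly_frob πA h hle happ Nat.card_pos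
    let Q := EndAV.QAdj (EndAV.End.of πA)
    haveI : IsSemisimpleRing Q := AVAmpleLib.isSemisimpleRing_adjoin _ hint hsq
    haveI : FiniteDimensional ℚ Q := FiniteDimensional.finiteDimensional_submodule (Subalgebra.toSubmodule Q)
    obtain ⟨E, hE, hmem⟩ := exists_span_subalgebra (R := ↥Q) (K := ℚ_[l]) (g.comp Q.val)
    have hFE : VF l Ω πA ∈ E := (hmem _).2 (Submodule.subset_span
      ⟨⟨_, Algebra.self_mem_adjoin_singleton ℚ _⟩, hgπ⟩)
    have hgx : g x ∈ E := mem_of_commute_centralizer E (g x) fun d hd => by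
      have hd' : d ∈ Submodule.span ℚ_[l] (Set.range g) := by rw [hspan, mem_kerL]; exact hd _ hFE
      clear hd
      induction hd' using Submodule.span_induction with
      | mem z hz => obtain ⟨y, rfl⟩ := hz; rw [← map_mul, ← map_mul, hx]
      | zero => rw [MulZeroClass.mul_zero, MulZeroClass.zero_mul]
      | add z w _ _ hz hw => rw [mul_add, add_mul, hz, hw]
      | smul a z _ hz => rw [mul_smul_comm, smul_mul_assoc, hz]
    have hgx' : g x ∈ Submodule.span ℚ_[l] (g.toLinearMap '' (Subalgebra.toSubmodule Q : Set (EndAV.End0 A))) := by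
      refine Submodule.span_mono ?_ ((hmem _).1 hgx)
      rintro _ ⟨z, rfl⟩
      exact ⟨z.1, z.2, rfl⟩
    exact mem_of_mem_span_image g.toLinearMap hginj hdim (Subalgebra.toSubmodule Q) hgx'

include hπA in
theorem center_eq : Subalgebra.center ℚ (EndAV.End0 A) = EndAV.QAdj (EndAV.End.of πA) :=
  SetLike.ext fun x => Subalgebra.mem_center_iff.trans (mem_qadj_iff hπA x).symm

include hπA in
/-- Commutativity of the endomorphism ring. -/
theorem qadj_eq_top_iff : EndAV.QAdj (EndAV.End.of πA) = ⊤ ↔ ∀ a b : EndAV.End A, a * b = b * a := by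
  constructor
  · intro h a b
    refine AVAmpleLib.toEnd0_injective (A := A) ?_
    rw [map_mul, map_mul]
    exact (mem_qadj_iff hπA _).1 (h ▸ Algebra.mem_top) _
  · intro h
    refine eq_top_iff.2 fun x _ => (mem_qadj_iff hπA x).2 fun y => ?_
    obtain ⟨q, φ, rfl⟩ := AVAmpleLib.exists_tmul x
    obtain ⟨r, ψ, rfl⟩ := AVAmpleLib.exists_tmul y
    rw [Algebra.TensorProduct.tmul_mul_tmul, Algebra.TensorProduct.tmul_mul_tmul, h φ ψ, mul_comm r q]

include hπA hl in
theorem aeval_minpoly_VF :
    aeval (VF l Ω πA) ((minpoly ℚ (EndAV.toEnd0 (EndAV.End.of πA))).map (algebraMap ℚ ℚ_[l])) = 0 := by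
  obtain ⟨g, hg, -, -, -⟩ := exists_rep (Ω := Ω) hπA hl
  refine aeval_map_minpoly_of_hom (K := ℚ_[l]) g.toRingHom (EndAV.toEnd0 (EndAV.End.of πA)) _ ?_
  exact hg _

variable {P : Polynomial ℤ} [Module.Free ℤ_[l] (AbDual.TateMod A l (SGA7.pt (K := k) Ω))]
  [Module.Finite ℤ_[l] (AbDual.TateMod A l (SGA7.pt (K := k) Ω))]
  (hP : (TF l Ω πA).charpoly = P.map (Int.castRingHom ℤ_[l]))

include hP in
theorem monic_PQ : (P.map (Int.castRingHom ℚ)).Monic :=
  (Polynomial.monic_of_injective (RingHom.injective_int (Int.castRingHom ℤ_[l]))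
    (hP ▸ LinearMap.charpoly_monic _)).map _

include hP hl in
theorem natDegree_PQ {g : ℕ} (hg : topologicalKrullDim A.left = (g : ℕ)) :
    (P.map (Int.castRingHom ℚ)).natDegree = 2 * g := by
  haveI : IsAlgClosed Ω := IsAlgClosure.isAlgClosed k
  rw [Polynomial.natDegree_map_eq_of_injective (RingHom.injective_int _),
    ← Polynomial.natDegree_map_eq_of_injective (RingHom.injective_int (Int.castRingHom ℤ_[l])) P, ← hP,
    LinearMap.charpoly_natDegree]
  exact (AVAmpleLib.tate_free_finite_finrank_ext Ω A hg l (natCast_Ω_ne_zero hl)).2.2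

include hP hπA hl in
theorem minpoly_dvd_PQ :
    minpoly ℚ (EndAV.toEnd0 (EndAV.End.of πA)) ∣ P.map (Int.castRingHom ℚ) := by
  haveI : IsAlgClosed Ω := IsAlgClosure.isAlgClosed k
  refine minpoly.dvd ℚ _ ?_
  rw [← algebraMap_int_eq, Polynomial.aeval_map_algebraMap, Polynomial.aeval_algHom_apply,
    AVAmpleLib.aeval_charpoly_eq_zero Ω l (natCast_Ω_ne_zero hl) (EndAV.End.of πA) hP, map_zero]

include hP in
theorem map_PQ {L : Type*} [Field L] [CharZero L] [Algebra ℚ_[l] L] :
    (VF l Ω πA).charpoly.map (algebraMap ℚ_[l] L) = (P.map (Int.castRingHom ℚ)).map (algebraMap ℚ L) := by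
  rw [charpoly_VF, hP, Polynomial.map_map, Polynomial.map_map, Polynomial.map_map]
  exact congrArg (fun f => P.map f) (Subsingleton.elim _ _)

include hP hπA hl in
theorem mem_factors_iff (Q : Polynomial ℚ) :
    Q ∈ normalizedFactors (minpoly ℚ (EndAV.toEnd0 (EndAV.End.of πA))) ↔
      Q ∈ normalizedFactors (P.map (Int.castRingHom ℚ)) := by
  classical
  have hint : IsIntegral ℚ (EndAV.toEnd0 (EndAV.End.of πA)) := by
    haveI := AVAmpleLib.fg_end A
    haveI : Module.Finite ℚ (EndAV.End0 A) := inferInstanceAs (Module.Finite ℚ (ℚ ⊗[ℤ] EndAV.End A))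
    exact IsIntegral.of_finite ℚ _
  have hm0 := minpoly.ne_zero hint
  have hP0 := (monic_PQ hP).ne_zero
  refine ⟨fun h => Multiset.subset_of_le ((dvd_iff_normalizedFactors_le_normalizedFactors hm0 hP0).1
    (minpoly_dvd_PQ hπA hl hP)) h, fun h => ?_⟩
  have hQ := irreducible_of_normalized_factor Q h
  rw [mem_normalizedFactors_iff' hm0]
  refine ⟨hQ, normalize_normalized_factor Q h, ?_⟩
  let L := AlgebraicClosure ℚ_[l]
  obtain ⟨x, hx⟩ := IsAlgClosed.exists_root (Q.map (algebraMap ℚ L)) (by
    rw [Polynomial.degree_map]; exact (Polynomial.degree_pos_of_irreducible hQ).ne')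
  have hxP : x ∈ ((VF l Ω πA).charpoly.map (algebraMap ℚ_[l] L)).roots := by
    rw [Polynomial.mem_roots ((LinearMap.charpoly_monic _).map _).ne_zero, map_PQ hP]
    exact hx.dvd (Polynomial.map_dvd _ (dvd_of_mem_normalizedFactors h))
  have h0 := eval_eq_zero_of_root (VF l Ω πA) (aeval_minpoly_VF hπA hl) hxP
  rw [Polynomial.map_map, Subsingleton.elim ((algebraMap ℚ_[l] L).comp (algebraMap ℚ ℚ_[l])) (algebraMap ℚ L)] at h0
  by_contra hnd
  obtain ⟨a, b, hab⟩ := hQ.coprime_iff_not_dvd.2 hnd
  have := congrArg (fun r => (r.map (algebraMap ℚ L)).eval x) hab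
  simp [hx.eq_zero, h0] at this

include hP hπA hl in
/-- The three dimensions in terms of the factorisation of the characteristic polynomial. -/
theorem finrank_end0_eq :
    Module.finrank ℚ (EndAV.End0 A) = ∑ Q ∈ (normalizedFactors (P.map (Int.castRingHom ℚ))).toFinset,
        (normalizedFactors (P.map (Int.castRingHom ℚ))).count Q *
          (normalizedFactors (P.map (Int.castRingHom ℚ))).count Q * Q.natDegree := by
  classical
  rw [finrank_end0, finrank_hom (Ω := Ω) hπA hπA hl (AlgebraicClosure ℚ_[l]), map_PQ hP]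
  exact sum_roots_eq _ (monic_PQ hP) (monic_PQ hP)

include hP hπA hl in
theorem finrank_qadj_eq :
    Module.finrank ℚ (EndAV.QAdj (EndAV.End.of πA)) =
      ∑ Q ∈ (normalizedFactors (P.map (Int.castRingHom ℚ))).toFinset, Q.natDegree := by
  classical
  obtain ⟨hsq, hint⟩ : Squarefree (minpoly ℚ (EndAV.toEnd0 (EndAV.End.of πA))) ∧
      IsIntegral ℚ (EndAV.toEnd0 (EndAV.End.of πA)) := by
    obtain ⟨h, hle, happ⟩ := hπA
    exact AVAmpleLib.squarefree_minpoly_frob πA h hle happ Nat.card_pos
  have hnd := (squarefree_iff_nodup_normalizedFactors (minpoly.ne_zero hint)).1 hsq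
  rw [finrank_adjoin_singleton hint, card_eq_sum (minpoly.monic hint),
    show (normalizedFactors (minpoly ℚ (EndAV.toEnd0 (EndAV.End.of πA)))).toFinset =
      (normalizedFactors (P.map (Int.castRingHom ℚ))).toFinset from
      Finset.ext fun Q => by rw [Multiset.mem_toFinset, Multiset.mem_toFinset, mem_factors_iff hπA hl hP]]
  refine Finset.sum_congr rfl fun Q hQ => ?_
  rw [Multiset.mem_toFinset, ← mem_factors_iff hπA hl hP] at hQ
  rw [Multiset.count_eq_one_of_mem hnd hQ, _root_.one_mul]

end End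

end TateThmLib

end
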