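import Groth.Agent.TateThmLib.TateHom
import Groth.Agent.WeilLib.Frob
import Mathlib.FieldTheory.Normal.Closure

/-!
The Galois action on Tate modules over a finite field is generated by the Frobenius endomorphism.
-/

set_option autoImplicit false
set_option maxHeartbeats 1000000
set_option maxRecDepth 8000
set_option backward.isDefEq.respectTransparency false
set_option linter.style.haveILetI false
set_option linter.unusedSectionVars false

noncomputable section

universe u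

open CategoryTheory CategoryTheory.Limits MonoidalCategory CartesianMonoidalCategory MonObj AlgebraicGeometry

namespace TateThmLib

variable {k : Type u} [Field k] {Ω : Type u} [Field Ω] [Algebra k Ω]

theorem galAct_mul (σ τ : Ω ≃ₐ[k] Ω) {X : Over (Spec (CommRingCat.of k))} (a : SGA7.pt (K := k) Ω ⟶ X) :
    SGA7.galAct (σ * τ) a = SGA7.galAct σ (SGA7.galAct τ a) := by
  show SGA7.specAut (σ * τ) ≫ a = SGA7.specAut σ ≫ SGA7.specAut τ ≫ a
  rw [← Category.assoc]
  congr 1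
  refine Over.OverMorphism.ext ?_
  show Spec.map (CommRingCat.ofHom ((σ * τ : Ω ≃ₐ[k] Ω) : Ω →+* Ω)) = Spec.map _ ≫ Spec.map _
  rw [← Spec.map_comp]
  rfl

theorem galAct_one {X : Over (Spec (CommRingCat.of k))} (a : SGA7.pt (K := k) Ω ⟶ X) :
    SGA7.galAct (1 : Ω ≃ₐ[k] Ω) a = a := by
  refine Over.OverMorphism.ext ?_
  show Spec.map (𝟙 (CommRingCat.of Ω)) ≫ a.left = a.left
  rw [Spec.map_id, Category.id_comp]

theorem galAct_injective (σ : Ω ≃ₐ[k] Ω) {X : Over (Spec (CommRingCat.of k))} :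
    Function.Injective (SGA7.galAct σ : (SGA7.pt (K := k) Ω ⟶ X) → _) := fun a b h => by
  rw [← galAct_one a, ← galAct_one b, ← inv_mul_cancel σ, galAct_mul, galAct_mul, h]

variable [Finite k]

variable (k Ω) in
/-- The arithmetic Frobenius of `Ω` over `k`. -/
def frobΩ [Algebra.IsAlgebraic k Ω] : Ω ≃ₐ[k] Ω :=
  letI := Fintype.ofFinite k
  FiniteField.frobeniusAlgEquivOfAlgebraic k Ω

theorem frobΩ_pow_apply [Algebra.IsAlgebraic k Ω] (j : ℕ) (r : Ω) : (frobΩ k Ω ^ j) r = r ^ Nat.card k ^ j := by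
  letI := Fintype.ofFinite k
  rw [AlgEquiv.coe_pow, Nat.card_eq_fintype_card]
  exact congrFun (FiniteField.coe_frobeniusAlgEquivOfAlgebraic_iterate k Ω j) r

theorem frobΩ_apply [Algebra.IsAlgebraic k Ω] (r : Ω) : frobΩ k Ω r = r ^ Nat.card k := by
  simpa using frobΩ_pow_apply (k := k) 1 r

variable {X : Over (Spec (CommRingCat.of k))}

/-- On geometric points the Frobenius endomorphism is the arithmetic Frobenius. -/
theorem comp_frob [Algebra.IsAlgebraic k Ω] (πX : X ⟶ X) (hπb : πX.left.base = 𝟙 _)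
    (hπle : ∀ U : X.left.Opens, U ≤ πX.left ⁻¹ᵁ U)
    (hπapp : ∀ (U : X.left.Opens) (s : Γ(X.left, U)), (πX.left.appLE U U (hπle U)).hom s = s ^ Nat.card k)
    (a : SGA7.pt (K := k) Ω ⟶ X) : a ≫ πX = SGA7.galAct (frobΩ k Ω) a := by
  have hb : ∀ x, πX.left x = x := fun x => by
    show πX.left.base x = x
    rw [hπb]; rfl
  let s := Scheme.SpecToEquivOfField Ω X.left a.left
  have ha : a.left = Spec.map (X.left.residue s.1 ≫ s.2) ≫ X.left.fromSpecStalk s.1 := by
    rw [Spec.map_comp, Category.assoc]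
    exact ((Scheme.SpecToEquivOfField Ω X.left).symm_apply_apply a.left).symm
  refine Over.OverMorphism.ext ?_
  show a.left ≫ πX.left = Spec.map (CommRingCat.ofHom ((frobΩ k Ω : Ω ≃ₐ[k] Ω) : Ω →+* Ω)) ≫ a.left
  rw [ha, WeilLib.comp_powEnd hb (fun x b => WeilLib.stk_pow hπle hπapp x (hb x) b) (X.left.residue s.1 ≫ s.2)
    (CommRingCat.ofHom ((frobΩ k Ω : Ω ≃ₐ[k] Ω) : Ω →+* Ω)) (fun r => frobΩ_apply r), Spec.map_comp, Category.assoc]

/-- The values of a point fixed by a power of the Frobenius lie in a finite field. -/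
theorem galAct_congr [Algebra.IsAlgebraic k Ω] {σ τ : Ω ≃ₐ[k] Ω} {N : ℕ}
    (hστ : ∀ r : Ω, r ^ Nat.card k ^ N = r → σ r = τ r) (a : SGA7.pt (K := k) Ω ⟶ X)
    (ha : SGA7.galAct (frobΩ k Ω ^ N) a = a) : SGA7.galAct σ a = SGA7.galAct τ a := by
  let s := Scheme.SpecToEquivOfField Ω X.left a.left
  have hal : a.left = Spec.map (X.left.residue s.1 ≫ s.2) ≫ X.left.fromSpecStalk s.1 := by
    rw [Spec.map_comp, Category.assoc]
    exact ((Scheme.SpecToEquivOfField Ω X.left).symm_apply_apply a.left).symm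
  have hfix : (X.left.residue s.1 ≫ s.2) ≫ CommRingCat.ofHom (((frobΩ k Ω ^ N : Ω ≃ₐ[k] Ω)) : Ω →+* Ω) =
      X.left.residue s.1 ≫ s.2 := by
    refine WeilLib.stalk_hom_ext ?_
    rw [Spec.map_comp, Category.assoc, ← hal]
    exact congrArg (fun b : SGA7.pt (K := k) Ω ⟶ X => b.left) ha
  refine Over.OverMorphism.ext ?_
  show Spec.map (CommRingCat.ofHom (σ : Ω →+* Ω)) ≫ a.left = Spec.map (CommRingCat.ofHom (τ : Ω →+* Ω)) ≫ a.left
  rw [hal, ← Category.assoc, ← Category.assoc, ← Spec.map_comp, ← Spec.map_comp]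
  congr 2
  refine CommRingCat.hom_ext (RingHom.ext fun b => hστ _ ?_)
  rw [← frobΩ_pow_apply]
  exact ConcreteCategory.congr_hom hfix b

/-- On a finite field every automorphism is a power of the Frobenius. -/
theorem exists_pow_eq_on [Algebra.IsAlgebraic k Ω] [Normal k Ω] (τ : Ω ≃ₐ[k] Ω) {N : ℕ} (hN : 0 < N) :
    ∃ j : ℕ, ∀ r : Ω, r ^ Nat.card k ^ N = r → τ r = (frobΩ k Ω ^ j) r := by
  letI := Fintype.ofFinite k
  have hq : 1 < Nat.card k ^ N := Nat.one_lt_pow hN.ne' Finite.one_lt_card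
  classical
  let S : Set Ω := {r | r ^ Nat.card k ^ N = r}
  have hS : S.Finite := by
    refine Set.Finite.subset (Polynomial.X ^ Nat.card k ^ N - Polynomial.X : Polynomial Ω).roots.toFinset.finite_toSet
      fun r hr => ?_
    rw [Finset.mem_coe, Multiset.mem_toFinset, Polynomial.mem_roots (FiniteField.X_pow_card_sub_X_ne_zero Ω hq)]
    simp only [Polynomial.IsRoot.def, Polynomial.eval_sub, Polynomial.eval_pow, Polynomial.eval_X, sub_eq_zero]
    exact hr
  haveI : Finite S := hS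
  let F := IntermediateField.normalClosure k (IntermediateField.adjoin k S) Ω
  haveI : Algebra.IsIntegral k Ω := Algebra.IsAlgebraic.isIntegral
  haveI : FiniteDimensional k (IntermediateField.adjoin k S) :=
    IntermediateField.finiteDimensional_adjoin fun x _ => Algebra.IsIntegral.isIntegral x
  haveI : Finite F := Module.finite_of_finite k
  obtain ⟨j, hj⟩ := (FiniteField.bijective_frobeniusAlgEquivOfAlgebraic_pow k F).2 (τ.restrictNormal F)
  refine ⟨j.1, fun r hr => ?_⟩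
  have hrF : r ∈ F := (IntermediateField.adjoin k S).le_normalClosure (IntermediateField.subset_adjoin k S hr)
  have h1 : τ (algebraMap F Ω ⟨r, hrF⟩) = algebraMap F Ω (τ.restrictNormal F ⟨r, hrF⟩) :=
    (τ.restrictNormal_commutes F ⟨r, hrF⟩).symm
  rw [← hj] at h1
  rw [frobΩ_pow_apply]
  refine h1.trans ?_
  show algebraMap F Ω ((FiniteField.frobeniusAlgEquivOfAlgebraic k F ^ j.1) ⟨r, hrF⟩) = _
  rw [AlgEquiv.coe_pow, FiniteField.coe_frobeniusAlgEquivOfAlgebraic_iterate, map_pow, Nat.card_eq_fintype_card]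
  rfl

section Tate

variable {l : ℕ} [Fact l.Prime] (A B : Over (Spec (CommRingCat.of k))) [GrpObj A] [IsCommMonObj A] [GrpObj B]
  [IsCommMonObj B]

theorem galT_pow (σ : Ω ≃ₐ[k] Ω) (j : ℕ) : galT A l (σ ^ j) = galT A l σ ^ j := by
  induction j with
  | zero =>
    refine LinearMap.ext fun x => AbDual.TateMod.ext fun n => ?_
    exact congrArg Additive.ofMul (galAct_one _)
  | succ j ih =>
    rw [pow_succ, pow_succ, ← ih]
    exact LinearMap.ext fun x => AbDual.TateMod.ext fun n => congrArg Additive.ofMul (galAct_mul _ _ _)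

theorem galT_frob [Algebra.IsAlgebraic k Ω] (πA : A ⟶ A) [IsMonHom πA] (hπb : πA.left.base = 𝟙 _)
    (hπle : ∀ U : A.left.Opens, U ≤ πA.left ⁻¹ᵁ U)
    (hπapp : ∀ (U : A.left.Opens) (s : Γ(A.left, U)), (πA.left.appLE U U (hπle U)).hom s = s ^ Nat.card k) :
    galT A l (frobΩ k Ω) = AbDual.tateMapₗ (l := l) (T := SGA7.pt (K := k) Ω) πA :=
  LinearMap.ext fun x => AbDual.TateMod.ext fun n =>
    congrArg Additive.ofMul (comp_frob πA hπb hπle hπapp _).symm

theorem finite_components [Module.Finite ℤ_[l] (AbDual.TateMod A l (SGA7.pt (K := k) Ω))] (n : ℕ) :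
    (Set.range (AbDual.TateMod.component A l (SGA7.pt (K := k) Ω) n)).Finite := by
  obtain ⟨r, b, hb⟩ := Submodule.fg_iff_exists_fin_generating_family.1
    (Module.Finite.fg_top (R := ℤ_[l]) (M := AbDual.TateMod A l (SGA7.pt (K := k) Ω)))
  refine (Set.finite_range fun c : Fin r → Fin (l ^ n) =>
    ∑ i, (c i).1 • AbDual.TateMod.component A l (SGA7.pt (K := k) Ω) n (b i)).subset ?_
  rintro _ ⟨x, rfl⟩
  obtain ⟨c, rfl⟩ := (Submodule.mem_span_range_iff_exists_fun ℤ_[l]).1 (hb ▸ Submodule.mem_top : x ∈ _)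
  refine ⟨fun i => ⟨(c i).appr n, PadicInt.appr_lt _ _⟩, ?_⟩
  rw [map_sum]
  exact Finset.sum_congr rfl fun i _ => (AbDual.smul_component _ _ _).symm

theorem exists_fixed [Algebra.IsAlgebraic k Ω] [Module.Finite ℤ_[l] (AbDual.TateMod A l (SGA7.pt (K := k) Ω))]
    [Module.Finite ℤ_[l] (AbDual.TateMod B l (SGA7.pt (K := k) Ω))] (n : ℕ) :
    ∃ N, 0 < N ∧ (∀ x : AbDual.TateMod A l (SGA7.pt (K := k) Ω), SGA7.galAct (frobΩ k Ω ^ N)
        (AbDual.TateMod.component A l (SGA7.pt (K := k) Ω) n x).toMul =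
          (AbDual.TateMod.component A l (SGA7.pt (K := k) Ω) n x).toMul) ∧
      ∀ x : AbDual.TateMod B l (SGA7.pt (K := k) Ω), SGA7.galAct (frobΩ k Ω ^ N)
        (AbDual.TateMod.component B l (SGA7.pt (K := k) Ω) n x).toMul =
          (AbDual.TateMod.component B l (SGA7.pt (K := k) Ω) n x).toMul := by
  haveI := (finite_components (Ω := Ω) (l := l) A n).to_subtype
  haveI := (finite_components (Ω := Ω) (l := l) B n).to_subtype
  let PA := Set.range (AbDual.TateMod.component A l (SGA7.pt (K := k) Ω) n)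
  let PB := Set.range (AbDual.TateMod.component B l (SGA7.pt (K := k) Ω) n)
  let act : ℕ → (PA → PA) × (PB → PB) := fun j =>
    ⟨fun a => ⟨Additive.ofMul (SGA7.galAct (frobΩ k Ω ^ j) a.1.toMul),
        by obtain ⟨x, hx⟩ := a.2; exact ⟨galT A l (frobΩ k Ω ^ j) x, by rw [← hx]; rfl⟩⟩,
      fun a => ⟨Additive.ofMul (SGA7.galAct (frobΩ k Ω ^ j) a.1.toMul),
        by obtain ⟨x, hx⟩ := a.2; exact ⟨galT B l (frobΩ k Ω ^ j) x, by rw [← hx]; rfl⟩⟩⟩
  obtain ⟨i, j, hne, hij⟩ := Finite.exists_ne_map_eq_of_infinite act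
  wlog hlt : i < j generalizing i j
  · exact this j i hne.symm hij.symm (lt_of_le_of_ne (not_lt.1 hlt) hne.symm)
  have key : ∀ {Z : Over (Spec (CommRingCat.of k))} (a : SGA7.pt (K := k) Ω ⟶ Z),
      SGA7.galAct (frobΩ k Ω ^ i) a = SGA7.galAct (frobΩ k Ω ^ j) a → SGA7.galAct (frobΩ k Ω ^ (j - i)) a = a :=
    fun a h => galAct_injective (frobΩ k Ω ^ i) (by rw [h, ← galAct_mul, ← pow_add, Nat.add_sub_cancel' hlt.le])
  exact ⟨j - i, Nat.sub_pos_of_lt hlt,
    fun x => key _ (congrArg (fun p => (p.1 ⟨_, x, rfl⟩).1.toMul) hij),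
    fun x => key _ (congrArg (fun p => (p.2 ⟨_, x, rfl⟩).1.toMul) hij)⟩

theorem exists_eq_smul_of_components {M : Type*} [AddCommGroup M] [Module ℤ_[l] M]
    [Module.Free ℤ_[l] M] (D : M →ₗ[ℤ_[l]] AbDual.TateMod A l (SGA7.pt (K := k) Ω)) (n : ℕ)
    (h : ∀ x, (D x : ℕ → Additive (SGA7.pt (K := k) Ω ⟶ A)) n = 0) : ∃ t, D = l ^ n • t := by
  choose t ht using fun x => exists_eq_smul_of_component_eq_zero (D x) n (h x)
  let b := Module.Free.chooseBasis ℤ_[l] M
  refine ⟨b.constr ℤ_[l] fun i => t (b i), b.ext fun i => ?_⟩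
  rw [LinearMap.smul_apply, Module.Basis.constr_basis]
  exact ht _

/-- The Galois action lies in the closure of the powers of the Frobenius, simultaneously for two abelian varieties. -/
theorem galT_mem_span [Algebra.IsAlgebraic k Ω] [Normal k Ω]
    [Module.Free ℤ_[l] (AbDual.TateMod A l (SGA7.pt (K := k) Ω))]
    [Module.Finite ℤ_[l] (AbDual.TateMod A l (SGA7.pt (K := k) Ω))]
    [Module.Free ℤ_[l] (AbDual.TateMod B l (SGA7.pt (K := k) Ω))]
    [Module.Finite ℤ_[l] (AbDual.TateMod B l (SGA7.pt (K := k) Ω))] (τ : Ω ≃ₐ[k] Ω) :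
    (galT A l τ, galT B l τ) ∈ Submodule.span ℤ_[l]
      (Set.range fun j : ℕ => (galT A l (frobΩ k Ω) ^ j, galT B l (frobΩ k Ω) ^ j)) := by
  refine mem_of_forall_mem_add_pow _ _ fun n => ?_
  obtain ⟨N, hN, hA, hB⟩ := exists_fixed (Ω := Ω) (l := l) A B n
  obtain ⟨j, hj⟩ := exists_pow_eq_on τ hN
  obtain ⟨t₁, ht₁⟩ := exists_eq_smul_of_components A (galT A l τ - galT A l (frobΩ k Ω ^ j)) n fun x =>
    sub_eq_zero.2 (congrArg Additive.ofMul (galAct_congr hj _ (hA x)))
  obtain ⟨t₂, ht₂⟩ := exists_eq_smul_of_components B (galT B l τ - galT B l (frobΩ k Ω ^ j)) n fun x =>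
    sub_eq_zero.2 (congrArg Additive.ofMul (galAct_congr hj _ (hB x)))
  refine ⟨_, Submodule.subset_span ⟨j, rfl⟩, (t₁, t₂), ?_⟩
  rw [Prod.smul_mk, ← ht₁, ← ht₂, galT_pow, galT_pow, Prod.mk_add_mk, add_sub_cancel, add_sub_cancel]

end Tate

theorem pow_commute {R M N : Type*} [CommRing R] [AddCommGroup M] [Module R M] [AddCommGroup N] [Module R N]
    (u : M →ₗ[R] N) (f : Module.End R M) (g : Module.End R N) (h : u ∘ₗ f = g ∘ₗ u) (j : ℕ) :
    u ∘ₗ (f ^ j) = (g ^ j) ∘ₗ u := by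
  induction j with
  | zero => rfl
  | succ j ih =>
    refine LinearMap.ext fun v => ?_
    rw [LinearMap.comp_apply, LinearMap.comp_apply, pow_succ, pow_succ, Module.End.mul_apply, Module.End.mul_apply,
      ← LinearMap.comp_apply u (f ^ j), ih, LinearMap.comp_apply, ← LinearMap.comp_apply u f, h, LinearMap.comp_apply]

end TateThmLib

end
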