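import Groth.Agent.TateThmLib.ZDescent
import Groth.Agent.AVThetaLib.RankKL
import Groth.Agent.AVThetaLib.QuotKernel
import Groth.Agent.AVThetaLib.PerpQuot
import Groth.Agent.AVAmpleLib.FiniteKL
import Groth.Agent.AVAmpleLib.Exist
import Groth.Agent.AVThetaLib.Radical
import Groth.Agent.AVThetaLib.SubPts
import Groth.Agent.NormDescLib.NormalOrFree
import Groth.Agent.S1535
import Groth.Agent.S2821

/-!
The quotient of a square by the graph of an endomorphism over `K(L)`, with a descended ample class.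
-/

set_option autoImplicit false
set_option maxHeartbeats 1000000
set_option maxRecDepth 8000
set_option backward.isDefEq.respectTransparency false
set_option linter.style.haveILetI false
set_option linter.unusedSectionVars false

noncomputable section

universe u

open CategoryTheory CategoryTheory.Limits MonoidalCategory CartesianMonoidalCategory MonObj AlgebraicGeometry
open CubeConsLib AVThetaLib ThetaGrp AVDualLib

namespace TateThmLib

variable {k : Type u} [Field k]

/-- An ample pullback along a finite surjection comes from an ample class. -/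
theorem isAmple_of_pullback {A B : Over (Spec (CommRingCat.of k))} [GrpObj B] [IsProper B.hom]
    [GeometricallyIntegral B.hom] (f : A ⟶ B) [IsFinite f.left] [Surjective f.left] {M : B.left.Modules}
    (hM : PicF.IsInvertible M) (h : CohB1.IsAmple ((Scheme.Modules.pullback f.left).obj M)) : CohB1.IsAmple M := by
  haveI : IsIntegral B.left := GeometricallyIntegral.isIntegral_of_subsingleton B.hom
  haveI : IsLocallyNoetherian B.left := LocallyOfFiniteType.isLocallyNoetherian B.hom
  haveI : CompactSpace B.left := QuasiCompact.compactSpace_of_compactSpace B.hom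
  haveI : IsNoetherian B.left := ⟨⟩
  letI : B.left.Over (Spec (CommRingCat.of k)) := ⟨B.hom⟩
  haveI : Smooth (B.left ↘ Spec (CommRingCat.of k)) := AVAmpleLib.smooth_hom B
  refine NormDescLib.isAmple_of_isAmple_pb_reduced f.left (fun x => Or.inl ?_) hM h
  haveI := Groth.Agent.S1535.result k B.left x
  obtain ⟨hd, hu⟩ := Groth.Agent.S2821.result (B.left.presheaf.stalk x)
  haveI := hd
  haveI := hu
  exact ⟨hd, inferInstance⟩

/-- The finite group `K(L)` of an ample module. -/
theorem exists_finite_KL {A : Over (Spec (CommRingCat.of k))} [GrpObj A] [IsProper A.hom] [GeometricallyIntegral A.hom]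
    {L : A.left.Modules} (hLa : CohB1.IsAmple L) :
    ∃ (K : Over (Spec (CommRingCat.of k))) (_ : GrpObj K) (iK : K ⟶ A) (_ : IsMonHom iK),
      IsKL A L iK ∧ IsFinite K.hom ∧ Mono iK := by
  haveI : IsCommMonObj A := isCommMonObj_field
  have hL := hLa.1
  obtain ⟨K, iK, hK⟩ := exists_isKL hL
  haveI := hK.closed
  haveI : IsFinite K.hom := AVAmpleLib.isFinite_of_mumfordTriv hL ((MiscFlat6.isRelAmple_iff_isAmple A.hom L).2 hLa) iK
    ((hK.univ K iK).2 ⟨𝟙 K, Category.id_comp iK⟩)
  haveI : Mono iK := Over.mono_of_mono_left _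
  obtain ⟨gK, hmK⟩ := exists_grpObj_sub iK
    (fun T => (hK.univ T _).1 ((mumfordTriv_iff hL _).2 (mumfordZero_one hL)))
    (fun T a b => factors_mul hL hK ⟨a, rfl⟩ ⟨b, rfl⟩) (fun T a => factors_inv hL hK ⟨a, rfl⟩)
  exact ⟨K, gK, iK, hmK, hK, inferInstance, inferInstance⟩

variable {B : Over (Spec (CommRingCat.of k))} [GrpObj B] [IsCommMonObj B] [IsProper B.hom] [GeometricallyIntegral B.hom]
  {L : B.left.Modules} (hL : PicF.IsInvertible L) {M : (B ⊗ B).left.Modules} (hM : PicF.IsInvertible M)
  (cM : ∀ {V : Over (Spec (CommRingCat.of k))} (g : V ⟶ B ⊗ B), P hM g = P hL (g ≫ fst B B) + P hL (g ≫ snd B B))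
  {α β : B ⟶ B} [IsMonHom α] [IsMonHom β]
  {K : Over (Spec (CommRingCat.of k))} [GrpObj K] [IsFinite K.hom] {iK : K ⟶ B} [IsMonHom iK] [Mono iK]

include cM in
theorem lam_prod {V : Over (Spec (CommRingCat.of k))} (f g : V ⟶ B ⊗ B) :
    lam hM f g = lam hL (f ≫ fst B B) (g ≫ fst B B) + lam hL (f ≫ snd B B) (g ≫ snd B B) := by
  simp only [CubeConsLib.lam, cM, MonObj.mul_comp]
  abel

include hL hM cM in
/-- The quotient by the graph of `α` over `K(L)`. -/
theorem exists_graph_quot (hK : IsKL B L iK)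
    (hadj : ∀ {V : Over (Spec (CommRingCat.of k))} (w a : V ⟶ B), lam hL (w ≫ α) a = lam hL w (a ≫ β))
    (hzero : MumfordZero hL (iK ≫ α)) (hkill : iK * (iK ≫ α ≫ β) = 1) :
    ∃ (Z : Over (Spec (CommRingCat.of k))) (_ : GrpObj Z) (_ : IsProper Z.hom) (_ : GeometricallyIntegral Z.hom)
      (π : B ⊗ B ⟶ Z) (_ : IsMonHom π) (_ : IsFinite π.left) (_ : Surjective π.left) (p : Z ⟶ B) (_ : IsMonHom p),
      π ≫ p = fst B B * (snd B B ≫ β) ∧ (∀ b s, π.left.finrank b = K.hom.finrank s) ∧
      ∃ (N : Z.left.Modules) (hN : PicF.IsInvertible N), pullA π.left (clA hN) = lam hM (𝟙 _) (𝟙 _) := by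
  haveI := proper_tensor B B
  haveI := geomInt_tensor B B
  haveI : IsCommMonObj (B ⊗ B) := isCommMonObj_field
  haveI := hK.closed
  let ι' : B ⟶ B ⊗ B := lift (𝟙 B) α
  haveI : IsMonHom ι' := isMonHom_of_mul _ fun T x y => by
    apply CartesianMonoidalCategory.hom_ext <;> simp [ι', MonObj.mul_comp]
  haveI : IsClosedImmersion ι'.left := by
    have e : ι'.left ≫ (fst B B).left = 𝟙 B.left := by
      rw [← Over.comp_left, lift_fst]
      rfl
    haveI : IsClosedImmersion (ι'.left ≫ (fst B B).left) := e ▸ inferInstance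
    haveI : IsSeparated (fst B B).left := by
      haveI : IsSeparated ((fst B B).left ≫ B.hom) := by rw [Over.w (fst B B)]; infer_instance
      exact IsSeparated.of_comp (fst B B).left B.hom
    exact IsClosedImmersion.of_comp ι'.left (fst B B).left
  let iG : K ⟶ B ⊗ B := iK ≫ ι'
  haveI : IsMonHom iG := inferInstanceAs (IsMonHom (iK ≫ ι'))
  haveI : IsClosedImmersion iG.left := by
    show IsClosedImmersion (iK.left ≫ ι'.left)
    infer_instance
  haveI : Mono iG := Over.mono_of_mono_left _
  obtain ⟨Z, hZg, π, hZp, hZi, hπm, hπs, hker⟩ := exists_quotient_kernel (B ⊗ B) iG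
  haveI := hZp
  haveI := hZi
  haveI := hπm
  haveI := hπs
  haveI : IsFinite π.left := isFinite_of_finite_isKernel hker
  haveI := AbSchLib.flat_of_surjective π
  have hK0 : MumfordZero hL iK := mumfordZero_of_factors hL hK ⟨𝟙 K, Category.id_comp _⟩
  have hG : MumfordZero hM iG := by
    have e1 := congrArg (pullA (fst B B ▷ K).left : PicA (B ⊗ K).left →+ PicA ((B ⊗ B) ⊗ K).left)
      ((Lam_eq_zero_iff hL iK).2 hK0)
    have e2 := congrArg (pullA (snd B B ▷ K).left : PicA (B ⊗ K).left →+ PicA ((B ⊗ B) ⊗ K).left)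
      ((Lam_eq_zero_iff hL (iK ≫ α)).2 hzero)
    rw [Lam, pullA_lam, map_zero, whiskerRight_fst, whiskerRight_snd_assoc] at e1 e2
    rw [← Lam_eq_zero_iff hM, Lam, lam_prod hL hM cM]
    simp only [iG, ι', Category.assoc, lift_fst, lift_snd, Category.comp_id]
    rw [e1, e2, add_zero]
  let φ : B ⊗ B ⟶ B := fst B B * (snd B B ≫ β)
  haveI : IsMonHom φ := isMonHom_of_mul _ fun T x y => by
    simp only [φ, MonObj.comp_mul, MonObj.mul_comp, ← Category.assoc]
    exact mul_mul_mul_comm _ _ _ _
  have hφ : ∀ {T : Over (Spec (CommRingCat.of k))} (a : T ⟶ B ⊗ B), a ≫ π = 1 → a ≫ φ = 1 := fun {T} a ha => by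
    obtain ⟨n, rfl⟩ := exists_lift_kernel hker a ha
    have : iG ≫ φ = 1 := by
      simp only [φ, iG, ι', MonObj.comp_mul, Category.assoc, lift_fst, lift_snd_assoc, Category.comp_id]
      exact hkill
    rw [Category.assoc, this, MonObj.comp_one]
  obtain ⟨p, hp, hπp⟩ := AVAmpleLib.exists_desc_flat π φ hφ
  haveI := hp
  refine ⟨Z, hZg, hZp, hZi, π, hπm, inferInstance, hπs, p, hp, hπp, fun b s =>
    (finrank_kernel hker (fun b' => AVAmpleLib.finrank_const π b' b) s).symm, ?_⟩
  refine exists_descended_square hM (B := B) hL (ι' := ι') (p := p) (fun {V} a w => ?_) hker hG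
    ⟨iK, rfl, hK0⟩
  rw [lam_prod hL hM cM]
  simp only [ι', Category.assoc, lift_fst, lift_snd, Category.comp_id]
  rw [hadj, ← lam_mul_right, lam_comm hL _ w]
  congr 1
  rw [hπp]
  simp [φ, MonObj.comp_mul]

end TateThmLib

end
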