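import Groth.Agent.TateThmLib.EndConseq
import Groth.Agent.AVAmpleLib.WeilField
import Groth.Agent.AVAmpleLib.FrobExist

/-!
Abelian varieties over a prime field whose endomorphism ring is the minimal central order of a set of Weil numbers.
-/

set_option autoImplicit false
set_option maxHeartbeats 1000000
set_option synthInstance.maxHeartbeats 200000
set_option maxRecDepth 8000
set_option backward.isDefEq.respectTransparency false
set_option linter.style.haveILetI false
set_option linter.unusedSectionVars false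

noncomputable section

universe u

open CategoryTheory CategoryTheory.Limits MonoidalCategory CartesianMonoidalCategory MonObj AlgebraicGeometry
open scoped TensorProduct
open Polynomial (aeval)
open UniqueFactorizationMonoid

namespace TateThmLib

namespace MinOrder

section Poly

variable {J : Type} [Fintype J] {K : J → Type} [∀ j, Field (K j)] [∀ j, CharZero (K j)] (ϖ : ∀ j, K j)

/-- The product of the minimal polynomials. -/
abbrev Pw : Polynomial ℤ := ∏ j, minpoly ℤ (ϖ j)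

theorem monic_Pw (hint : ∀ j, IsIntegral ℤ (ϖ j)) : (Pw ϖ).Monic :=
  Polynomial.monic_prod_of_monic _ _ fun j _ => minpoly.monic (hint j)

theorem squarefree_Pw (hint : ∀ j, IsIntegral ℤ (ϖ j)) (hinj : ∀ i j, minpoly ℤ (ϖ i) = minpoly ℤ (ϖ j) → i = j) :
    Squarefree ((Pw ϖ).map (Int.castRingHom ℚ)) ∧
      ∀ m : Polynomial ℚ, (∀ j, (minpoly ℤ (ϖ j)).map (Int.castRingHom ℚ) ∣ m) → (Pw ϖ).map (Int.castRingHom ℚ) ∣ m := by
  have hq : ∀ j, (minpoly ℤ (ϖ j)).map (Int.castRingHom ℚ) = minpoly ℚ (ϖ j) := fun j => by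
    rw [minpoly.isIntegrallyClosed_eq_field_fractions' ℚ (hint j), algebraMap_int_eq]
  have hirr : ∀ j, Irreducible ((minpoly ℤ (ϖ j)).map (Int.castRingHom ℚ)) := fun j => by
    rw [hq]; exact minpoly.irreducible (hint j).tower_top
  have hmon : ∀ j, ((minpoly ℤ (ϖ j)).map (Int.castRingHom ℚ)).Monic := fun j => (minpoly.monic (hint j)).map _
  have hco : Pairwise fun i j => IsCoprime ((minpoly ℤ (ϖ i)).map (Int.castRingHom ℚ))
      ((minpoly ℤ (ϖ j)).map (Int.castRingHom ℚ)) := fun i j hij =>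
    (hirr i).coprime_iff_not_dvd.2 fun hd => hij (hinj i j (Polynomial.map_injective _ (RingHom.injective_int _)
      (Polynomial.eq_of_monic_of_associated (hmon i) (hmon j) ((hirr i).associated_of_dvd (hirr j) hd))))
  rw [Polynomial.map_prod]
  refine ⟨?_, fun m hm => Finset.prod_dvd_of_coprime (fun i _ j _ h => hco h) fun j _ => hm j⟩
  exact (Polynomial.separable_prod hco fun j => (hirr j).separable).squarefree

theorem aeval_Pw (j : J) : aeval (ϖ j) (Pw ϖ) = 0 := by
  rw [map_prod]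
  exact Finset.prod_eq_zero (Finset.mem_univ j) (minpoly.aeval ℤ _)

end Poly

section

variable {k : Type u} [Field k] [Finite k] {p : ℕ} [Fact p.Prime]

/-- The Frobenius of the statements. -/
theorem isFrob (hk : Nat.card k = p) {A : Over (Spec (CommRingCat.of k))} (πA : A ⟶ A) (hb : πA.left.base = 𝟙 _)
    (hle : ∀ U : A.left.Opens, U ≤ πA.left ⁻¹ᵁ U)
    (happ : ∀ (U : A.left.Opens) (s : Γ(A.left, U)), (πA.left.appLE U U (hle U)).hom s = s ^ p) : IsFrob πA := by
  subst hk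
  exact ⟨hb, hle, happ⟩

theorem cast_p_eq_zero (hk : Nat.card k = p) : (p : k) = 0 := by
  haveI := Fintype.ofFinite k
  rw [← hk, Nat.card_eq_fintype_card]
  exact FiniteField.cast_card_eq_zero k

theorem isUnit_p (hk : Nat.card k = p) {l : ℕ} [Fact l.Prime] (hl : (l : k) ≠ 0) : IsUnit (p : ℤ_[l]) := by
  have hne : l ≠ p := fun h => hl (h ▸ cast_p_eq_zero hk)
  rw [PadicInt.isUnit_iff, PadicInt.norm_natCast_eq_one_iff]
  exact (Nat.coprime_primes (Fact.out) (Fact.out)).2 hne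

variable {J : Type} [Fintype J] {K : J → Type} [∀ j, Field (K j)] [∀ j, CharZero (K j)] {ϖ : ∀ j, K j}

variable (ϖ p) in
/-- The map from the polynomial ring whose image is the minimal central order. -/
abbrev Φ : MvPolynomial (Fin 2) ℤ →ₐ[ℤ] ((j : J) → K j) :=
  MvPolynomial.aeval ![fun j => ϖ j, fun j => (p : K j) / ϖ j]

variable {Aw : Over (Spec (CommRingCat.of k))} [GrpObj Aw] [IsCommMonObj Aw] [IsProper Aw.hom]
  [GeometricallyIntegral Aw.hom] {πw : Aw ⟶ Aw} [IsMonHom πw] (ρw : (Φ p ϖ).range ≃+* EndAV.End Aw)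
  (hρw : ρw ⟨Φ p ϖ (MvPolynomial.X 0), AlgHom.mem_range_self _ _⟩ = EndAV.End.of πw)

include ρw in
theorem comm_end (a b : EndAV.End Aw) : a * b = b * a := by
  obtain ⟨x, rfl⟩ := ρw.surjective a
  obtain ⟨y, rfl⟩ := ρw.surjective b
  rw [← map_mul, ← map_mul, mul_comm]

include hρw in
theorem aeval_eq_zero_iff (Q : Polynomial ℤ) : aeval (EndAV.End.of πw) Q = 0 ↔ ∀ j, aeval (ϖ j) Q = 0 := by
  set x : (Φ p ϖ).range := ⟨Φ p ϖ (MvPolynomial.X 0), AlgHom.mem_range_self _ _⟩ with hx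
  have h1 : aeval (EndAV.End.of πw) Q = ρw (aeval x Q) := by
    rw [← hρw]
    rw [Polynomial.aeval_def, Polynomial.aeval_def, show ρw (Polynomial.eval₂ (algebraMap ℤ _) x Q) =
      ρw.toRingHom (Polynomial.eval₂ (algebraMap ℤ _) x Q) from rfl, Polynomial.hom_eval₂]
    exact congrArg (fun f => Polynomial.eval₂ f _ Q) (Subsingleton.elim _ _)
  rw [h1, map_eq_zero_iff _ ρw.injective, ← Subtype.coe_inj]
  have h2 : ((aeval x Q : (Φ p ϖ).range) : (j : J) → K j) = aeval (Φ p ϖ (MvPolynomial.X 0)) Q :=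
    (Polynomial.aeval_algHom_apply ((Φ p ϖ).range.val) x Q).symm
  rw [h2, funext_iff]
  refine forall_congr' fun j => ?_
  have h3 : aeval (Φ p ϖ (MvPolynomial.X 0)) Q j = aeval (ϖ j) Q := by
    have := (Polynomial.aeval_algHom_apply (Pi.evalAlgHom ℤ K j) (Φ p ϖ (MvPolynomial.X 0)) Q).symm
    simpa using this
  rw [h3]
  rfl

include hρw in
theorem minpoly_piw (hint : ∀ j, IsIntegral ℤ (ϖ j)) (hinj : ∀ i j, minpoly ℤ (ϖ i) = minpoly ℤ (ϖ j) → i = j) :
    minpoly ℚ (EndAV.toEnd0 (EndAV.End.of πw)) = (Pw ϖ).map (Int.castRingHom ℚ) := by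
  haveI := finite_end0 Aw
  set e := EndAV.toEnd0 (EndAV.End.of πw)
  set m := minpoly ℚ e
  have hint' : IsIntegral ℚ e := IsIntegral.of_finite ℚ _
  have h1 : m ∣ (Pw ϖ).map (Int.castRingHom ℚ) := by
    refine minpoly.dvd ℚ _ ?_
    rw [← algebraMap_int_eq, Polynomial.aeval_map_algebraMap, Polynomial.aeval_algHom_apply,
      (aeval_eq_zero_iff ρw hρw _).2 (fun j => aeval_Pw ϖ j), map_zero]
  have h2 : (Pw ϖ).map (Int.castRingHom ℚ) ∣ m := (squarefree_Pw ϖ hint hinj).2 m fun j => by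
    obtain ⟨Q, hQ⟩ := IsLocalization.integerNormalization_map_to_map (nonZeroDivisors ℤ) m
    set Q' := IsLocalization.integerNormalization (nonZeroDivisors ℤ) m
    have h0 : aeval (EndAV.End.of πw) Q' = 0 := by
      refine AVAmpleLib.toEnd0_injective (A := Aw) ?_
      rw [map_zero, ← Polynomial.aeval_algHom_apply, ← Polynomial.aeval_map_algebraMap ℚ, hQ, map_zsmul,
        minpoly.aeval, smul_zero]
    have h3 : (minpoly ℤ (ϖ j)).map (Int.castRingHom ℚ) ∣ Q'.map (Int.castRingHom ℚ) :=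
      Polynomial.map_dvd _ (minpoly.isIntegrallyClosed_dvd (hint j) ((aeval_eq_zero_iff ρw hρw _).1 h0 j))
    rw [← algebraMap_int_eq] at h3 ⊢
    rw [hQ, Algebra.smul_def] at h3
    refine (IsUnit.dvd_mul_left ?_).1 h3
    rw [Polynomial.algebraMap_apply]
    exact Polynomial.isUnit_C.2 (isUnit_iff_ne_zero.2 (by simpa using nonZeroDivisors.coe_ne_zero Q))
  exact Polynomial.eq_of_monic_of_associated (minpoly.monic hint') ((monic_Pw ϖ hint).map _) (associated_of_dvd_dvd h1 h2)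

variable {l : ℕ} [Fact l.Prime] {Ω : Type u} [Field Ω] [Algebra k Ω] [IsAlgClosure k Ω]

include hρw in
/-- The characteristic polynomial of the Frobenius of the reference object. -/
theorem charpoly_minOrder (hπw : IsFrob πw) (hl : (l : k) ≠ 0) (hint : ∀ j, IsIntegral ℤ (ϖ j))
    (hinj : ∀ i j, minpoly ℤ (ϖ i) = minpoly ℤ (ϖ j) → i = j)
    [Module.Free ℤ_[l] (AbDual.TateMod Aw l (SGA7.pt (K := k) Ω))]
    [Module.Finite ℤ_[l] (AbDual.TateMod Aw l (SGA7.pt (K := k) Ω))] :
    (TF l Ω πw).charpoly = (Pw ϖ).map (Int.castRingHom ℤ_[l]) := by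
  haveI : IsAlgClosed Ω := IsAlgClosure.isAlgClosed k
  obtain ⟨g, hg⟩ := AVAmpleLib.exists_dim_field Aw
  obtain ⟨P, hPm, -, -, hP⟩ := AVAmpleLib.exists_charpoly_bc Ω Aw hg (EndAV.End.of πw)
  have hP : (TF l Ω πw).charpoly = P.map (Int.castRingHom ℤ_[l]) := hP l (natCast_Ω_ne_zero hl)
  have hPs : Squarefree (P.map (Int.castRingHom ℚ)) := (commutative_iff hπw hl hP hg).1.1 (comm_end ρw)
  have hm := minpoly_piw ρw hρw hint hinj
  have hnd₁ := (squarefree_iff_nodup_normalizedFactors (monic_PQ hP).ne_zero).1 hPs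
  have hnd₂ := (squarefree_iff_nodup_normalizedFactors ((monic_Pw ϖ hint).map _).ne_zero).1
    (squarefree_Pw ϖ hint hinj).1
  have he : normalizedFactors (P.map (Int.castRingHom ℚ)) = normalizedFactors ((Pw ϖ).map (Int.castRingHom ℚ)) := by
    classical
    refine Multiset.Nodup.ext hnd₁ hnd₂ |>.2 fun Q => ?_
    rw [← mem_factors_iff hπw hl hP, hm]
  have h3 := associated_iff_normalizedFactors_eq_normalizedFactors (monic_PQ hP).ne_zero ((monic_Pw ϖ hint).map _).ne_zero |>.2 he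
  rw [hP, Polynomial.map_injective (Int.castRingHom ℚ) (RingHom.injective_int _)
    (Polynomial.eq_of_monic_of_associated (monic_PQ hP) ((monic_Pw ϖ hint).map _) h3)]

include hρw in
/-- Roots and multiplicities. -/
theorem roots_nodup (hπw : IsFrob πw) (hl : (l : k) ≠ 0) (hint : ∀ j, IsIntegral ℤ (ϖ j))
    (hinj : ∀ i j, minpoly ℤ (ϖ i) = minpoly ℤ (ϖ j) → i = j)
    [Module.Free ℤ_[l] (AbDual.TateMod Aw l (SGA7.pt (K := k) Ω))]
    [Module.Finite ℤ_[l] (AbDual.TateMod Aw l (SGA7.pt (K := k) Ω))] (L : Type*) [Field L] [CharZero L]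
    [Algebra ℚ_[l] L] : ((VF l Ω πw).charpoly.map (algebraMap ℚ_[l] L)).roots.Nodup := by
  rw [map_PQ (charpoly_minOrder ρw hρw hπw hl hint hinj)]
  exact Polynomial.nodup_roots (PerfectField.separable_iff_squarefree.2 (squarefree_Pw ϖ hint hinj).1).map

theorem aeval_VF {A : Over (Spec (CommRingCat.of k))} [GrpObj A] [IsCommMonObj A] (πA : A ⟶ A) [IsMonHom πA]
    {P : Polynomial ℤ} (hP : aeval (EndAV.End.of πA) P = 0) :
    aeval (VF l Ω πA) (P.map (algebraMap ℤ ℚ_[l])) = 0 := by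
  rw [Polynomial.aeval_map_algebraMap]
  show aeval (endV A l (SGA7.pt (K := k) Ω) (EndAV.End.of πA)) P = 0
  rw [Polynomial.aeval_def, Subsingleton.elim (algebraMap ℤ _)
    ((endV A l (SGA7.pt (K := k) Ω)).comp (algebraMap ℤ (EndAV.End A))), ← Polynomial.hom_eval₂, ← Polynomial.aeval_def,
    hP, map_zero]

theorem aeval_TF {A : Over (Spec (CommRingCat.of k))} [GrpObj A] [IsCommMonObj A] (πA : A ⟶ A) [IsMonHom πA]
    {P : Polynomial ℤ} (hP : aeval (EndAV.End.of πA) P = 0) :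
    aeval (TF l Ω πA) (P.map (algebraMap ℤ ℤ_[l])) = 0 := by
  rw [Polynomial.aeval_map_algebraMap]
  show aeval (EndAV.End.tateRep (A := A) l (SGA7.pt (K := k) Ω) (EndAV.End.of πA)) P = 0
  rw [Polynomial.aeval_def, Subsingleton.elim (algebraMap ℤ _)
    ((EndAV.End.tateRep (A := A) l (SGA7.pt (K := k) Ω)).comp (algebraMap ℤ (EndAV.End A))), ← Polynomial.hom_eval₂,
    ← Polynomial.aeval_def, hP, map_zero]

include hρw in
/-- The rank of the homomorphisms into the reference object. -/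
theorem finrank_hom_minOrder (hπw : IsFrob πw) (hint : ∀ j, IsIntegral ℤ (ϖ j))
    (hinj : ∀ i j, minpoly ℤ (ϖ i) = minpoly ℤ (ϖ j) → i = j)
    {A : Over (Spec (CommRingCat.of k))} [GrpObj A] [IsCommMonObj A] [IsProper A.hom] [GeometricallyIntegral A.hom]
    {πA : A ⟶ A} [IsMonHom πA] (hπA : IsFrob πA) (hPA : aeval (EndAV.End.of πA) (Pw ϖ) = 0)
    {g : ℕ} (hg : topologicalKrullDim A.left = (g : ℕ)) :
    Module.finrank ℤ (EndAV.Hom A Aw) = 2 * g := by
  classical
  obtain ⟨l, _, hl⟩ := AVAmpleLib.exists_prime_ne_zero k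
  let Ω := AlgebraicClosure k
  obtain ⟨_, _⟩ := free_finite (A := A) (Ω := Ω) hl
  obtain ⟨_, _⟩ := free_finite (A := Aw) (Ω := Ω) hl
  let L := AlgebraicClosure ℚ_[l]
  rw [finrank_hom (Ω := Ω) hπA hπw hl L]
  rw [Multiset.map_congr rfl fun x hx => show ((VF l Ω πw).charpoly.map (algebraMap ℚ_[l] L)).roots.count x = 1 from ?_]
  · rw [Multiset.map_const', Multiset.sum_replicate, smul_eq_mul, _root_.mul_one,
      IsAlgClosed.card_roots_map_eq_natDegree_from_simpleRing, LinearMap.charpoly_natDegree, Module.finrank_baseChange]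
    exact (AVAmpleLib.tate_free_finite_finrank_ext Ω A hg l (natCast_Ω_ne_zero hl)).2.2
  · refine Multiset.count_eq_one_of_mem (roots_nodup ρw hρw hπw hl hint hinj L) ?_
    rw [Polynomial.mem_roots ((LinearMap.charpoly_monic _).map _).ne_zero,
      map_PQ (charpoly_minOrder ρw hρw hπw hl hint hinj), Polynomial.IsRoot.def]
    have h0 := eval_eq_zero_of_root (VF l Ω πA) (aeval_VF πA hPA) hx
    rw [Polynomial.map_map] at h0
    rw [Polynomial.map_map, Subsingleton.elim ((algebraMap ℚ L).comp (Int.castRingHom ℚ))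
      ((algebraMap ℚ_[l] L).comp (algebraMap ℤ ℚ_[l]))]
    exact h0

end

end MinOrder

end TateThmLib

end
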