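import Groth.Agent.TateThmLib.MinOrder
import Groth.Agent.TateThmLib.CyclicVec

/-!
The Tate module of an abelian variety with minimal central endomorphism ring is cyclic.
-/

set_option autoImplicit false
set_option maxHeartbeats 1000000
set_option synthInstance.maxHeartbeats 200000
set_option maxRecDepth 8000
set_option backward.isDefEq.respectTransparency false
set_option linter.style.haveILetI false
set_option linter.unusedSectionVars false

noncomputable section

universe u

open CategoryTheory CategoryTheory.Limits MonoidalCategory CartesianMonoidalCategory MonObj AlgebraicGeometry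
open scoped TensorProduct
open Polynomial (aeval)

namespace TateThmLib

namespace MinOrder

/-- A polynomial of small degree killing an endomorphism with simple eigenvalues is zero. -/
theorem eq_zero_of_roots_nodup {K V : Type*} [Field K] [AddCommGroup V] [Module K V] [FiniteDimensional K V]
    (f : Module.End K V) {L : Type*} [Field L] [IsAlgClosed L] [Algebra K L]
    (h : (f.charpoly.map (algebraMap K L)).roots.Nodup) {q : Polynomial K} (hd : q.natDegree < Module.finrank K V)
    (hq : aeval f q = 0) : q = 0 := by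
  classical
  by_contra hne
  have h0 : q.map (algebraMap K L) ≠ 0 := (Polynomial.map_ne_zero_iff (algebraMap K L).injective).2 hne
  have h1 : (f.charpoly.map (algebraMap K L)).roots ≤ (q.map (algebraMap K L)).roots :=
    (Multiset.le_iff_subset h).2 fun x hx => Polynomial.mem_roots'.2 ⟨h0, eval_eq_zero_of_root f hq hx⟩
  have h2 := (Multiset.card_le_card h1).trans (Polynomial.card_roots' _)
  rw [IsAlgClosed.card_roots_map_eq_natDegree_from_simpleRing, LinearMap.charpoly_natDegree, Polynomial.natDegree_map] at h2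
  omega

/-- An inverse up to a unit scalar of an endomorphism is a polynomial in it. -/
theorem mem_adjoin_of_mul_eq {R T : Type*} [CommRing R] [Nontrivial R] [AddCommGroup T] [Module R T] [Module.Free R T]
    [Module.Finite R T] (π v : Module.End R T) (c : R) (hc : IsUnit c) (h : π * v = c • 1) :
    v ∈ Algebra.adjoin R {π} := by
  classical
  have hu : IsUnit (LinearMap.det π) := by
    have := congrArg LinearMap.det h
    rw [map_mul, LinearMap.det_smul, map_one, _root_.mul_one] at this
    exact isUnit_of_mul_isUnit_left (this ▸ hc.pow _)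
  rw [LinearMap.det_eq_sign_charpoly_coeff] at hu
  obtain ⟨d, hd⟩ := isUnit_of_mul_isUnit_right hu
  have h0 := π.aeval_self_charpoly
  rw [← Polynomial.divX_mul_X_add π.charpoly, map_add, map_mul, Polynomial.aeval_X, Polynomial.aeval_C,
    Algebra.algebraMap_eq_smul_one, add_eq_zero_iff_eq_neg] at h0
  have h1 : aeval π π.charpoly.divX * (π * v) = -(π.charpoly.coeff 0 • v) := by
    rw [← _root_.mul_assoc, h0, neg_mul, smul_mul_assoc, _root_.one_mul]
  rw [h, mul_smul_comm, _root_.mul_one] at h1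
  have h2 : v = (-(↑d⁻¹ : R) * c) • aeval π π.charpoly.divX := by
    rw [mul_smul, h1, smul_neg, neg_smul, neg_neg, smul_smul, ← hd, Units.inv_mul, one_smul]
  rw [h2]
  exact Subalgebra.smul_mem _ (Polynomial.aeval_mem_adjoin_singleton R π) _

variable {k : Type u} [Field k] [Finite k] {p : ℕ} [Fact p.Prime] (hk : Nat.card k = p)
  {J : Type} [Fintype J] {K : J → Type} [∀ j, Field (K j)] [∀ j, CharZero (K j)] {ϖ : ∀ j, K j}
  (hint : ∀ j, IsIntegral ℤ (ϖ j)) (hinj : ∀ i j, minpoly ℤ (ϖ i) = minpoly ℤ (ϖ j) → i = j)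
  (hne : ∀ j, ϖ j ≠ 0)
  {Aw : Over (Spec (CommRingCat.of k))} [GrpObj Aw] [IsCommMonObj Aw] [IsProper Aw.hom]
  [GeometricallyIntegral Aw.hom] {πw : Aw ⟶ Aw} [IsMonHom πw] (hπw : IsFrob πw)
  (ρw : (Φ p ϖ).range ≃+* EndAV.End Aw)
  (hρw : ρw ⟨Φ p ϖ (MvPolynomial.X 0), AlgHom.mem_range_self _ _⟩ = EndAV.End.of πw)
  {l : ℕ} [Fact l.Prime] (hl : (l : k) ≠ 0) {Ω : Type u} [Field Ω] [Algebra k Ω] [IsAlgClosure k Ω]
  [Module.Free ℤ_[l] (AbDual.TateMod Aw l (SGA7.pt (K := k) Ω))]
  [Module.Finite ℤ_[l] (AbDual.TateMod Aw l (SGA7.pt (K := k) Ω))]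

include hk hne hρw hl in
/-- Endomorphisms act through polynomials in the Frobenius. -/
theorem tateRep_mem_adjoin (s : EndAV.End Aw) :
    EndAV.End.tateRep l (SGA7.pt (K := k) Ω) s ∈ Algebra.adjoin ℤ_[l] {TF l Ω πw} := by
  let ψ : MvPolynomial (Fin 2) ℤ →+* Module.End ℤ_[l] (AbDual.TateMod Aw l (SGA7.pt (K := k) Ω)) :=
    (EndAV.End.tateRep l (SGA7.pt (K := k) Ω)).comp (ρw.toRingHom.comp (Φ p ϖ).rangeRestrict.toRingHom)
  obtain ⟨r, rfl⟩ := ρw.surjective s
  obtain ⟨Q, rfl⟩ : ∃ Q, (Φ p ϖ).rangeRestrict Q = r := (Φ p ϖ).rangeRestrict_surjective r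
  show ψ Q ∈ _
  have hX0 : ψ (MvPolynomial.X 0) = TF l Ω πw :=
    (congrArg (EndAV.End.tateRep l (SGA7.pt (K := k) Ω)) hρw).trans rfl
  have hprod : (Φ p ϖ).rangeRestrict (MvPolynomial.X 0 * MvPolynomial.X 1) = (p : (Φ p ϖ).range) := by
    refine Subtype.ext (funext fun j => ?_)
    show Φ p ϖ (MvPolynomial.X 0 * MvPolynomial.X 1) j = _
    simp [mul_div_cancel₀ _ (hne j)]
  have hX1 : TF l Ω πw * ψ (MvPolynomial.X 1) = (p : ℤ_[l]) • 1 := by
    rw [← hX0, ← map_mul, show ψ (MvPolynomial.X 0 * MvPolynomial.X 1) =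
      EndAV.End.tateRep l (SGA7.pt (K := k) Ω) (ρw ((Φ p ϖ).rangeRestrict (MvPolynomial.X 0 * MvPolynomial.X 1))) from rfl,
      hprod, map_natCast, map_natCast, ← Algebra.algebraMap_eq_smul_one, map_natCast]
  induction Q using MvPolynomial.induction_on with
  | C a =>
    rw [show ψ (MvPolynomial.C a) = (a : Module.End ℤ_[l] _) from eq_intCast (ψ.comp MvPolynomial.C) a]
    exact intCast_mem _ a
  | add f g hf hg => rw [map_add]; exact add_mem hf hg
  | mul_X f i hf =>
    rw [map_mul]
    refine mul_mem hf ?_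
    fin_cases i
    · exact hX0 ▸ Algebra.self_mem_adjoin_singleton _ _
    · exact mem_adjoin_of_mul_eq _ _ _ (isUnit_p hk hl) hX1

include hk hint hinj hne hπw hρw hl in
/-- A generator of the Tate module over the polynomials in the Frobenius. -/
theorem exists_cyclic : ∃ (x : AbDual.TateMod Aw l (SGA7.pt (K := k) Ω))
    (bb : Module.Basis (Fin (Pw ϖ).natDegree) ℤ_[l] (AbDual.TateMod Aw l (SGA7.pt (K := k) Ω))),
    ∀ i : Fin (Pw ϖ).natDegree, bb i = (TF l Ω πw ^ (i : ℕ)) x := by
  have hP := charpoly_minOrder (l := l) (Ω := Ω) ρw hρw hπw hl hint hinj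
  have hn : Module.finrank ℤ_[l] (AbDual.TateMod Aw l (SGA7.pt (K := k) Ω)) = (Pw ϖ).natDegree := by
    rw [← LinearMap.charpoly_natDegree (TF l Ω πw), hP, Polynomial.natDegree_map_eq_of_injective (RingHom.injective_int _)]
  refine exists_cyclic_lattice PadicInt.maximalIdeal_eq_span_p (Nat.cast_ne_zero.2 (Fact.out : l.Prime).ne_zero) (TF l Ω πw) hn
    (fun q hd hq => ?_) fun u hu => ?_
  · refine Polynomial.map_injective _ (IsFractionRing.injective ℤ_[l] ℚ_[l]) ?_
    rw [Polynomial.map_zero]
    refine eq_zero_of_roots_nodup (VF l Ω πw) (L := AlgebraicClosure ℚ_[l]) (roots_nodup ρw hρw hπw hl hint hinj _) ?_ ?_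
    · rw [Polynomial.natDegree_map_eq_of_injective (IsFractionRing.injective ℤ_[l] ℚ_[l]), Module.finrank_baseChange, hn]
      exact hd
    · rw [Polynomial.aeval_map_algebraMap]
      refine (Polynomial.aeval_algHom_apply (Module.End.baseChangeHom ℤ_[l] ℚ_[l] _) (TF l Ω πw) q).trans ?_
      rw [hq, map_zero]
  · have h := (span_hom_iff hπw hπw hl u).2 hu
    clear hu
    induction h using Submodule.span_induction with
    | mem z hz => obtain ⟨f, rfl⟩ := hz; exact tateRep_mem_adjoin hk hne ρw hρw hl f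
    | zero => exact zero_mem _
    | add a b _ _ ha hb => exact add_mem ha hb
    | smul a z _ hz => exact Subalgebra.smul_mem _ hz a

end MinOrder

end TateThmLib

end
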