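import Groth.Agent.TateThmLib.ZDescent
import Mathlib.NumberTheory.SumFourSquares
import Mathlib.Tactic.Module

/-!
The integral quaternion endomorphism of the fourth power, over any field.
-/

set_option autoImplicit false
set_option maxHeartbeats 1000000
set_option maxRecDepth 8000
set_option backward.isDefEq.respectTransparency false
set_option linter.style.haveILetI false
set_option linter.unusedSectionVars false

noncomputable section

universe u

open CategoryTheory CategoryTheory.Limits MonoidalCategory CartesianMonoidalCategory MonObj AlgebraicGeometry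
open CubeConsLib AVThetaLib ThetaGrp
open AVDualLib (Lam Lam_eq_zero_iff lam_mul_right)

namespace TateThmLib.Zar

variable {k : Type u} [Field k]

theorem comp_zpow' {V W A : Over (Spec (CommRingCat.of k))} [GrpObj A] (g : W ⟶ V) (f : V ⟶ A) (n : ℤ) :
    g ≫ f ^ n = (g ≫ f) ^ n :=
  map_zpow (MonoidHom.mk' (fun x : V ⟶ A => g ≫ x) (MonObj.comp_mul g)) f n

section Quat

variable (A : Over (Spec (CommRingCat.of k))) [GrpObj A] [IsProper A.hom] [GeometricallyIntegral A.hom]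

/-- The fourth power. -/
abbrev A4 : Over (Spec (CommRingCat.of k)) := A ⊗ A ⊗ A ⊗ A

abbrev q0 : A4 A ⟶ A := fst _ _
abbrev q1 : A4 A ⟶ A := snd _ _ ≫ fst _ _
abbrev q2 : A4 A ⟶ A := snd _ _ ≫ snd _ _ ≫ fst _ _
abbrev q3 : A4 A ⟶ A := snd _ _ ≫ snd _ _ ≫ snd _ _

theorem hom_ext4 {V : Over (Spec (CommRingCat.of k))} {f g : V ⟶ A4 A} (h0 : f ≫ q0 A = g ≫ q0 A)
    (h1 : f ≫ q1 A = g ≫ q1 A) (h2 : f ≫ q2 A = g ≫ q2 A) (h3 : f ≫ q3 A = g ≫ q3 A) : f = g := by
  refine CartesianMonoidalCategory.hom_ext _ _ h0 (CartesianMonoidalCategory.hom_ext _ _ ?_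
    (CartesianMonoidalCategory.hom_ext _ _ ?_ ?_))
  · rw [Category.assoc, Category.assoc]; exact h1
  · rw [Category.assoc, Category.assoc, Category.assoc, Category.assoc]; exact h2
  · rw [Category.assoc, Category.assoc, Category.assoc, Category.assoc]; exact h3

/-- An integral combination of the projections. -/
def comb (a b c d : ℤ) : A4 A ⟶ A := q0 A ^ a * q1 A ^ b * q2 A ^ c * q3 A ^ d

theorem comp_comb {V : Over (Spec (CommRingCat.of k))} (g : V ⟶ A4 A) (a b c d : ℤ) :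
    g ≫ comb A a b c d = (g ≫ q0 A) ^ a * (g ≫ q1 A) ^ b * (g ≫ q2 A) ^ c * (g ≫ q3 A) ^ d := by
  rw [comb, MonObj.comp_mul, MonObj.comp_mul, MonObj.comp_mul, comp_zpow', comp_zpow', comp_zpow', comp_zpow']

/-- Left multiplication by an integral quaternion. -/
def quat (a b c d : ℤ) : A4 A ⟶ A4 A :=
  lift (comb A a (-b) (-c) (-d)) (lift (comb A b a (-d) c) (lift (comb A c d a (-b)) (comb A d (-c) b a)))

theorem quat_q (a b c d : ℤ) : quat A a b c d ≫ q0 A = comb A a (-b) (-c) (-d) ∧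
    quat A a b c d ≫ q1 A = comb A b a (-d) c ∧ quat A a b c d ≫ q2 A = comb A c d a (-b) ∧
    quat A a b c d ≫ q3 A = comb A d (-c) b a := by
  refine ⟨?_, ?_, ?_, ?_⟩ <;> simp [quat]

theorem mul_q {V : Over (Spec (CommRingCat.of k))} (x y : V ⟶ A4 A) :
    (x * y) ≫ q0 A = (x ≫ q0 A) * (y ≫ q0 A) ∧ (x * y) ≫ q1 A = (x ≫ q1 A) * (y ≫ q1 A) ∧
    (x * y) ≫ q2 A = (x ≫ q2 A) * (y ≫ q2 A) ∧ (x * y) ≫ q3 A = (x ≫ q3 A) * (y ≫ q3 A) := by
  refine ⟨?_, ?_, ?_, ?_⟩ <;> simp [MonObj.mul_comp, ← Category.assoc]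

instance isMonHom_quat [IsCommMonObj A] (a b c d : ℤ) : IsMonHom (quat A a b c d) := by
  refine isMonHom_of_mul _ fun T x y => ?_
  obtain ⟨h0, h1, h2, h3⟩ := quat_q A a b c d
  obtain ⟨m0, m1, m2, m3⟩ := mul_q A x y
  obtain ⟨n0, n1, n2, n3⟩ := mul_q A (x ≫ quat A a b c d) (y ≫ quat A a b c d)
  apply hom_ext4 <;>
    simp only [n0, n1, n2, n3, Category.assoc, h0, h1, h2, h3, comp_comb, m0, m1, m2, m3, mul_zpow] <;>
    ac_rfl

end Quat

/-- The four-square identity for a bilinear form. -/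
theorem quat_form {G : Type*} [AddCommGroup G] (v00 v01 v02 v03 v10 v11 v12 v13 v20 v21 v22 v23 v30 v31 v32 v33 : G)
    (a b c d : ℤ) :
    (a • (a • v00 + (-b) • v01 + (-c) • v02 + (-d) • v03) + (-b) • (a • v10 + (-b) • v11 + (-c) • v12 + (-d) • v13) +
      (-c) • (a • v20 + (-b) • v21 + (-c) • v22 + (-d) • v23) + (-d) • (a • v30 + (-b) • v31 + (-c) • v32 + (-d) • v33)) +
    (b • (b • v00 + a • v01 + (-d) • v02 + c • v03) + a • (b • v10 + a • v11 + (-d) • v12 + c • v13) +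
      (-d) • (b • v20 + a • v21 + (-d) • v22 + c • v23) + c • (b • v30 + a • v31 + (-d) • v32 + c • v33)) +
    (c • (c • v00 + d • v01 + a • v02 + (-b) • v03) + d • (c • v10 + d • v11 + a • v12 + (-b) • v13) +
      a • (c • v20 + d • v21 + a • v22 + (-b) • v23) + (-b) • (c • v30 + d • v31 + a • v32 + (-b) • v33)) +
    (d • (d • v00 + (-c) • v01 + b • v02 + a • v03) + (-c) • (d • v10 + (-c) • v11 + b • v12 + a • v13) +
      b • (d • v20 + (-c) • v21 + b • v22 + a • v23) + a • (d • v30 + (-c) • v31 + b • v32 + a • v33)) =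
    (a ^ 2 + b ^ 2 + c ^ 2 + d ^ 2) • (v00 + v11 + v22 + v33) := by
  module

section Lam

variable {A : Over (Spec (CommRingCat.of k))} [GrpObj A] [IsCommMonObj A] [IsProper A.hom]
  [GeometricallyIntegral A.hom] {L : A.left.Modules} (hL : PicF.IsInvertible L) {V : Over (Spec (CommRingCat.of k))}

theorem lam_zpow_left (f g : V ⟶ A) (n : ℤ) :
    CubeConsLib.lam hL (f ^ n) g = n • CubeConsLib.lam hL f g :=
  map_zsmul (AddMonoidHom.mk' (fun x : Additive (V ⟶ A) => CubeConsLib.lam hL x.toMul g)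
    fun x y => lam_mul_left hL x.toMul y.toMul g) n (Additive.ofMul f)

theorem lam_zpow_right (f g : V ⟶ A) (n : ℤ) :
    CubeConsLib.lam hL f (g ^ n) = n • CubeConsLib.lam hL f g := by
  rw [lam_comm, lam_zpow_left, lam_comm]

theorem lam_word (f g₀ g₁ g₂ g₃ : V ⟶ A) (a b c d : ℤ) :
    CubeConsLib.lam hL f (g₀ ^ a * g₁ ^ b * g₂ ^ c * g₃ ^ d) =
      a • CubeConsLib.lam hL f g₀ + b • CubeConsLib.lam hL f g₁ + c • CubeConsLib.lam hL f g₂ +
        d • CubeConsLib.lam hL f g₃ := by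
  rw [lam_mul_right, lam_mul_right, lam_mul_right, lam_zpow_right, lam_zpow_right, lam_zpow_right, lam_zpow_right]

theorem lam_word_word (f₀ f₁ f₂ f₃ g₀ g₁ g₂ g₃ : V ⟶ A) (a b c d : ℤ) :
    CubeConsLib.lam hL (f₀ ^ a * f₁ ^ b * f₂ ^ c * f₃ ^ d) (g₀ ^ a * g₁ ^ b * g₂ ^ c * g₃ ^ d) =
      a • (a • CubeConsLib.lam hL f₀ g₀ + b • CubeConsLib.lam hL f₀ g₁ + c • CubeConsLib.lam hL f₀ g₂ +
        d • CubeConsLib.lam hL f₀ g₃) +
      b • (a • CubeConsLib.lam hL f₁ g₀ + b • CubeConsLib.lam hL f₁ g₁ + c • CubeConsLib.lam hL f₁ g₂ +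
        d • CubeConsLib.lam hL f₁ g₃) +
      c • (a • CubeConsLib.lam hL f₂ g₀ + b • CubeConsLib.lam hL f₂ g₁ + c • CubeConsLib.lam hL f₂ g₂ +
        d • CubeConsLib.lam hL f₂ g₃) +
      d • (a • CubeConsLib.lam hL f₃ g₀ + b • CubeConsLib.lam hL f₃ g₁ + c • CubeConsLib.lam hL f₃ g₂ +
        d • CubeConsLib.lam hL f₃ g₃) := by
  rw [lam_mul_left, lam_mul_left, lam_mul_left, lam_zpow_left, lam_zpow_left, lam_zpow_left, lam_zpow_left,
    lam_word, lam_word, lam_word, lam_word]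

end Lam

section Sum

variable {A : Over (Spec (CommRingCat.of k))} [GrpObj A] [IsCommMonObj A] [IsProper A.hom]
  [GeometricallyIntegral A.hom] {L : A.left.Modules} (hL : PicF.IsInvertible L) {M : (A4 A).left.Modules}
  (hM : PicF.IsInvertible M)
  (cM : ∀ {V : Over (Spec (CommRingCat.of k))} (g : V ⟶ A4 A),
    P hM g = P hL (g ≫ q0 A) + P hL (g ≫ q1 A) + P hL (g ≫ q2 A) + P hL (g ≫ q3 A))

include cM in
theorem lam_sum {V : Over (Spec (CommRingCat.of k))} (f g : V ⟶ A4 A) :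
    CubeConsLib.lam hM f g = CubeConsLib.lam hL (f ≫ q0 A) (g ≫ q0 A) + CubeConsLib.lam hL (f ≫ q1 A) (g ≫ q1 A) +
      CubeConsLib.lam hL (f ≫ q2 A) (g ≫ q2 A) + CubeConsLib.lam hL (f ≫ q3 A) (g ≫ q3 A) := by
  obtain ⟨m0, m1, m2, m3⟩ := mul_q A f g
  rw [CubeConsLib.lam, CubeConsLib.lam, CubeConsLib.lam, CubeConsLib.lam, CubeConsLib.lam, cM, cM, cM, m0, m1, m2, m3]
  abel

include cM in
theorem mumfordZero_sum_iff {T : Over (Spec (CommRingCat.of k))} (x : T ⟶ A4 A) :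
    MumfordZero hM x ↔ MumfordZero hL (x ≫ q0 A) ∧ MumfordZero hL (x ≫ q1 A) ∧ MumfordZero hL (x ≫ q2 A) ∧
      MumfordZero hL (x ≫ q3 A) := by
  haveI := proper_tensor A A
  haveI := geomInt_tensor A A
  haveI := proper_tensor A (A ⊗ A)
  haveI := geomInt_tensor A (A ⊗ A)
  haveI := proper_tensor A (A ⊗ A ⊗ A)
  haveI := geomInt_tensor A (A ⊗ A ⊗ A)
  rw [← Lam_eq_zero_iff hM, ← Lam_eq_zero_iff hL, ← Lam_eq_zero_iff hL, ← Lam_eq_zero_iff hL, ← Lam_eq_zero_iff hL,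
    Lam, lam_sum hL hM cM]
  simp only [Category.assoc]
  constructor
  · intro h
    have key : ∀ j : A ⟶ A4 A,
        CubeConsLib.lam hL (fst A T ≫ j ≫ q0 A) (snd A T ≫ x ≫ q0 A) +
        CubeConsLib.lam hL (fst A T ≫ j ≫ q1 A) (snd A T ≫ x ≫ q1 A) +
        CubeConsLib.lam hL (fst A T ≫ j ≫ q2 A) (snd A T ≫ x ≫ q2 A) +
        CubeConsLib.lam hL (fst A T ≫ j ≫ q3 A) (snd A T ≫ x ≫ q3 A) = 0 := fun j => by
      have h' := congrArg (pullA (j ▷ T).left : PicA (A4 A ⊗ T).left →+ PicA (A ⊗ T).left) h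
      rw [map_add, map_add, map_add, map_zero, pullA_lam, pullA_lam, pullA_lam, pullA_lam] at h'
      simpa only [whiskerRight_fst_assoc, whiskerRight_snd_assoc, Category.assoc] using h'
    refine ⟨?_, ?_, ?_, ?_⟩
    · simpa [Lam, lam_one_left, MonObj.comp_one] using key (lift (𝟙 A) (lift 1 (lift 1 1)))
    · simpa [Lam, lam_one_left, MonObj.comp_one] using key (lift 1 (lift (𝟙 A) (lift 1 1)))
    · simpa [Lam, lam_one_left, MonObj.comp_one] using key (lift 1 (lift 1 (lift (𝟙 A) 1)))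
    · simpa [Lam, lam_one_left, MonObj.comp_one] using key (lift 1 (lift 1 (lift 1 (𝟙 A))))
  · rintro ⟨h0, h1, h2, h3⟩
    have key : ∀ (q : A4 A ⟶ A), Lam hL (x ≫ q) = 0 →
        CubeConsLib.lam hL (fst (A4 A) T ≫ q) (snd (A4 A) T ≫ x ≫ q) = 0 := fun q hq => by
      have h' := congrArg (pullA (q ▷ T).left : PicA (A ⊗ T).left →+ PicA (A4 A ⊗ T).left) hq
      rw [Lam, pullA_lam, map_zero, whiskerRight_fst, whiskerRight_snd_assoc] at h'
      exact h'
    rw [key _ h0, key _ h1, key _ h2, key _ h3, add_zero, add_zero, add_zero]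

end Sum

end TateThmLib.Zar

end
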