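import Groth.Agent.TateThmLib.Sub
import Groth.Agent.AVThetaLib.QuotKernel
import Groth.Agent.AVAmpleLib.IsogInv

/-!
Isogenies with prescribed groups of torsion points as kernels.
-/

set_option autoImplicit false
set_option linter.style.haveILetI false
set_option backward.isDefEq.respectTransparency false
set_option maxHeartbeats 1000000

noncomputable section

universe u

open CategoryTheory CategoryTheory.Limits MonoidalCategory CartesianMonoidalCategory MonObj AlgebraicGeometry TopologicalSpace

namespace TateThmLib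

variable {k : Type u} [Field k] {Ω : Type u} [Field Ω] [Algebra k Ω] [IsAlgClosed Ω]

/-- A finite surjective morphism is surjective on points with values in an algebraically closed field. -/
theorem exists_pt_lift {A B : Over (Spec (CommRingCat.of k))} (f : A ⟶ B) [IsFinite f.left] [Surjective f.left]
    (y : SGA7.pt (K := k) Ω ⟶ B) : ∃ a : SGA7.pt (K := k) Ω ⟶ A, a ≫ f = y := by
  let P := pullback f.left y.left
  haveI hsf : IsFinite (pullback.snd f.left y.left) := MorphismProperty.pullback_snd _ _ inferInstance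
  haveI hss : Surjective (pullback.snd f.left y.left) := MorphismProperty.pullback_snd _ _ inferInstance
  obtain ⟨z, -⟩ := (pullback.snd f.left y.left).surjective (IsLocalRing.closedPoint Ω)
  haveI : Nonempty P := ⟨z⟩
  let q : P ⟶ Spec (CommRingCat.of Ω) := pullback.snd f.left y.left
  haveI : LocallyOfFiniteType q := inferInstanceAs (LocallyOfFiniteType (pullback.snd f.left y.left))
  haveI : JacobsonSpace P := LocallyOfFiniteType.jacobsonSpace q
  obtain ⟨w, -, hw⟩ := nonempty_inter_closedPoints (X := P) Set.univ_nonempty isClosed_univ.isLocallyClosed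
  let s : Spec (CommRingCat.of Ω) ⟶ P := pointOfClosedPoint q w hw
  have hs : s ≫ pullback.snd f.left y.left = 𝟙 _ := pointOfClosedPoint_comp _ _ _
  refine ⟨Over.homMk (s ≫ pullback.fst f.left y.left) ?_, Over.OverMorphism.ext ?_⟩
  · show (s ≫ _) ≫ A.hom = _
    rw [← Over.w f, ← Category.assoc, Category.assoc s, pullback.condition, ← Category.assoc, hs, Category.id_comp,
      Over.w y]
  · show (s ≫ _) ≫ f.left = y.left
    rw [Category.assoc, pullback.condition, reassoc_of% hs]

variable [Normal k Ω] {A : Over (Spec (CommRingCat.of k))} [GrpObj A] [IsCommMonObj A] [IsProper A.hom]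
  [GeometricallyIntegral A.hom]

/-- The isogeny with kernel a Galois-stable group of `N`-torsion points and its complementary isogeny. -/
theorem exists_quot (N : ℕ) (hN : (N : k) ≠ 0) (G : Subgroup (SGA7.pt (K := k) Ω ⟶ A)) (htors : ∀ a ∈ G, a ^ N = 1)
    (hgal : ∀ (σ : Ω ≃ₐ[k] Ω), ∀ a ∈ G, SGA7.galAct σ a ∈ G) :
    ∃ (Y : Over (Spec (CommRingCat.of k))) (_ : GrpObj Y) (_ : IsCommMonObj Y) (_ : IsProper Y.hom)
      (_ : GeometricallyIntegral Y.hom) (f : A ⟶ Y) (_ : IsMonHom f) (v : Y ⟶ A) (_ : IsMonHom v),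
      f ≫ v = (𝟙 A) ^ N ∧ v ≫ f = (𝟙 Y) ^ N ∧ (∀ y : SGA7.pt (K := k) Ω ⟶ Y, ∃ a, a ≫ f = y) ∧
        ∀ a : SGA7.pt (K := k) Ω ⟶ A, a ≫ f = 1 ↔ a ∈ G := by
  obtain ⟨H, _, j, _, _, _, hjN, hpts⟩ := exists_sub N hN G htors hgal
  obtain ⟨Y, _, f, hYp, hYg, hf, hfs, hker⟩ := AVThetaLib.exists_quotient_kernel A j
  haveI := hYp
  haveI := hYg
  haveI := hf
  haveI := hfs
  haveI : IsCommMonObj Y := CubeConsLib.isCommMonObj_field
  haveI : IsProper f.left := by
    haveI : IsProper (f.left ≫ Y.hom) := by rw [Over.w]; infer_instance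
    exact IsProper.of_comp f.left Y.hom
  have h1 : ∀ {T : Over (Spec (CommRingCat.of k))}, toUnit T ≫ η[Y] = (1 : T ⟶ Y) := fun {T} => (Hom.one_def).symm
  have hker' : ∀ {T : Over (Spec (CommRingCat.of k))} (a : T ⟶ A), a ≫ f = 1 ↔ ∃ b : T ⟶ H, b ≫ j = a := by
    intro T a
    constructor
    · intro ha
      exact ⟨hker.lift a (toUnit T) (by rw [ha, h1]), hker.lift_fst _ _ _⟩
    · rintro ⟨b, rfl⟩
      rw [Category.assoc, hker.w, h1, MonObj.comp_one]
  haveI : IsFinite f.left := by
    rw [Groth.Agent.GrpHom.isFinite_iff_discrete_ker f]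
    have hp : IsPullback j.left H.hom f.left (η[Y] : 𝟙_ (Over (Spec (CommRingCat.of k))) ⟶ Y).left :=
      hker.map (Over.forget _)
    let x0 := IsLocalRing.closedPoint k
    haveI : DiscreteTopology H.left := DiscreteTopology.of_continuous_injective
      (f := fun z => (H.hom.fiberHomeo x0).symm ⟨z, Set.mem_singleton_iff.mpr (Subsingleton.elim (α := PrimeSpectrum k) _ _)⟩)
      (by fun_prop) (fun a b hab => congrArg Subtype.val ((H.hom.fiberHomeo x0).symm.injective hab))
    exact (Scheme.homeoOfIso hp.isoPullback).symm.isEmbedding.discreteTopology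
  haveI : LocallyOfFinitePresentation A.hom := LocallyOfFinitePresentation.iff_locallyOfFiniteType.2 inferInstance
  haveI := AVAmpleLib.smooth_hom Y
  haveI : Flat f.left := AbSchLib.flat_of_surjective f
  haveI : IsMonHom (𝟙 A ^ N) := by
    rw [← zpow_natCast]
    exact AbSchLib.isMonHom_zpow A (N : ℤ)
  obtain ⟨v, hv, hfv⟩ := AVAmpleLib.exists_desc_flat f (𝟙 A ^ N) fun a ha => by
    obtain ⟨b, rfl⟩ := (hker' a).1 ha
    rw [Category.assoc, hjN, MonObj.comp_one]
  haveI : Epi f.left := inferInstance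
  haveI : Epi f := Functor.epi_of_epi_map (Over.forget _) (inferInstanceAs (Epi f.left))
  refine ⟨Y, inferInstance, inferInstance, inferInstance, inferInstance, f, hf, v, hv, hfv, ?_,
    exists_pt_lift f, fun a => (hker' a).trans (hpts a)⟩
  rw [← cancel_epi f, ← Category.assoc, hfv, MonObj.pow_comp, MonObj.comp_pow, Category.id_comp, Category.comp_id]

end TateThmLib

end
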