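import Groth.Agent.TateThmLib.CechKoszul
import Mathlib.RingTheory.Localization.FractionRing
import Mathlib.Algebra.Algebra.Subalgebra.Basic
import Mathlib.LinearAlgebra.Dimension.StrongRankCondition

/-!
A system of sections with bounded generation and syzygies is determined by finitely many linear maps.
-/

set_option autoImplicit false
set_option maxHeartbeats 1000000

noncomputable section

universe u

namespace TateThmLib

variable (k : Type u) [Field k] (ι : Type) [Fintype ι]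

/-- Systems of sections with generation and syzygies in degrees at least `n`. -/
structure SecData (i₀ : ι) (A : Type u) [Field A] [Algebra k A] (n : ℕ) where
  t : ι → A
  G : ℕ → Submodule k A
  t_one : t i₀ = 1
  one_mem : (1 : A) ∈ G n
  mul_t : ∀ j a, ∀ x ∈ G j, t a * x ∈ G (j + 1)
  mul_mem : ∀ i j, ∀ x ∈ G i, ∀ y ∈ G j, x * y ∈ G (i + j)
  gen : ∀ j, n ≤ j → ∀ z ∈ G (j + 1), ∃ f : ι → A, (∀ a, f a ∈ G j) ∧ ∑ a, t a * f a = z
  syz : ∀ j, n ≤ j → ∀ r : ι → A, (∀ a, r a ∈ G (j + 1)) → ∑ a, t a * r a = 0 →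
    ∃ c : ι → ι → A, (∀ a b, c a b ∈ G j) ∧ (∀ a, c a a = 0) ∧ (∀ a b, c a b = -c b a) ∧
      ∀ a, r a = ∑ b, t b * c a b

variable {k ι} {A A' : Type u} [Field A] [Algebra k A] [Field A'] [Algebra k A'] {n : ℕ} {i₀ : ι}

namespace SecData

variable (D : SecData k ι i₀ A n) (D' : SecData k ι i₀ A' n)

/-- Multiplication by `t a` on one degree. -/
def mt (a : ι) (j : ℕ) : D.G j →ₗ[k] D.G (j + 1) :=
  (LinearMap.mulLeft k (D.t a)).restrict (D.mul_t j a)

@[simp] theorem coe_mt (a : ι) (j : ℕ) (x : D.G j) : (D.mt a j x : A) = D.t a * x := rfl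

/-- Multiplication in degree `n`. -/
def mm (x y : D.G n) : D.G (n + n) := ⟨x.1 * y.1, D.mul_mem n n _ x.2 _ y.2⟩

theorem mono_succ (j : ℕ) : D.G j ≤ D.G (j + 1) := fun x hx => by
  simpa [D.t_one] using D.mul_t j i₀ x hx

theorem monotone_G {i j : ℕ} (h : i ≤ j) : D.G i ≤ D.G j := monotone_nat_of_le_succ D.mono_succ h

/-- Two consecutive degrees of a comparison. -/
@[ext]
structure Step (j : ℕ) where
  f : D.G j →ₗ[k] A'
  g : D.G (j + 1) →ₗ[k] A'
  compat : ∀ a x, g (D.mt a j x) = D'.t a * f x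

variable {D D'}

theorem exists_next {j : ℕ} (hj : n ≤ j) (s : D.Step D' j) :
    ∃ h : D.G (j + 2) →ₗ[k] A', ∀ a x, h (D.mt a (j + 1) x) = D'.t a * s.g x := by
  classical
  let P : (ι → D.G (j + 1)) →ₗ[k] D.G (j + 2) := ∑ a, D.mt a (j + 1) ∘ₗ LinearMap.proj a
  let Q : (ι → D.G (j + 1)) →ₗ[k] A' :=
    ∑ a, LinearMap.mulLeft k (D'.t a) ∘ₗ s.g ∘ₗ LinearMap.proj a
  have hP : Function.Surjective P := fun z => by
    obtain ⟨f, hf, hz⟩ := D.gen (j + 1) (by omega) z.1 z.2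
    exact ⟨fun a => ⟨f a, hf a⟩, Subtype.ext (by simpa [P] using hz)⟩
  have hker : LinearMap.ker P ≤ LinearMap.ker Q := fun r hr => by
    have h0 : ∑ a, D.t a * (r a).1 = 0 := by
      simpa [P] using congrArg Subtype.val (LinearMap.mem_ker.1 hr)
    obtain ⟨c, hc, hcd, hca, hrc⟩ := D.syz j hj (fun a => (r a).1) (fun a => (r a).2) h0
    have hr' : ∀ a, r a = ∑ b, D.mt b j ⟨c a b, hc a b⟩ := fun a => Subtype.ext (by simpa using hrc a)
    have hQ : Q r = ∑ a, ∑ b, D'.t a * (D'.t b * s.f ⟨c a b, hc a b⟩) := by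
      simp only [Q, LinearMap.coe_sum, Finset.sum_apply, LinearMap.comp_apply, LinearMap.proj_apply,
        LinearMap.mulLeft_apply, hr', map_sum, s.compat]
    rw [LinearMap.mem_ker, hQ, Finset.sum_sigma']
    refine Finset.sum_involution (fun p _ => ⟨p.2, p.1⟩) (fun p _ => ?_) (fun p _ hp e => hp ?_)
      (fun p _ => by simp) fun p _ => rfl
    · have : (⟨c p.2 p.1, hc _ _⟩ : D.G j) = -⟨c p.1 p.2, hc _ _⟩ := Subtype.ext (hca _ _)
      simp only [this, map_neg, mul_neg]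
      ring
    · have he : p.1 = p.2 := (congrArg Sigma.fst e).symm
      have : (⟨c p.1 p.2, hc _ _⟩ : D.G j) = 0 := Subtype.ext (by simp [he, hcd])
      simp [this]
  obtain ⟨h, hh⟩ : ∃ h : D.G (j + 2) →ₗ[k] A', h ∘ₗ P = Q :=
    ⟨Submodule.liftQ _ Q hker ∘ₗ (P.quotKerEquivOfSurjective hP).symm.toLinearMap, LinearMap.ext fun r => by
      have : (P.quotKerEquivOfSurjective hP).symm (P r) = Submodule.Quotient.mk r :=
        (LinearEquiv.symm_apply_eq _).2 rfl
      simp [this]⟩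
  refine ⟨h, fun a x => ?_⟩
  have hs := LinearMap.congr_fun hh (Pi.single a x)
  simp only [P, Q, LinearMap.comp_apply, LinearMap.coe_sum, Finset.sum_apply, LinearMap.proj_apply,
    LinearMap.mulLeft_apply] at hs
  rwa [Finset.sum_eq_single a (fun b _ hb => by simp [Pi.single_eq_of_ne hb]) (by simp),
    Finset.sum_eq_single a (fun b _ hb => by simp [Pi.single_eq_of_ne hb]) (by simp), Pi.single_eq_same] at hs

/-- The next pair of degrees. -/
def Step.next {j : ℕ} (hj : n ≤ j) (s : D.Step D' j) : D.Step D' (j + 1) :=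
  ⟨s.g, (exists_next hj s).choose, (exists_next hj s).choose_spec⟩

/-- All degrees. -/
def Step.iter (s : D.Step D' n) : ∀ m, D.Step D' (n + m)
  | 0 => s
  | m + 1 => (Step.iter s m).next (Nat.le_add_right n m)

theorem Step.g_iter (s : D.Step D' n) (m : ℕ) : (s.iter m).g = (s.iter (m + 1)).f := rfl

theorem Step.mem_iter (s : D.Step D' n) (hs : ∀ x, s.f x ∈ D'.G n) :
    ∀ m x, (s.iter m).f x ∈ D'.G (n + m)
  | 0 => hs
  | m + 1 => fun z => by
    obtain ⟨f, hf, hz⟩ := D.gen (n + m) (Nat.le_add_right n m) z.1 z.2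
    have : z = ∑ a, D.mt a (n + m) ⟨f a, hf a⟩ := Subtype.ext (by simpa using hz.symm)
    rw [← Step.g_iter, this, map_sum]
    refine Submodule.sum_mem _ fun a _ => ?_
    rw [(s.iter m).compat]
    exact D'.mul_t _ a _ (s.mem_iter hs m _)

end SecData

/-- The linear data which determine a system of sections. -/
structure SecTable (D : SecData k ι i₀ A n) (D' : SecData k ι i₀ A' n) where
  e : ∀ j, D.G j ≃ₗ[k] D'.G j
  et : ∀ j, n ≤ j → j ≤ n + n → ∀ a x, e (j + 1) (D.mt a j x) = D'.mt a j (e j x)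
  emul : ∀ x y, e (n + n) (D.mm x y) = D'.mm (e n x) (e n y)

namespace SecTable

variable {D : SecData k ι i₀ A n} {D' : SecData k ι i₀ A' n} (T : SecTable D D')

/-- The reverse table. -/
def symm : SecTable D' D where
  e j := (T.e j).symm
  et j h h' a x := (T.e (j + 1)).symm_apply_eq.2 (by rw [T.et j h h', LinearEquiv.apply_symm_apply])
  emul x y := (T.e (n + n)).symm_apply_eq.2 (by
    rw [T.emul, LinearEquiv.apply_symm_apply, LinearEquiv.apply_symm_apply])

/-- The comparison in the first degrees. -/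
def step : D.Step D' n :=
  ⟨(D'.G n).subtype ∘ₗ (T.e n).toLinearMap, (D'.G (n + 1)).subtype ∘ₗ (T.e (n + 1)).toLinearMap,
    fun a x => congrArg Subtype.val (T.et n le_rfl (Nat.le_add_right n n) a x)⟩

/-- The comparison in every degree. -/
def map (m : ℕ) : D.G (n + m) →ₗ[k] A' := (T.step.iter m).f

theorem map_mem (m : ℕ) (x : D.G (n + m)) : T.map m x ∈ D'.G (n + m) :=
  T.step.mem_iter (fun x => (T.e n x).2) m x

theorem map_mt (m : ℕ) (a : ι) (x : D.G (n + m)) : T.map (m + 1) (D.mt a (n + m) x) = D'.t a * T.map m x :=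
  (T.step.iter m).compat a x

theorem exists_decomp (m : ℕ) (z : D.G (n + (m + 1))) :
    ∃ f : ι → D.G (n + m), z = ∑ a, D.mt a (n + m) (f a) := by
  obtain ⟨f, hf, hz⟩ := D.gen (n + m) (Nat.le_add_right n m) z.1 z.2
  exact ⟨fun a => ⟨f a, hf a⟩, Subtype.ext (by simpa using hz.symm)⟩

theorem map_eq_e : ∀ m ≤ n + 1, ∀ x, T.map m x = (T.e (n + m) x : A') := by
  intro m
  induction m with
  | zero => exact fun _ _ => rfl
  | succ m ih =>
    intro hm z
    obtain ⟨f, rfl⟩ := exists_decomp (D := D) m z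
    simp only [map_sum, Submodule.coe_sum]
    refine Finset.sum_congr rfl fun a _ => ?_
    rw [map_mt, ih (by omega)]
    exact (congrArg Subtype.val (T.et (n + m) (Nat.le_add_right n m) (by omega) a (f a))).symm

theorem map_eq_of_le {m m' : ℕ} (hm : m ≤ m') (x : D.G (n + m)) (y : D.G (n + m')) (h : x.1 = y.1) :
    T.map m x = T.map m' y := by
  induction m', hm using Nat.le_induction with
  | base => rw [Subtype.ext h]
  | succ m' hm ih =>
    have hx : x.1 ∈ D.G (n + m') := D.monotone_G (by omega) x.2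
    rw [ih ⟨x.1, hx⟩ rfl]
    have : y = D.mt i₀ (n + m') ⟨x.1, hx⟩ := Subtype.ext (by simp [D.t_one, h])
    rw [this, map_mt, D'.t_one, one_mul]

theorem map_congr {m m' : ℕ} (x : D.G (n + m)) (y : D.G (n + m')) (h : x.1 = y.1) : T.map m x = T.map m' y :=
  (le_total m m').elim (fun hm => T.map_eq_of_le hm x y h) fun hm => (T.map_eq_of_le hm y x h.symm).symm

theorem map_inv : ∀ m x, T.symm.map m ⟨T.map m x, T.map_mem m x⟩ = (x : A) := by
  intro m
  induction m with
  | zero => exact fun x => congrArg Subtype.val ((T.e n).symm_apply_apply x)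
  | succ m ih =>
    intro z
    obtain ⟨f, rfl⟩ := exists_decomp (D := D) m z
    have : (⟨_, T.map_mem (m + 1) (∑ a, D.mt a (n + m) (f a))⟩ : D'.G (n + (m + 1))) =
        ∑ a, D'.mt a (n + m) ⟨_, T.map_mem m (f a)⟩ := Subtype.ext (by
      simp [map_mt])
    rw [this, map_sum, Submodule.coe_sum]
    refine Finset.sum_congr rfl fun a _ => ?_
    rw [map_mt, ih]
    rfl

end SecTable

namespace SecData

variable (D : SecData k ι i₀ A n)

/-- The ring of the chart of the normalised section. -/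
def ring : Subalgebra k A where
  carrier := {x | ∃ m, x ∈ D.G (n + m)}
  mul_mem' := fun {x y} ⟨i, hi⟩ ⟨j, hj⟩ => ⟨n + i + j, D.monotone_G (by omega) (D.mul_mem _ _ x hi y hj)⟩
  add_mem' := fun {x y} ⟨i, hi⟩ ⟨j, hj⟩ => ⟨i + j, add_mem (D.monotone_G (by omega) hi) (D.monotone_G (by omega) hj)⟩
  algebraMap_mem' r := ⟨0, by rw [Algebra.algebraMap_eq_smul_one]; exact Submodule.smul_mem _ r D.one_mem⟩

theorem mem_ring {x : A} : x ∈ D.ring ↔ ∃ m, x ∈ D.G (n + m) := Iff.rfl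

theorem t_mem (a : ι) : D.t a ∈ D.ring :=
  ⟨1, by simpa using D.mul_t n a 1 D.one_mem⟩

/-- The ring of the chart of `t a`. -/
def chart (a : ι) : Set A := {x | ∃ j, n ≤ j ∧ x * D.t a ^ j ∈ D.G j}

end SecData

namespace SecTable

variable {D : SecData k ι i₀ A n} {D' : SecData k ι i₀ A' n} (T : SecTable D D')

/-- The comparison on the ring. -/
def phi (x : D.ring) : A' := T.map (x.2).choose ⟨x.1, (x.2).choose_spec⟩

theorem phi_eq (x : D.ring) (m : ℕ) (h : x.1 ∈ D.G (n + m)) : T.phi x = T.map m ⟨x.1, h⟩ :=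
  T.map_congr _ _ rfl

theorem phi_mem (x : D.ring) : T.phi x ∈ D'.ring := ⟨_, T.map_mem _ _⟩

theorem phi_add (x y : D.ring) : T.phi (x + y) = T.phi x + T.phi y := by
  obtain ⟨i, hi⟩ := x.2
  obtain ⟨j, hj⟩ := y.2
  have hi' := D.monotone_G (show n + i ≤ n + (i + j) by omega) hi
  have hj' := D.monotone_G (show n + j ≤ n + (i + j) by omega) hj
  rw [T.phi_eq (x + y) (i + j) (add_mem hi' hj'), T.phi_eq x _ hi', T.phi_eq y _ hj', ← map_add]
  rfl

theorem phi_smul (r : k) (x : D.ring) : T.phi (r • x) = r • T.phi x := by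
  obtain ⟨i, hi⟩ := x.2
  rw [T.phi_eq (r • x) i (Submodule.smul_mem _ r hi), T.phi_eq x i hi, ← map_smul]
  rfl

/-- The comparison as a linear map. -/
def phiₗ : D.ring →ₗ[k] A' where
  toFun := T.phi
  map_add' := T.phi_add
  map_smul' := T.phi_smul

theorem phi_mul_t (a : ι) (x : D.ring) : T.phiₗ (⟨D.t a, D.t_mem a⟩ * x) = D'.t a * T.phiₗ x := by
  obtain ⟨i, hi⟩ := x.2
  show T.phi _ = _ * T.phi x
  rw [T.phi_eq _ (i + 1) (D.mul_t _ a _ hi), T.phi_eq x i hi, ← map_mt]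
  rfl

theorem phi_mul_base (x y : D.ring) (hx : x.1 ∈ D.G n) (hy : y.1 ∈ D.G n) :
    T.phiₗ (x * y) = T.phiₗ x * T.phiₗ y := by
  show T.phi _ = T.phi x * T.phi y
  rw [T.phi_eq (x * y) n (D.mul_mem n n _ hx _ hy), T.phi_eq x 0 hx, T.phi_eq y 0 hy, T.map_eq_e n (by omega),
    T.map_eq_e 0 (by omega), T.map_eq_e 0 (by omega)]
  exact congrArg Subtype.val (T.emul ⟨x.1, hx⟩ ⟨y.1, hy⟩)

theorem phi_mul (x y : D.ring) : T.phiₗ (x * y) = T.phiₗ x * T.phiₗ y := by
  have key : ∀ (y : D.ring), (∀ x : D.ring, x.1 ∈ D.G n → T.phiₗ (x * y) = T.phiₗ x * T.phiₗ y) →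
      ∀ m, ∀ x : D.ring, x.1 ∈ D.G (n + m) → T.phiₗ (x * y) = T.phiₗ x * T.phiₗ y := by
    intro y hy m
    induction m with
    | zero => exact hy
    | succ m ih =>
      intro x hx
      obtain ⟨f, hf⟩ := exists_decomp (D := D) m ⟨x.1, hx⟩
      have : x = ∑ a, ⟨D.t a, D.t_mem a⟩ * (⟨(f a).1, m, (f a).2⟩ : D.ring) := Subtype.ext (by
        simpa [AddSubmonoidClass.coe_finsetSum] using congrArg Subtype.val hf)
      rw [this, Finset.sum_mul, map_sum, map_sum, Finset.sum_mul]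
      refine Finset.sum_congr rfl fun a _ => ?_
      rw [mul_assoc, phi_mul_t, phi_mul_t, ih _ (f a).2, mul_assoc]
  obtain ⟨i, hi⟩ := x.2
  refine key y (fun x hx => ?_) i x hi
  obtain ⟨j, hj⟩ := y.2
  rw [mul_comm, key x (fun y hy => ?_) j y hj, mul_comm]
  rw [mul_comm, T.phi_mul_base x y hx hy, mul_comm]

theorem phi_one : T.phiₗ 1 = 1 := by
  have h := T.phi_mul 1 1
  rw [mul_one] at h
  refine (mul_eq_left₀ fun e0 => one_ne_zero (α := A) ?_).1 h.symm
  have e1 : (T.e n ⟨1, D.one_mem⟩ : A') = 0 := (T.phi_eq 1 0 D.one_mem).symm.trans e0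
  exact congrArg Subtype.val ((T.e n).map_eq_zero_iff.1 (Subtype.ext e1))

theorem phi_inv (x : D.ring) : T.symm.phi ⟨T.phi x, T.phi_mem x⟩ = x.1 := by
  obtain ⟨i, hi⟩ := x.2
  have hm : T.phi x ∈ D'.G (n + i) := T.phi_eq x i hi ▸ T.map_mem i _
  rw [T.symm.phi_eq _ i hm, ← T.map_inv i ⟨x.1, hi⟩]
  congr 1
  exact Subtype.ext (T.phi_eq x i hi)

theorem phi_inv' (x : D'.ring) : T.phi ⟨T.symm.phi x, T.symm.phi_mem x⟩ = x.1 := T.symm.phi_inv x

/-- The isomorphism of chart rings. -/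
def ringEquiv : D.ring ≃ₐ[k] D'.ring :=
  AlgEquiv.ofLinearEquiv
    { toFun := fun x => ⟨T.phi x, T.phi_mem x⟩
      invFun := fun x => ⟨T.symm.phi x, T.symm.phi_mem x⟩
      left_inv := fun x => Subtype.ext (T.phi_inv x)
      right_inv := fun x => Subtype.ext (T.phi_inv' x)
      map_add' := fun x y => Subtype.ext (T.phi_add x y)
      map_smul' := fun r x => Subtype.ext (T.phi_smul r x) }
    (Subtype.ext T.phi_one) fun x y => Subtype.ext (T.phi_mul x y)

include T in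
/-- A table gives an isomorphism of the fields respecting every chart. -/
theorem exists_algEquiv [IsFractionRing D.ring A] [IsFractionRing D'.ring A'] :
    ∃ σ : A ≃ₐ[k] A', (∀ a, σ (D.t a) = D'.t a) ∧ ∀ a x, x ∈ D.chart a ↔ σ x ∈ D'.chart a := by
  let σ : A ≃ₐ[k] A' := IsFractionRing.algEquivOfAlgEquiv T.ringEquiv
  have hσ : ∀ x : D.ring, σ x.1 = T.phi x := fun x =>
    IsFractionRing.algEquivOfAlgEquiv_algebraMap T.ringEquiv x
  have ht : ∀ a, σ (D.t a) = D'.t a := fun a => by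
    rw [hσ ⟨D.t a, D.t_mem a⟩]
    have h := T.phi_mul_t a 1
    rw [mul_one, T.phi_one, mul_one] at h
    exact h
  have hmem : ∀ j, n ≤ j → ∀ x, x ∈ D.G j ↔ σ x ∈ D'.G j := by
    intro j hj x
    obtain ⟨m, rfl⟩ : ∃ m, j = n + m := ⟨j - n, by omega⟩
    refine ⟨fun hx => ?_, fun hx => ?_⟩
    · rw [hσ ⟨x, m, hx⟩, T.phi_eq _ m hx]
      exact T.map_mem m _
    · have hy : T.symm.map m ⟨σ x, hx⟩ ∈ D.G (n + m) := T.symm.map_mem m _
      have h := T.phi_inv' ⟨σ x, m, hx⟩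
      rw [← hσ] at h
      have h' : T.symm.map m ⟨σ x, hx⟩ = x := (T.symm.phi_eq ⟨σ x, m, hx⟩ m hx).symm.trans (σ.injective h)
      rwa [h'] at hy
  refine ⟨σ, ht, fun a x => ?_⟩
  simp only [SecData.chart, Set.mem_setOf_eq]
  exact exists_congr fun j => and_congr_right fun hj => by rw [hmem j hj, map_mul, map_pow, ht]

end SecTable

end TateThmLib

end
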