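import Groth.Agent.TateThmLib.SecData
import Mathlib.LinearAlgebra.Dimension.Free
import Mathlib.LinearAlgebra.FiniteDimensional.Basic
import Mathlib.Data.Fintype.EquivFin

/-!
Systems of sections from vanishing; finitely many over a finite field.
-/

set_option autoImplicit false
set_option maxHeartbeats 1000000
set_option linter.unusedSectionVars false

noncomputable section

universe u


namespace TateThmLib

variable {k : Type u} [Field k] {ι : Type} [Fintype ι] [DecidableEq ι] [LinearOrder ι]
  {A : Type u} [Field A] [Algebra k A]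

/-- The global members in high degree. -/
def globalG (S : ℕ → (Finset ι →o Submodule k A)) (j : ℕ) : Submodule k A :=
  if Fintype.card ι + 1 ≤ j then ⨅ a, S j {a} else ⊥

theorem mem_globalG {S : ℕ → (Finset ι →o Submodule k A)} {j : ℕ} (hj : Fintype.card ι + 1 ≤ j) {x : A} :
    x ∈ globalG S j ↔ ∀ a, x ∈ S j {a} := by
  rw [globalG, if_pos hj, Submodule.mem_iInf]

/-- The system of sections of a graded family with vanishing. -/
def SecData.ofVanishing (t : ι → A) (i₀ : ι) (S : ℕ → (Finset ι →o Submodule k A)) (hG : Graded t S)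
    (hvan : Vanishing (S := S)) (ht1 : t i₀ = 1) (hne : ∀ a, t a ≠ 0)
    (hmul : ∀ i j a, ∀ x ∈ S i {a}, ∀ y ∈ S j {a}, x * y ∈ S (i + j) {a})
    (hone : ∀ a, (1 : A) ∈ S (Fintype.card ι + 1) {a}) : SecData k ι i₀ A (Fintype.card ι + 1) where
  t := t
  G := globalG S
  t_one := ht1
  one_mem := (mem_globalG le_rfl).2 hone
  mul_t j a x hx := by
    by_cases hj : Fintype.card ι + 1 ≤ j
    · exact (mem_globalG (hj.trans j.le_succ)).2 fun b => hG.mul_mem _ _ a x ((mem_globalG hj).1 hx b)
    · rw [globalG, if_neg hj, Submodule.mem_bot] at hx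
      rw [hx, mul_zero]
      exact Submodule.zero_mem _
  mul_mem i j x hx y hy := by
    by_cases hi : Fintype.card ι + 1 ≤ i
    · by_cases hj : Fintype.card ι + 1 ≤ j
      · exact (mem_globalG (hi.trans (Nat.le_add_right i j))).2 fun b =>
          hmul _ _ b x ((mem_globalG hi).1 hx b) y ((mem_globalG hj).1 hy b)
      · rw [globalG, if_neg hj, Submodule.mem_bot] at hy
        rw [hy, mul_zero]
        exact Submodule.zero_mem _
    · rw [globalG, if_neg hi, Submodule.mem_bot] at hx
      rw [hx, zero_mul]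
      exact Submodule.zero_mem _
  gen j hj z hz := by
    haveI : Nonempty ι := ⟨i₀⟩
    obtain ⟨f, hf, h⟩ := exists_gen hG (fun a x h => (mul_eq_zero.1 h).resolve_left (hne a)) hvan
      (show Fintype.card ι ≤ j by omega) ((mem_globalG (by omega)).1 hz)
    exact ⟨f, fun a => (mem_globalG hj).2 (hf a), h⟩
  syz j hj r hr h0 := by
    haveI : Nonempty ι := ⟨i₀⟩
    obtain ⟨c, hc, h⟩ := exists_syz hG (fun a x h => (mul_eq_zero.1 h).resolve_left (hne a)) hvan
      (show Fintype.card ι ≤ j by omega) (fun a => (mem_globalG (by omega)).1 (hr a)) h0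
    exact ⟨c, fun a b => (mem_globalG hj).2 (hc a b), h⟩

/-- The possible tables with given dimensions. -/
abbrev Tab (k : Type u) (ι : Type) [Field k] (d : ℕ → ℕ) (n : ℕ) : Type u :=
  (∀ i : Fin (n + 1), ι → (Fin (d (n + i)) → k) → (Fin (d (n + i + 1)) → k)) ×
    ((Fin (d n) → k) → (Fin (d n) → k) → (Fin (d (n + n)) → k))

/-- Over a finite field there are finitely many systems with given dimensions, up to tables. -/
theorem exists_secTable [Finite k] {I : Type u} [Infinite I] (F : I → Type u) [∀ i, Field (F i)] [∀ i, Algebra k (F i)]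
    {n : ℕ} {i₀ : ι} (D : ∀ i, SecData k ι i₀ (F i) n) (d : ℕ → ℕ)
    [∀ i j, FiniteDimensional k ((D i).G j)] (hd : ∀ i j, Module.finrank k ((D i).G j) = d j) :
    ∃ i i', i ≠ i' ∧ Nonempty (SecTable (D i) (D i')) := by
  have e : ∀ i j, (D i).G j ≃ₗ[k] (Fin (d j) → k) := fun i j =>
    LinearEquiv.ofFinrankEq _ _ (by rw [hd, Module.finrank_fin_fun])
  let τ : I → Tab k ι d n := fun i =>
    (fun m a v => e i _ ((D i).mt a _ ((e i _).symm v)), fun v w => e i _ ((D i).mm ((e i n).symm v) ((e i n).symm w)))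
  obtain ⟨i, i', hne, h⟩ := Finite.exists_ne_map_eq_of_infinite τ
  refine ⟨i, i', hne, ⟨
    { e := fun j => (e i j).trans (e i' j).symm
      et := fun j hj hj' a x => ?_
      emul := fun x y => ?_ }⟩⟩
  · obtain ⟨m, rfl⟩ : ∃ m : Fin (n + 1), j = n + m := ⟨⟨j - n, by omega⟩, by simp only; omega⟩
    have h1 := congrFun (congrFun (congrFun (congrArg Prod.fst h) m) a) (e i _ x)
    simp only [τ, LinearEquiv.symm_apply_apply] at h1
    simp only [LinearEquiv.trans_apply]
    rw [h1, LinearEquiv.symm_apply_apply]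
  · have h1 := congrFun (congrFun (congrArg Prod.snd h) (e i n x)) (e i n y)
    simp only [τ, LinearEquiv.symm_apply_apply] at h1
    simp only [LinearEquiv.trans_apply]
    rw [h1, LinearEquiv.symm_apply_apply]

end TateThmLib

end
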