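import Groth.Agent.VeryAmpleLib.Bc
import Groth.Agent.GenusZeroLib.Divisor
import Groth.Agent.AmpleDevLib.Pull
import Groth.Agent.HilbPolyLib.BaseField
import Groth.Agent.FibDimLib.Comps

/-!
# Base change of spanning families of sections (any dimension)
-/

set_option autoImplicit false
universe u

open CategoryTheory CategoryTheory.Limits AlgebraicGeometry TopologicalSpace Opposite TensorProduct
open AmpleLib
open TwistLib (genSet genSet_genOn)
open KFlatLib (pb puSec)
open GenusZeroLib (kmod e0k ρ)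

noncomputable section

namespace TateThmLib

variable (k : Type u) [Field k] (X : Scheme.{u}) [X.Over (Spec (CommRingCat.of k))]
  (K : Type u) [Field K] [Algebra k K]





attribute [local instance] VeryAmpleLib.bcOver
open VeryAmpleLib (isPullback_bc isProper_bc eq_zero_of_sum_tmul)
variable {k X}

theorem span_bc [IsProper (X ↘ Spec (CommRingCat.of k))] [IsIntegral X] [IsIntegral (Curv2.bc k X K)]
    {L : X.Modules} (hL : PicF.IsInvertible L) {m : ℕ} (v : Fin m → Γ(L, ⊤))
    (hli : letI := kmod k L; LinearIndependent k v) (hm : m = Module.finrank k (Coh.HH X L 0))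
    (σ : Γ(L, ⊤)) (hσ : σ ≠ 0) (hV : IsAffineOpen (genSet hL σ))
    (t : Γ(pb (Curv2.bcFst k X K) L, ⊤)) :
    ∃ c : Fin m → K, t = ∑ l, ρ (X := Curv2.bc k X K) K (c l) •
      (show Γ(pb (Curv2.bcFst k X K) L, ⊤) from puSec (Curv2.bcFst k X K) (v l)) := by
  classical
  let g := Curv2.bcFst k X K
  let X' := Curv2.bc k X K
  let V := genSet hL σ
  letI := kmod k L
  letI := kmod K (pb g L)
  haveI := isProper_bc k X K
  let v' : Fin m → Γ(pb g L, ⊤) := fun l => puSec g (v l)
  have hη : genericPoint X ∈ V := GenusZeroLib.genericPoint_mem_genSet hL hσ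
  have hsV : GenOn L (res L (le_top : V ≤ ⊤) σ) := genSet_genOn hL σ
  choose a ha using fun l => (hsV V le_rfl).2 (res L (le_top : V ≤ ⊤) (v l))
  simp only [AmpleLib.res_refl] at ha
  letI : Algebra k Γ(X, V) := ((X.presheaf.map (homOfLE (le_top : V ≤ ⊤)).op).hom.comp (ρ k)).toAlgebra
  have hai : LinearIndependent k a := by
    rw [Fintype.linearIndependent_iff]
    intro d hd
    refine Fintype.linearIndependent_iff.mp hli d ?_
    by_contra hne
    let w : Γ(L, ⊤) := ∑ l, d l • v l
    have hw : res L (le_top : V ≤ ⊤) w = 0 := by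
      refine (map_sum (L.presheaf.map (homOfLE (le_top : V ≤ ⊤)).op).hom _ _).trans ?_
      have h0 : (∑ l, d l • a l) • res L (le_top : V ≤ ⊤) σ = 0 := by rw [hd, zero_smul]
      rw [Finset.sum_smul] at h0
      refine Eq.trans (Finset.sum_congr rfl fun l _ => ?_) h0
      change res L le_top (ρ (X := X) k (d l) • v l) = (X.presheaf.map (homOfLE (le_top : V ≤ ⊤)).op (ρ (X := X) k (d l)) * a l) • _
      rw [res_smul, mul_smul, ← ha l]
    have h1 := (genAt_res (le_top : V ≤ ⊤) w hη).mpr (GenusZeroLib.genericPoint_mem_genSet hL hne)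
    rw [hw] at h1
    obtain ⟨c, hc⟩ := h1.2 (L.presheaf.germ V (genericPoint X) hη (res L le_top σ))
    dsimp only at hc
    rw [map_zero, smul_zero] at hc
    exact one_ne_zero ((hsV.genAt hη).1 (a₁ := (1 : X.presheaf.stalk (genericPoint X))) (a₂ := 0)
      (by dsimp only; rw [← hc, smul_zero, smul_zero]))
  have hli' : LinearIndependent K v' := by
    rw [Fintype.linearIndependent_iff]
    intro c hc
    refine congrFun ?_
    refine eq_zero_of_sum_tmul K a hai c ?_
    -- functions on `g ⁻¹ᵁ V` map to the tensor product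
    let W : X'.Opens := g ⁻¹ᵁ V
    have hUY : W = g ⁻¹ᵁ V ⊓ (X' ↘ Spec (CommRingCat.of K)) ⁻¹ᵁ ⊤ := by simp [W]
    have hpo := (isIso_pushoutSection_iff (isPullback_bc k X K) (US := ⊤) (UT := ⊤) (UX := V) le_top le_top hUY).mp
      (isIso_pushoutSection_of_isAffineOpen (isPullback_bc k X K) le_top le_top hUY
        (isAffineOpen_top _) (isAffineOpen_top _) hV)
    let iL : Γ(X, V) ⟶ CommRingCat.of (Γ(X, V) ⊗[k] K) :=
      CommRingCat.ofHom (Algebra.TensorProduct.includeLeftRingHom)
    let iR : Γ(Spec (CommRingCat.of K), ⊤) ⟶ CommRingCat.of (Γ(X, V) ⊗[k] K) :=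
      (Scheme.ΓSpecIso (CommRingCat.of K)).hom ≫
        CommRingCat.ofHom (Algebra.TensorProduct.includeRight : K →ₐ[k] _).toRingHom
    have hcond : (X ↘ Spec (CommRingCat.of k)).appLE ⊤ V le_top ≫ iL =
        (Spec.map (CommRingCat.ofHom (algebraMap k K))).appLE ⊤ ⊤ le_top ≫ iR := by
      rw [← cancel_epi (Scheme.ΓSpecIso (CommRingCat.of k)).inv]
      ext d
      have e1 : ((Spec.map (CommRingCat.ofHom (algebraMap k K))).appLE ⊤ ⊤ le_top ≫
          (Scheme.ΓSpecIso (CommRingCat.of K)).hom) ((Scheme.ΓSpecIso (CommRingCat.of k)).inv d) = algebraMap k K d := by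
        rw [← CommRingCat.comp_apply]
        refine ConcreteCategory.congr_hom (?_ : _ = CommRingCat.ofHom (algebraMap k K)) d
        have hT : (Spec.map (CommRingCat.ofHom (algebraMap k K))).appLE ⊤ ⊤ le_top =
            (Spec.map (CommRingCat.ofHom (algebraMap k K))).appTop :=
          (Spec.map (CommRingCat.ofHom (algebraMap k K))).app_eq_appLE.symm
        rw [hT, Scheme.ΓSpecIso_naturality, Iso.inv_hom_id_assoc]
      change (algebraMap k Γ(X, V) d) ⊗ₜ[k] (1 : K) = _
      refine Eq.trans ?_ (congrArg (fun z : K => (1 : Γ(X, V)) ⊗ₜ[k] z) e1).symm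
      rw [Algebra.algebraMap_eq_smul_one, Algebra.algebraMap_eq_smul_one, TensorProduct.smul_tmul]
    let ψ := hpo.desc iL iR hcond
    have hψ₁ : ∀ x : Γ(X, V), ψ (g.appLE V W le_rfl x) = x ⊗ₜ[k] (1 : K) := fun x =>
      ConcreteCategory.congr_hom (hpo.inl_desc iL iR hcond) x
    have hψ₂ : ∀ z : K, ψ ((X'.presheaf.map (homOfLE (le_top : W ≤ ⊤)).op) (ρ (X := X') K z)) =
        (1 : Γ(X, V)) ⊗ₜ[k] z := fun z => by
      refine (ConcreteCategory.congr_hom (hpo.inr_desc iL iR hcond) ((Scheme.ΓSpecIso (CommRingCat.of K)).inv z)).trans ?_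
      exact congrArg (fun y : K => (1 : Γ(X, V)) ⊗ₜ[k] y)
        (ConcreteCategory.congr_hom (Scheme.ΓSpecIso (CommRingCat.of K)).inv_hom_id z)
    have he : GenOn (pb g L) (puSec g (res L (le_top : V ≤ ⊤) σ)) := AmpleDevLib.puSec_genOn g hsV
    have hsum : ∑ l, (X'.presheaf.map (homOfLE (le_top : W ≤ ⊤)).op) (ρ (X := X') K (c l)) * g.appLE V W le_rfl (a l) = 0 := by
      refine (he W le_rfl).1 ?_
      dsimp only
      rw [zero_smul, AmpleLib.res_refl, Finset.sum_smul]
      have h1 := congrArg (res (pb g L) (le_top : W ≤ ⊤)) hc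
      rw [show res (pb g L) (le_top : W ≤ ⊤) (0 : Γ(pb g L, ⊤)) = 0 from map_zero _] at h1
      refine Eq.trans ?_ ((map_sum ((pb g L).presheaf.map (homOfLE (le_top : W ≤ ⊤)).op).hom _ _).symm.trans h1)
      refine Finset.sum_congr rfl fun l _ => ?_
      refine Eq.trans ?_ (res_smul (pb g L) le_top (ρ (X := X') K (c l)) (v' l)).symm
      rw [mul_smul]
      refine congrArg _ ?_
      rw [Scheme.Hom.appLE_eq_app]
      refine (TwistLib.puSec_smul g (a l) _).symm.trans ?_
      rw [ha l, TwistLib.puSec_res]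
      rfl
    have h2 := congrArg ψ hsum
    rw [map_zero, map_sum] at h2
    refine Eq.trans (Finset.sum_congr rfl fun l _ => ?_) h2
    rw [map_mul, hψ₁, hψ₂, Algebra.TensorProduct.tmul_mul_tmul, one_mul, mul_one]
  have hLc := CurvLib.isCoh_of_isInvertible (AmpleDevLib.isInvertible_pb g hL)
  haveI := CurvLib.finite_HH (k := K) (X := X') hLc 0
  haveI : Module.Finite K Γ(pb g L, ⊤) := Module.Finite.equiv (e0k K (pb g L))
  have hcard : Fintype.card (Fin m) = Module.finrank K Γ(pb g L, ⊤) := by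
    rw [← (e0k K (pb g L)).finrank_eq, Fintype.card_fin, hm]
    exact (HilbPolyLib.finrank_HH_bc K (TwistLib.isQCoh_of_isInvertible hL) 0).symm
  have ht : t ∈ Submodule.span K (Set.range v') := hli'.span_eq_top_of_card_eq_finrank' hcard ▸ Submodule.mem_top
  obtain ⟨c, hc⟩ := (Submodule.mem_span_range_iff_exists_fun K).mp ht
  exact ⟨c, hc.symm⟩

end TateThmLib

end
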