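import Groth.Agent.AVAmpleLib.TorsClosure

/-!
A Galois-stable finite group of torsion points is the group of points of a finite closed subgroup scheme.
-/

set_option autoImplicit false
set_option linter.style.haveILetI false
set_option backward.isDefEq.respectTransparency false
set_option maxHeartbeats 1000000

noncomputable section

universe u

open CategoryTheory CategoryTheory.Limits MonoidalCategory CartesianMonoidalCategory MonObj AlgebraicGeometry TopologicalSpace

namespace TateThmLib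

variable {k : Type u} [Field k] {Ω : Type u} [Field Ω] [Algebra k Ω]

open AVAmpleLib (imgPt)

/-- Two points over the same point of the scheme are Galois conjugate. -/
theorem exists_galAct_eq [Normal k Ω] {X : Over (Spec (CommRingCat.of k))} (a b : SGA7.pt (K := k) Ω ⟶ X)
    (h : imgPt a = imgPt b) : ∃ σ : Ω ≃ₐ[k] Ω, SGA7.galAct σ a = b := by
  let F := X.left.SpecToEquivOfField Ω
  obtain ⟨x, φa, hxa, ha⟩ : ∃ (x : X.left) (φa : X.left.residueField x ⟶ CommRingCat.of Ω),
      x = imgPt a ∧ Spec.map φa ≫ X.left.fromSpecResidueField x = a.left :=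
    ⟨_, _, rfl, F.symm_apply_apply a.left⟩
  obtain ⟨φb, hb⟩ : ∃ φb : X.left.residueField x ⟶ CommRingCat.of Ω,
      Spec.map φb ≫ X.left.fromSpecResidueField x = b.left := by
    rw [hxa, h]
    exact ⟨_, F.symm_apply_apply b.left⟩
  -- the structure of `k`-algebra of the residue field
  obtain ⟨c, hc⟩ : ∃ c : CommRingCat.of k ⟶ X.left.residueField x,
      Spec.map c = X.left.fromSpecResidueField x ≫ X.hom := ⟨_, Spec.map_preimage _⟩
  have hca : c ≫ φa = CommRingCat.ofHom (algebraMap k Ω) := by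
    apply Spec.map_injective
    rw [Spec.map_comp, hc, ← Category.assoc, ha]
    exact Over.w a
  have hcb : c ≫ φb = CommRingCat.ofHom (algebraMap k Ω) := by
    apply Spec.map_injective
    rw [Spec.map_comp, hc, ← Category.assoc, hb]
    exact Over.w b
  let L := X.left.residueField x
  letI : Algebra k L := c.hom.toAlgebra
  letI : Algebra L Ω := φa.hom.toAlgebra
  haveI : IsScalarTower k L Ω := IsScalarTower.of_algebraMap_eq fun r =>
    (DFunLike.congr_fun (congrArg CommRingCat.Hom.hom hca) r).symm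
  let ψ : L →ₐ[k] Ω := { φb.hom with commutes' := fun r => DFunLike.congr_fun (congrArg CommRingCat.Hom.hom hcb) r }
  let σ : Ω ≃ₐ[k] Ω := AlgEquiv.ofBijective (ψ.liftNormal Ω) (AlgHom.normal_bijective k Ω Ω _)
  have hσ : φa ≫ CommRingCat.ofHom (σ : Ω →+* Ω) = φb := CommRingCat.hom_ext (RingHom.ext fun r =>
    AlgHom.liftNormal_commutes ψ Ω r)
  refine ⟨σ, Over.OverMorphism.ext ?_⟩
  show Spec.map (CommRingCat.ofHom (σ : Ω →+* Ω)) ≫ a.left = b.left
  rw [← ha, ← hb, ← hσ, Spec.map_comp, Category.assoc]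

variable [IsAlgClosed Ω] [Normal k Ω] {A : Over (Spec (CommRingCat.of k))} [GrpObj A] [IsCommMonObj A] [IsProper A.hom]
  [GeometricallyIntegral A.hom]

/-- A Galois-stable group of `N`-torsion points, `N` prime to the characteristic, comes from a closed subgroup. -/
theorem exists_sub (N : ℕ) (hN : (N : k) ≠ 0) (G : Subgroup (SGA7.pt (K := k) Ω ⟶ A)) (htors : ∀ a ∈ G, a ^ N = 1)
    (hgal : ∀ (σ : Ω ≃ₐ[k] Ω), ∀ a ∈ G, SGA7.galAct σ a ∈ G) :
    ∃ (H : Over (Spec (CommRingCat.of k))) (_ : GrpObj H) (j : H ⟶ A) (_ : IsMonHom j)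
      (_ : IsClosedImmersion j.left) (_ : IsFinite H.hom),
      j ≫ (𝟙 A ^ N) = 1 ∧ ∀ a, (∃ b : SGA7.pt (K := k) Ω ⟶ H, b ≫ j = a) ↔ a ∈ G := by
  have hN0 : N ≠ 0 := by rintro rfl; exact hN Nat.cast_zero
  haveI : LocallyOfFinitePresentation A.hom := LocallyOfFinitePresentation.iff_locallyOfFiniteType.2 inferInstance
  let f : A.left ⟶ A.left := (𝟙 A ^ N).left
  haveI : IsFinite f := by
    show IsFinite (𝟙 A ^ N).left
    rw [← zpow_natCast]
    exact AVAmpleLib.isFinite_zpow A (n := (N : ℤ)) (by exact_mod_cast hN0)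
  haveI : Etale f := by
    show Etale (𝟙 A ^ N).left
    rw [← zpow_natCast]
    refine (AbSchLib.isFinite_etale_zpow A _ ?_).2
    have := (isUnit_iff_ne_zero.2 hN).map (Scheme.ΓSpecIso (CommRingCat.of k)).inv.hom
    simpa using this
  let e : Spec (CommRingCat.of k) ⟶ A.left := (η[A] : 𝟙_ (Over (Spec (CommRingCat.of k))) ⟶ A).left
  haveI : IsClosedImmersion e := isClosedImmersion_of_comp_eq_id A.hom e (Over.w _)
  let K := pullback f e
  let q : K ⟶ Spec (CommRingCat.of k) := pullback.snd f e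
  let p : K ⟶ A.left := pullback.fst f e
  haveI : IsFinite q := MorphismProperty.pullback_snd _ _ inferInstance
  haveI : IsClosedImmersion p := MorphismProperty.pullback_fst _ _ inferInstance
  haveI : DiscreteTopology K := by
    refine DiscreteTopology.of_continuous_injective
      (f := fun z => (q.fiberHomeo (IsLocalRing.closedPoint k)).symm
        ⟨z, Set.mem_singleton_iff.mpr (Subsingleton.elim (α := PrimeSpectrum k) _ _)⟩)
      (by fun_prop) (fun a b hab => congrArg Subtype.val ((q.fiberHomeo (IsLocalRing.closedPoint k)).symm.injective hab))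
  have hpq : p ≫ A.hom = q := by
    have he : e ≫ A.hom = 𝟙 _ := Over.w (η[A] : 𝟙_ (Over (Spec (CommRingCat.of k))) ⟶ A)
    rw [show A.hom = f ≫ A.hom from (Over.w (𝟙 A ^ N)).symm, ← Category.assoc, pullback.condition, Category.assoc, he,
      Category.comp_id]
  have hfac : ∀ {T : Over (Spec (CommRingCat.of k))} (a : T ⟶ A), a ^ N = 1 →
      ∃ t : T.left ⟶ K, t ≫ p = a.left := by
    intro T a ha
    refine ⟨pullback.lift a.left T.hom ?_, pullback.lift_fst _ _ _⟩
    show a.left ≫ (𝟙 A ^ N).left = T.hom ≫ e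
    rw [← Over.comp_left, MonObj.comp_pow, Category.comp_id, ha, Hom.one_def, Over.comp_left]
    rfl
  -- the image of the group
  let S : Set A.left := imgPt '' (G : Set (SGA7.pt (K := k) Ω ⟶ A))
  have hSp : S ⊆ Set.range p := by
    rintro _ ⟨a, ha, rfl⟩
    obtain ⟨t, ht⟩ := hfac a (htors a ha)
    exact ⟨t (IsLocalRing.closedPoint Ω), by rw [← Scheme.Hom.comp_apply, ht]; rfl⟩
  have hSc : IsClosed S := by
    rw [← Set.inter_eq_left.2 hSp, ← Set.image_preimage_eq_inter_range]
    exact p.isClosedEmbedding.isClosedMap _ (isClosed_discrete _)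
  have hmem : ∀ a : SGA7.pt (K := k) Ω ⟶ A, imgPt a ∈ S → a ∈ G := by
    rintro a ⟨b, hb, hba⟩
    obtain ⟨σ, rfl⟩ := exists_galAct_eq b a hba
    exact hgal σ b hb
  let U : K.Opens := ⟨p ⁻¹' S, isOpen_discrete _⟩
  haveI : IsClosedImmersion U.ι := IsClosedImmersion.of_isPreimmersion _ (isClosed_discrete _)
  let H : Over (Spec (CommRingCat.of k)) := Over.mk (U.ι ≫ q)
  let j : H ⟶ A := Over.homMk (U.ι ≫ p) (by show (U.ι ≫ p) ≫ A.hom = U.ι ≫ q; rw [Category.assoc, hpq])
  haveI : IsClosedImmersion j.left := inferInstanceAs (IsClosedImmersion (U.ι ≫ p))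
  haveI : IsFinite H.hom := inferInstanceAs (IsFinite (U.ι ≫ q))
  haveI hjm : Mono j := Over.mono_of_mono_left j
  have hrange : Set.range j.left ⊆ S := by
    rintro _ ⟨z, rfl⟩
    show p (U.ι z) ∈ S
    exact (U.range_ι ▸ Set.mem_range_self z : U.ι z ∈ (U : Set K))
  have hlift : ∀ {T : Over (Spec (CommRingCat.of k))} (a : T ⟶ A), a ^ N = 1 → Set.range a.left ⊆ S →
      ∃ b : T ⟶ H, b ≫ j = a := by
    intro T a ha hr
    obtain ⟨t, ht⟩ := hfac a ha
    have htU : Set.range t ⊆ Set.range U.ι := by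
      rw [U.range_ι]
      rintro _ ⟨z, rfl⟩
      show p (t z) ∈ S
      rw [← Scheme.Hom.comp_apply, ht]
      exact hr ⟨z, rfl⟩
    refine ⟨Over.homMk (IsOpenImmersion.lift U.ι t htU) ?_, Over.OverMorphism.ext ?_⟩
    · show _ ≫ U.ι ≫ q = T.hom
      rw [IsOpenImmersion.lift_fac_assoc, ← hpq, ← Category.assoc, ht, Over.w]
    · show IsOpenImmersion.lift U.ι t htU ≫ U.ι ≫ p = a.left
      rw [IsOpenImmersion.lift_fac_assoc, ht]
  have hjN : j ^ N = 1 := by
    refine Over.OverMorphism.ext ?_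
    rw [← Category.comp_id j, ← MonObj.comp_pow, Over.comp_left, Hom.one_def, Over.comp_left]
    show (U.ι ≫ p) ≫ f = (U.ι ≫ q) ≫ e
    rw [Category.assoc, Category.assoc, pullback.condition]
  have hpts : ∀ a, (∃ b : SGA7.pt (K := k) Ω ⟶ H, b ≫ j = a) ↔ a ∈ G := by
    refine fun a => ⟨?_, fun ha => hlift a (htors a ha) ?_⟩
    · rintro ⟨b, rfl⟩
      exact hmem _ (hrange ⟨_, rfl⟩)
    · rintro _ ⟨z, rfl⟩
      rw [Subsingleton.elim (α := PrimeSpectrum Ω) z (IsLocalRing.closedPoint Ω)]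
      exact ⟨a, ha, rfl⟩
  have hG : ∀ {T : Over (Spec (CommRingCat.of k))} (b : T ⟶ H) (z : SGA7.pt (K := k) Ω ⟶ T), z ≫ b ≫ j ∈ G :=
    fun b z => (hpts _).1 ⟨z ≫ b, Category.assoc _ _ _⟩
  haveI : LocallyOfFiniteType H.hom := inferInstance
  haveI : LocallyOfFiniteType (H ⊗ H).hom :=
    inferInstanceAs (LocallyOfFiniteType (pullback.fst H.hom H.hom ≫ H.hom))
  haveI : LocallyOfFiniteType (𝟙_ (Over (Spec (CommRingCat.of k)))).hom :=
    inferInstanceAs (LocallyOfFiniteType (𝟙 (Spec (CommRingCat.of k))))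
  have key : ∀ {T : Over (Spec (CommRingCat.of k))} [LocallyOfFiniteType T.hom] (a : T ⟶ A), a ^ N = 1 →
      (∀ z : SGA7.pt (K := k) Ω ⟶ T, z ≫ a ∈ G) → ∃ b : T ⟶ H, b ≫ j = a := fun a ha hz =>
    hlift a ha (AVAmpleLib.range_subset_of_imgPts (Ω := Ω) a hSc fun z => ⟨_, hz z, rfl⟩)
  have hfst : (fst H H ≫ j) ^ N = 1 := by rw [← MonObj.comp_pow, hjN, MonObj.comp_one]
  have hsnd : (snd H H ≫ j) ^ N = 1 := by rw [← MonObj.comp_pow, hjN, MonObj.comp_one]
  obtain ⟨_, hj⟩ := Groth.Agent.SubDesc.exists_grpObj_of_mono j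
    (key _ (by rw [mul_pow, hfst, hsnd, _root_.one_mul]) fun z => by
      rw [MonObj.comp_mul]
      exact G.mul_mem (hG _ z) (hG _ z))
    (key _ (one_pow N) fun z => by rw [MonObj.comp_one]; exact G.one_mem)
    (key _ (by rw [inv_pow, hjN, inv_one]) fun z => by
      rw [GrpObj.comp_inv]
      exact G.inv_mem (by simpa using hG (𝟙 H) z))
  exact ⟨H, inferInstance, j, hj, inferInstance, inferInstance, by rw [MonObj.comp_pow, Category.comp_id, hjN], hpts⟩

end TateThmLib

end
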