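import Groth.Agent.TateThmLib.TateSeq
import Groth.Agent.TateThmLib.SemisimpleBC
import Groth.Agent.AVAmpleLib.EndRegular
import Groth.Agent.AVAmpleLib.BcTate
import Groth.Prelude.Def_EndTate

/-!
Rational Tate modules: functoriality, Galois action, and the algebra spanned by endomorphisms.
-/

set_option autoImplicit false
set_option linter.style.haveILetI false
set_option linter.unusedSectionVars false
set_option backward.isDefEq.respectTransparency false
set_option maxHeartbeats 1000000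
set_option synthInstance.maxHeartbeats 400000

noncomputable section

universe u

open CategoryTheory CategoryTheory.Limits MonoidalCategory CartesianMonoidalCategory MonObj AlgebraicGeometry
open scoped TensorProduct

namespace TateThmLib

variable {S : Scheme.{u}} {A B C : Over S} [GrpObj A] [IsCommMonObj A] [GrpObj B] [IsCommMonObj B] [GrpObj C]
  [IsCommMonObj C] (l : ℕ) [Fact l.Prime] (T : Over S)

/-- The rational Tate module. -/
abbrev VT (A : Over S) [GrpObj A] [IsCommMonObj A] (l : ℕ) [Fact l.Prime] (T : Over S) : Type u :=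
  ℚ_[l] ⊗[ℤ_[l]] AbDual.TateMod A l T

/-- The action of homomorphisms on rational Tate modules. -/
def bV : EndAV.Hom A B →+ (VT A l T →ₗ[ℚ_[l]] VT B l T) where
  toFun φ := (EndAV.Hom.tateMap l T φ).baseChange ℚ_[l]
  map_zero' := by rw [map_zero, LinearMap.baseChange_zero]
  map_add' φ ψ := by rw [map_add, LinearMap.baseChange_add]

theorem bV_apply (φ : EndAV.Hom A B) :
    bV l T φ = (AbDual.tateMapₗ (l := l) (T := T) φ.toHom).baseChange ℚ_[l] := rfl

theorem bV_comp (φ : EndAV.Hom A B) (ψ : EndAV.Hom B C) : bV l T (φ ≫ ψ) = bV l T ψ ∘ₗ bV l T φ := by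
  rw [bV_apply, bV_apply, bV_apply, ← LinearMap.baseChange_comp]
  exact congrArg (fun f : AbDual.TateMod A l T →ₗ[ℤ_[l]] AbDual.TateMod C l T => f.baseChange ℚ_[l])
    (LinearMap.ext fun x => tateMapₗ_comp φ.toHom ψ.toHom x)

theorem bV_id : bV l T (𝟙 (CommGrp.mk A) : EndAV.Hom A A) = LinearMap.id := by
  rw [bV_apply, ← LinearMap.baseChange_id]
  exact congrArg (fun f : AbDual.TateMod A l T →ₗ[ℤ_[l]] AbDual.TateMod A l T => f.baseChange ℚ_[l])
    (LinearMap.ext fun x => AbDual.TateMod.ext fun n => congrArg Additive.ofMul (Category.comp_id _))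

variable (A) in
/-- The representation of the endomorphism ring. -/
def endV : EndAV.End A →+* Module.End ℚ_[l] (VT A l T) :=
  (Module.End.baseChangeHom ℤ_[l] ℚ_[l] (AbDual.TateMod A l T)).toRingHom.comp (EndAV.End.tateRep l T)

theorem endV_apply (φ : EndAV.End A) :
    endV A l T φ = (AbDual.tateMapₗ (l := l) (T := T) φ.toHom).baseChange ℚ_[l] := rfl

section Gal

variable {k Ω : Type u} [Field k] [Field Ω] [Algebra k Ω]

/-- The Galois action on the Tate module of geometric points. -/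
def galT (X : Over (Spec (CommRingCat.of k))) [GrpObj X] [IsCommMonObj X] (l : ℕ) [Fact l.Prime] (σ : Ω ≃ₐ[k] Ω) :
    Module.End ℤ_[l] (AbDual.TateMod X l (SGA7.pt (K := k) Ω)) :=
  let e : Additive (SGA7.pt (K := k) Ω ⟶ X) →+ Additive (SGA7.pt (K := k) Ω ⟶ X) :=
    { toFun := fun x => Additive.ofMul (SGA7.galAct σ x.toMul)
      map_zero' := congrArg Additive.ofMul (MonObj.comp_one (SGA7.specAut σ))
      map_add' := fun x y => congrArg Additive.ofMul (MonObj.comp_mul (SGA7.specAut σ) x.toMul y.toMul) }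
  { toFun := fun x => ⟨fun n => e ((x : ℕ → Additive (SGA7.pt (K := k) Ω ⟶ X)) n),
      fun n => by rw [← map_nsmul, x.torsion, map_zero], fun n => by rw [← map_nsmul, x.compat]⟩
    map_add' := fun x y => AbDual.TateMod.ext fun n => map_add e _ _
    map_smul' := fun c x => AbDual.TateMod.ext fun n => map_nsmul e _ _ }

theorem galT_component (X : Over (Spec (CommRingCat.of k))) [GrpObj X] [IsCommMonObj X] (σ : Ω ≃ₐ[k] Ω)
    (x : AbDual.TateMod X l (SGA7.pt (K := k) Ω)) (n : ℕ) :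
    (AbDual.TateMod.component X l (SGA7.pt Ω) n (galT X l σ x)).toMul =
      SGA7.galAct σ (AbDual.TateMod.component X l (SGA7.pt Ω) n x).toMul := rfl

theorem eq_galT (X : Over (Spec (CommRingCat.of k))) [GrpObj X] [IsCommMonObj X]
    (ρ : (Ω ≃ₐ[k] Ω) → Module.End ℤ_[l] (AbDual.TateMod X l (SGA7.pt (K := k) Ω)))
    (hρ : ∀ (τ : Ω ≃ₐ[k] Ω) (z : AbDual.TateMod X l (SGA7.pt Ω)) (m : ℕ),
      (AbDual.TateMod.component X l (SGA7.pt Ω) m (ρ τ z)).toMul =
        SGA7.galAct τ (AbDual.TateMod.component X l (SGA7.pt Ω) m z).toMul) : ρ = galT X l :=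
  funext fun τ => LinearMap.ext fun z => AbDual.TateMod.ext fun n => Additive.toMul.injective (hρ τ z n)

theorem galT_natural {X Y : Over (Spec (CommRingCat.of k))} [GrpObj X] [IsCommMonObj X] [GrpObj Y] [IsCommMonObj Y]
    (f : X ⟶ Y) [IsMonHom f] (σ : Ω ≃ₐ[k] Ω) :
    AbDual.tateMapₗ (l := l) (T := SGA7.pt (K := k) Ω) f ∘ₗ galT X l σ =
      galT Y l σ ∘ₗ AbDual.tateMapₗ (l := l) (T := SGA7.pt (K := k) Ω) f :=
  LinearMap.ext fun x => AbDual.TateMod.ext fun n => congrArg Additive.ofMul (Category.assoc _ _ _)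

theorem bV_natural {X Y : Over (Spec (CommRingCat.of k))} [GrpObj X] [IsCommMonObj X] [GrpObj Y] [IsCommMonObj Y]
    (φ : EndAV.Hom X Y) (σ : Ω ≃ₐ[k] Ω) :
    bV l (SGA7.pt (K := k) Ω) φ ∘ₗ (galT X l σ).baseChange ℚ_[l] =
      (galT Y l σ).baseChange ℚ_[l] ∘ₗ bV l (SGA7.pt (K := k) Ω) φ := by
  rw [bV_apply, ← LinearMap.baseChange_comp, ← LinearMap.baseChange_comp, galT_natural]

end Gal

section EndAlg

variable {k : Type u} [Field k] (X : Over (Spec (CommRingCat.of k))) [GrpObj X] [IsCommMonObj X] [IsProper X.hom]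
  [GeometricallyIntegral X.hom] (P : Over (Spec (CommRingCat.of k)))

/-- The representation of the rational endomorphism algebra. -/
theorem exists_end0Rep :
    ∃ g : EndAV.End0 X →ₐ[ℚ] Module.End ℚ_[l] (VT X l P), ∀ (q : ℚ) φ, g (q ⊗ₜ φ) = q • endV X l P φ := by
  let f := endV X l P
  let fZ : EndAV.End X →ₐ[ℤ] Module.End ℚ_[l] (VT X l P) :=
    { f with commutes' := fun n => RingHom.congr_fun (Subsingleton.elim (f.comp (algebraMap ℤ _)) (algebraMap ℤ _)) n }
  refine ⟨Algebra.TensorProduct.lift (Algebra.ofId ℚ _) fZ fun c x => Algebra.commutes c (fZ x), fun q φ => ?_⟩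
  rw [Algebra.smul_def]
  exact Algebra.TensorProduct.lift_tmul _ _ _ _ _

/-- The `ℚ_l`-span of the endomorphisms is a semisimple subalgebra. -/
theorem exists_endSubalg :
    ∃ E : Subalgebra ℚ_[l] (Module.End ℚ_[l] (VT X l P)), IsSemisimpleRing E ∧
      ∀ u, u ∈ E ↔ u ∈ Submodule.span ℚ_[l] {ψ : Module.End ℚ_[l] (VT X l P) |
        ∃ (f : X ⟶ X) (_ : IsMonHom f), ψ = (AbDual.tateMapₗ (l := l) (T := P) f).baseChange ℚ_[l]} := by
  haveI := AVAmpleLib.fg_end X
  haveI : Module.Finite ℚ (EndAV.End0 X) := inferInstanceAs (Module.Finite ℚ (ℚ ⊗[ℤ] EndAV.End X))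
  haveI : IsSemisimpleRing (EndAV.End0 X) := AVAmpleLib.isSemisimpleRing_end0
  obtain ⟨g, hg⟩ := exists_end0Rep l X P
  obtain ⟨E, hE, hmem⟩ := exists_span_subalgebra (K := ℚ_[l]) g
  refine ⟨E, hE, fun u => (hmem u).trans ⟨fun h => Submodule.span_le.2 ?_ h, fun h => Submodule.span_le.2 ?_ h⟩⟩
  · rintro _ ⟨x, rfl⟩
    induction x using TensorProduct.induction_on with
    | zero => rw [map_zero]; exact Submodule.zero_mem _
    | tmul q φ =>
      rw [hg, ← algebraMap_smul ℚ_[l] q]
      exact Submodule.smul_mem _ _ (Submodule.subset_span ⟨φ.toHom, inferInstance, rfl⟩)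
    | add x y hx hy => rw [map_add]; exact Submodule.add_mem _ hx hy
  · rintro _ ⟨f, hf, rfl⟩
    exact Submodule.subset_span ⟨1 ⊗ₜ EndAV.End.of f, by rw [hg, one_smul]; rfl⟩

end EndAlg

end TateThmLib

end
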