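import Groth.Agent.TateThmLib.GraphQuot
import Groth.Agent.TateThmLib.Quat
import Groth.Agent.AVRRLib.RR
import Groth.Agent.AVAmpleLib.IsogInv
import Groth.Agent.AVIndexLib.KLRank
import Groth.Agent.MiscFlat6.AmpleTensor

/-!
Zarhin's trick along isogenies: quotients with ample classes of bounded Euler characteristic.
-/

set_option autoImplicit false
set_option maxHeartbeats 1000000
set_option maxRecDepth 8000
set_option backward.isDefEq.respectTransparency false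
set_option linter.style.haveILetI false
set_option linter.unusedSectionVars false

noncomputable section

universe u

open CategoryTheory CategoryTheory.Limits MonoidalCategory CartesianMonoidalCategory MonObj AlgebraicGeometry
open CubeConsLib AVThetaLib ThetaGrp
open AVDualLib (Lam Lam_eq_zero_iff lam_mul_right)
open TateThmLib.Zar

namespace TateThmLib

variable {k : Type u} [Field k]

theorem isMonHom_tensor {A B C D : Over (Spec (CommRingCat.of k))} [GrpObj A] [GrpObj B] [GrpObj C] [GrpObj D]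
    (f : A ⟶ B) (g : C ⟶ D) [IsMonHom f] [IsMonHom g] : IsMonHom (f ⊗ₘ g) :=
  isMonHom_of_mul _ fun T x y => by
    apply CartesianMonoidalCategory.hom_ext <;> simp [MonObj.mul_comp]

theorem tensor_finite_surj {A B C D : Over (Spec (CommRingCat.of k))} (f : A ⟶ B) (g : C ⟶ D)
    [IsFinite f.left] [Surjective f.left] [IsFinite g.left] [Surjective g.left] :
    IsFinite (f ⊗ₘ g).left ∧ Surjective (f ⊗ₘ g).left := by
  haveI : Surjective (f ▷ C).left := whiskerRight_prop' @Surjective f C ‹_›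
  haveI : Surjective (B ◁ g).left := whiskerLeft_prop' @Surjective B g ‹Surjective g.left›
  haveI : IsFinite (f ▷ C).left := whiskerRight_prop' @IsFinite f C ‹_›
  haveI : IsFinite (B ◁ g).left := whiskerLeft_prop' @IsFinite B g ‹IsFinite g.left›
  rw [MonoidalCategory.tensorHom_def, Over.comp_left]
  exact ⟨inferInstance, inferInstance⟩

theorem P_pb {A B : Over (Spec (CommRingCat.of k))} [GrpObj A] [GrpObj B] {L : B.left.Modules} (hL : PicF.IsInvertible L) (f : A ⟶ B)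
    {V : Over (Spec (CommRingCat.of k))} (g : V ⟶ A) :
    P (AmpleDevLib.isInvertible_pb f.left hL) g = P hL (g ≫ f) := by
  show pullA g.left (clA (AmpleDevLib.isInvertible_pb f.left hL)) = pullA (g ≫ f).left (clA hL)
  rw [← pullA_clA _ hL, pullA_comp, ← Over.comp_left]

/-- The external sum of two ample classes. -/
theorem exists_ext {A B : Over (Spec (CommRingCat.of k))} [GrpObj A] [GrpObj B] [IsProper A.hom] [IsProper B.hom]
    [GeometricallyIntegral A.hom] [GeometricallyIntegral B.hom] {L : A.left.Modules} (hLa : CohB1.IsAmple L)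
    {M : B.left.Modules} (hMa : CohB1.IsAmple M) :
    ∃ (R : (A ⊗ B).left.Modules) (hR : CohB1.IsAmple R), ∀ {V : Over (Spec (CommRingCat.of k))} (g : V ⟶ A ⊗ B),
      P hR.1 g = P hLa.1 (g ≫ fst A B) + P hMa.1 (g ≫ snd A B) := by
  let R := CohB1.tensorMod ((Scheme.Modules.pullback (fst A B).left).obj L)
    ((Scheme.Modules.pullback (snd A B).left).obj M)
  have hR : CohB1.IsAmple (R : (A ⊗ B).left.Modules) := MiscFlat6.isAmple_externalTensor A.hom B.hom hLa hMa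
  refine ⟨R, hR, fun {V} g => ?_⟩
  show pullA g.left (clA hR.1) = _
  rw [clA_tensor (AmpleDevLib.isInvertible_pb (fst A B).left hLa.1) (AmpleDevLib.isInvertible_pb (snd A B).left hMa.1),
    ← pullA_clA _ hLa.1, ← pullA_clA _ hMa.1, map_add, pullA_comp, pullA_comp]
  rfl

theorem lam_self {A : Over (Spec (CommRingCat.of k))} [GrpObj A] [IsProper A.hom] [GeometricallyIntegral A.hom]
    {L : A.left.Modules} (hL : PicF.IsInvertible L) (hsym : P hL (𝟙 A)⁻¹ = P hL (𝟙 A)) :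
    lam hL (𝟙 A) (𝟙 A) = (2 : ℤ) • clA hL := by
  haveI : IsCommMonObj A := isCommMonObj_field
  have h := lam_inv_left hL (𝟙 A) (𝟙 A)
  have h2 : lam hL (𝟙 A)⁻¹ (𝟙 A) = -((2 : ℤ) • clA hL) := by
    rw [CubeConsLib.lam, inv_mul_cancel, P_zero hL, hsym, P_id, zero_sub, two_zsmul]
    abel
  rw [h] at h2
  exact neg_injective h2

theorem comp_quat {A : Over (Spec (CommRingCat.of k))} [GrpObj A] [IsCommMonObj A] [IsProper A.hom]
    [GeometricallyIntegral A.hom] (a b c d : ℤ) {V : Over (Spec (CommRingCat.of k))} (x : V ⟶ A4 A) :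
    x ≫ quat A a b c d ≫ quat A a (-b) (-c) (-d) = x ^ (a ^ 2 + b ^ 2 + c ^ 2 + d ^ 2) := by
  obtain ⟨g0, g1, g2, g3⟩ := quat_q A a b c d
  obtain ⟨h0, h1, h2, h3⟩ := quat_q A a (-b) (-c) (-d)
  have e : ∀ q : A4 A ⟶ A, [IsMonHom q] → (x ^ (a ^ 2 + b ^ 2 + c ^ 2 + d ^ 2)) ≫ q =
      (x ≫ q) ^ (a ^ 2 + b ^ 2 + c ^ 2 + d ^ 2) := fun q _ =>
    map_zpow (MonoidHom.mk' (fun y : V ⟶ A4 A => y ≫ q) fun u v => MonObj.mul_comp u v q) x _
  apply hom_ext4 <;> rw [e] <;>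
    simp only [Category.assoc, h0, h1, h2, h3, comp_comb, g0, g1, g2, g3, MonObj.comp_mul, comp_zpow'] <;>
    (apply Additive.ofMul.injective; simp only [ofMul_mul, ofMul_zpow]; module)

theorem lam_quat_adj {A : Over (Spec (CommRingCat.of k))} [GrpObj A] [IsCommMonObj A] [IsProper A.hom]
    [GeometricallyIntegral A.hom] {L : A.left.Modules} (hL : PicF.IsInvertible L) {M : (A4 A).left.Modules}
    (hM : PicF.IsInvertible M)
    (cM : ∀ {V : Over (Spec (CommRingCat.of k))} (g : V ⟶ A4 A),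
      P hM g = P hL (g ≫ q0 A) + P hL (g ≫ q1 A) + P hL (g ≫ q2 A) + P hL (g ≫ q3 A))
    (a b c d : ℤ) {V : Over (Spec (CommRingCat.of k))} (w x : V ⟶ A4 A) :
    lam hM (w ≫ quat A a b c d) x = lam hM w (x ≫ quat A a (-b) (-c) (-d)) := by
  obtain ⟨g0, g1, g2, g3⟩ := quat_q A a b c d
  obtain ⟨h0, h1, h2, h3⟩ := quat_q A a (-b) (-c) (-d)
  rw [lam_sum hL hM cM, lam_sum hL hM cM]
  simp only [Category.assoc, g0, g1, g2, g3, h0, h1, h2, h3, comp_comb, lam_mul_left, lam_zpow_left, lam_word]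
  module

theorem mumfordZero_quat {A : Over (Spec (CommRingCat.of k))} [GrpObj A] [IsCommMonObj A] [IsProper A.hom]
    [GeometricallyIntegral A.hom] {L : A.left.Modules} (hL : PicF.IsInvertible L) {M : (A4 A).left.Modules}
    (hM : PicF.IsInvertible M)
    (cM : ∀ {V : Over (Spec (CommRingCat.of k))} (g : V ⟶ A4 A),
      P hM g = P hL (g ≫ q0 A) + P hL (g ≫ q1 A) + P hL (g ≫ q2 A) + P hL (g ≫ q3 A))
    (a b c d : ℤ) {T : Over (Spec (CommRingCat.of k))} (x : T ⟶ A4 A) (hx : MumfordZero hM x) :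
    MumfordZero hM (x ≫ quat A a b c d) := by
  obtain ⟨h0, h1, h2, h3⟩ := (mumfordZero_sum_iff hL hM cM x).1 hx
  obtain ⟨g0, g1, g2, g3⟩ := quat_q A a b c d
  refine (mumfordZero_sum_iff hL hM cM _).2 ?_
  have hw : ∀ p q r s : ℤ, MumfordZero hL ((x ≫ q0 A) ^ p * (x ≫ q1 A) ^ q * (x ≫ q2 A) ^ r * (x ≫ q3 A) ^ s) := by
    intro p q r s
    rw [← Lam_eq_zero_iff hL] at h0 h1 h2 h3 ⊢
    rw [Lam] at h0 h1 h2 h3 ⊢
    rw [MonObj.comp_mul, MonObj.comp_mul, MonObj.comp_mul, comp_zpow', comp_zpow', comp_zpow', comp_zpow',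
      lam_word, h0, h1, h2, h3]
    simp
  simp only [Category.assoc, g0, g1, g2, g3, comp_comb]
  exact ⟨hw _ _ _ _, hw _ _ _ _, hw _ _ _ _, hw _ _ _ _⟩

set_option maxHeartbeats 4000000 in
/-- For every isogeny onto `X` a bounded ample class on a quotient of the eighth power. -/
theorem exists_bounded_quot (X : Over (Spec (CommRingCat.of k))) [GrpObj X] [IsCommMonObj X] [IsProper X.hom]
    [GeometricallyIntegral X.hom] :
    ∃ (D : ℕ) (c : ℤ) (r : ℕ), 0 < r ∧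
      ∀ (Y : Over (Spec (CommRingCat.of k))) [GrpObj Y] [IsCommMonObj Y] [IsProper Y.hom] [GeometricallyIntegral Y.hom]
        (f : X ⟶ Y) [IsMonHom f] [IsFinite f.left] [Surjective f.left]
        (v : Y ⟶ X) [IsMonHom v] [IsFinite v.left] [Surjective v.left],
        ∃ (Z : Over (Spec (CommRingCat.of k))) (_ : GrpObj Z) (_ : IsCommMonObj Z) (_ : IsProper Z.hom)
          (_ : GeometricallyIntegral Z.hom) (φ : A4 X ⊗ A4 X ⟶ Z) (_ : IsMonHom φ) (_ : IsFinite φ.left)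
          (_ : Surjective φ.left) (p : Z ⟶ Y) (_ : IsMonHom p) (s : Y ⟶ Z) (_ : IsMonHom s),
          s ≫ p = 𝟙 Y ∧ topologicalKrullDim Z.left = (D : ℕ) ∧
          ∃ (N : Z.left.Modules) (hN : CohB1.IsAmple N),
            haveI : IsIntegral Z.left := GeometricallyIntegral.isIntegral_of_subsingleton Z.hom
            (r : ℤ) * AVAmpleLib.chi Z (clA hN.1) = c := by
  obtain ⟨L, hLa, ⟨eL⟩⟩ := AVAmpleLib.exists_symmetric_ample (A := X)
  haveI := proper_tensor X X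
  haveI := geomInt_tensor X X
  haveI := proper_tensor X (X ⊗ X)
  haveI := geomInt_tensor X (X ⊗ X)
  haveI := proper_tensor X (X ⊗ X ⊗ X)
  haveI := geomInt_tensor X (X ⊗ X ⊗ X)
  haveI := proper_tensor (A4 X) (A4 X)
  haveI := geomInt_tensor (A4 X) (A4 X)
  obtain ⟨L2, hL2, c2⟩ := exists_ext hLa hLa
  obtain ⟨L3, hL3, c3⟩ := exists_ext hLa hL2
  obtain ⟨L0, hL0, c4⟩ := exists_ext hLa hL3
  obtain ⟨M0, hM0, cM0⟩ := exists_ext hL0 hL0
  have hsymL : ∀ {V : Over (Spec (CommRingCat.of k))} (g : V ⟶ X), P hLa.1 g⁻¹ = P hLa.1 g := fun {V} g => by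
    have e : P hLa.1 (𝟙 X)⁻¹ = clA hLa.1 := (P_eq hLa.1 _).trans ((clA_eq_iff _ hLa.1).2 ⟨eL.symm⟩)
    have e' := congrArg (pullA g.left) e
    rwa [pullA_P, GrpObj.comp_inv, Category.comp_id] at e'
  haveI : IsCommMonObj (A4 X) := isCommMonObj_field
  obtain ⟨K0, gK0, iK0, hmK0, hK0, hK0f, -⟩ := exists_finite_KL hL0
  let s₀ : ↥(Spec (CommRingCat.of k)) := IsLocalRing.closedPoint k
  haveI : IsIntegral (A4 X ⊗ A4 X).left := GeometricallyIntegral.isIntegral_of_subsingleton (A4 X ⊗ A4 X).hom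
  obtain ⟨D, hD⟩ := AVAmpleLib.exists_dim_field (A4 X ⊗ A4 X)
  obtain ⟨g4, hg4⟩ := AVAmpleLib.exists_dim_field (A4 X)
  haveI : Nonempty K0.left := ⟨(η[K0] : 𝟙_ (Over (Spec (CommRingCat.of k))) ⟶ K0).left (IsLocalRing.closedPoint k)⟩
  have hr0 : 0 < K0.hom.finrank s₀ := by
    haveI : Flat K0.hom := inferInstance
    have := Scheme.Hom.one_le_finrank_map K0.hom (Classical.arbitrary _)
    rwa [Subsingleton.elim (α := PrimeSpectrum k) (K0.hom (Classical.arbitrary _)) s₀] at this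
  refine ⟨D, (2 : ℤ) ^ D * AVAmpleLib.chi (A4 X ⊗ A4 X) (clA hM0.1), K0.hom.finrank s₀, hr0, ?_⟩
  intro Y _ _ _ _ f _ _ _ v _ _ _
  haveI := proper_tensor Y Y
  haveI := geomInt_tensor Y Y
  haveI := proper_tensor Y (Y ⊗ Y)
  haveI := geomInt_tensor Y (Y ⊗ Y)
  haveI := proper_tensor Y (Y ⊗ Y ⊗ Y)
  haveI := geomInt_tensor Y (Y ⊗ Y ⊗ Y)
  haveI := proper_tensor (A4 Y) (A4 Y)
  haveI := geomInt_tensor (A4 Y) (A4 Y)
  haveI : IsCommMonObj (A4 Y) := isCommMonObj_field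
  haveI : IsCommMonObj (A4 Y ⊗ A4 Y) := isCommMonObj_field
  have pow4 : ∀ {A B : Over (Spec (CommRingCat.of k))} [GrpObj A] [GrpObj B] (h : A ⟶ B) [IsMonHom h]
      [IsFinite h.left] [Surjective h.left], IsMonHom (h ⊗ₘ h ⊗ₘ h ⊗ₘ h) ∧ IsFinite (h ⊗ₘ h ⊗ₘ h ⊗ₘ h).left ∧
        Surjective (h ⊗ₘ h ⊗ₘ h ⊗ₘ h).left := fun {A B} _ _ h _ _ _ => by
    haveI := isMonHom_tensor h h
    haveI := isMonHom_tensor h (h ⊗ₘ h)
    obtain ⟨_, _⟩ := tensor_finite_surj h h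
    obtain ⟨_, _⟩ := tensor_finite_surj h (h ⊗ₘ h)
    exact ⟨isMonHom_tensor h (h ⊗ₘ h ⊗ₘ h), tensor_finite_surj h (h ⊗ₘ h ⊗ₘ h)⟩
  let v4 : A4 Y ⟶ A4 X := v ⊗ₘ v ⊗ₘ v ⊗ₘ v
  let f4 : A4 X ⟶ A4 Y := f ⊗ₘ f ⊗ₘ f ⊗ₘ f
  obtain ⟨_, _, _⟩ : IsMonHom v4 ∧ IsFinite v4.left ∧ Surjective v4.left := pow4 v
  obtain ⟨_, _, _⟩ : IsMonHom f4 ∧ IsFinite f4.left ∧ Surjective f4.left := pow4 f
  haveI := AbSchLib.flat_of_surjective v4
  have hq : v4 ≫ q0 X = q0 Y ≫ v ∧ v4 ≫ q1 X = q1 Y ≫ v ∧ v4 ≫ q2 X = q2 Y ≫ v ∧ v4 ≫ q3 X = q3 Y ≫ v := by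
    refine ⟨?_, ?_, ?_, ?_⟩ <;> simp [v4]
  obtain ⟨hv0, hv1, hv2, hv3⟩ := hq
  let L4 : (A4 Y).left.Modules := (Scheme.Modules.pullback v4.left).obj L0
  have hL4 : PicF.IsInvertible L4 := AmpleDevLib.isInvertible_pb v4.left hL0.1
  have hL4a : CohB1.IsAmple L4 := AmpleDevLib.isAmple_pb v4.left hL0.1 hL0
  let LY : Y.left.Modules := (Scheme.Modules.pullback v.left).obj L
  have hLY : PicF.IsInvertible LY := AmpleDevLib.isInvertible_pb v.left hLa.1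
  have c4' : ∀ {V : Over (Spec (CommRingCat.of k))} (g : V ⟶ A4 X),
      P hL0.1 g = P hLa.1 (g ≫ q0 X) + P hLa.1 (g ≫ q1 X) + P hLa.1 (g ≫ q2 X) + P hLa.1 (g ≫ q3 X) := fun g => by
    rw [c4, c3, c2]
    simp only [Category.assoc, add_assoc]
  have cL4 : ∀ {V : Over (Spec (CommRingCat.of k))} (g : V ⟶ A4 Y),
      P hL4 g = P hLY (g ≫ q0 Y) + P hLY (g ≫ q1 Y) + P hLY (g ≫ q2 Y) + P hLY (g ≫ q3 Y) := fun g => by
    rw [show P hL4 g = P hL0.1 (g ≫ v4) from P_pb hL0.1 v4 g, c4']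
    simp only [show ∀ g : _ ⟶ Y, P hLY g = P hLa.1 (g ≫ v) from fun g => P_pb hLa.1 v g, Category.assoc, hv0, hv1, hv2, hv3]
  obtain ⟨K, gK, iK, hmK, hK, hKf, hKm⟩ := exists_finite_KL hL4a
  obtain ⟨m, hm, hmz⟩ := AVAmpleLib.exists_pow_eq_one_of_finite K
  obtain ⟨a, b, c, d, habcd⟩ := Nat.sum_four_squares (m ^ 2 - 1)
  have hs : (a : ℤ) ^ 2 + (b : ℤ) ^ 2 + (c : ℤ) ^ 2 + (d : ℤ) ^ 2 = ((m ^ 2 : ℕ) : ℤ) - 1 := by
    have : 1 ≤ m ^ 2 := Nat.one_le_pow _ _ hm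
    have e : (((a ^ 2 + b ^ 2 + c ^ 2 + d ^ 2 : ℕ)) : ℤ) = ((m ^ 2 - 1 : ℕ) : ℤ) := by rw [habcd]
    push_cast [this] at e ⊢
    exact e
  let w : A4 Y ⊗ A4 Y ⟶ A4 X ⊗ A4 X := lift (fst _ _ ≫ v4) (snd _ _ ≫ v4)
  obtain ⟨_, _⟩ : IsFinite w.left ∧ Surjective w.left := by
    rw [show w = v4 ⊗ₘ v4 by apply CartesianMonoidalCategory.hom_ext <;> simp [w]]
    exact tensor_finite_surj v4 v4
  let M : (A4 Y ⊗ A4 Y).left.Modules := (Scheme.Modules.pullback w.left).obj M0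
  have hM : PicF.IsInvertible M := AmpleDevLib.isInvertible_pb w.left hM0.1
  have hMa : CohB1.IsAmple M := AmpleDevLib.isAmple_pb w.left hM0.1 hM0
  have cM : ∀ {V : Over (Spec (CommRingCat.of k))} (g : V ⟶ A4 Y ⊗ A4 Y),
      P hM g = P hL4 (g ≫ fst _ _) + P hL4 (g ≫ snd _ _) := fun g => by
    rw [show P hM g = P hM0.1 (g ≫ w) from P_pb hM0.1 w g, cM0,
      show ∀ g : _ ⟶ A4 Y, P hL4 g = P hL0.1 (g ≫ v4) from fun g => P_pb hL0.1 v4 g,
      show ∀ g : _ ⟶ A4 Y, P hL4 g = P hL0.1 (g ≫ v4) from fun g => P_pb hL0.1 v4 g]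
    simp [w]
  haveI := isMonHom_quat Y (a : ℤ) b c d
  haveI := isMonHom_quat Y (a : ℤ) (-b) (-c) (-d)
  have hkill : iK * (iK ≫ quat Y (a : ℤ) b c d ≫ quat Y (a : ℤ) (-b) (-c) (-d)) = 1 := by
    rw [comp_quat, ← zpow_one_add, hs, add_sub_cancel, zpow_natCast]
    have : (𝟙 K ^ (m ^ 2)) ≫ iK = 1 := by
      rw [pow_two, pow_mul, hmz, one_pow, MonObj.one_comp]
    rwa [MonObj.pow_comp, Category.id_comp] at this
  obtain ⟨Z, hZg, hZp, hZi, π, hπm, hπf, hπs, p, hpm, hπp, hdeg, N, hN, hNe⟩ :=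
    exists_graph_quot hL4 hM cM hK (fun w x => lam_quat_adj hLY hL4 cL4 _ _ _ _ w x)
      (mumfordZero_quat hLY hL4 cL4 _ _ _ _ iK (mumfordZero_of_factors hL4 hK ⟨𝟙 K, Category.id_comp _⟩)) hkill
  haveI : IsCommMonObj Z := isCommMonObj_field
  haveI := AbSchLib.flat_of_surjective π
  haveI : IsMonHom (f4 ⊗ₘ f4) := isMonHom_tensor f4 f4
  obtain ⟨_, _⟩ := tensor_finite_surj f4 f4
  haveI : IsIntegral Z.left := GeometricallyIntegral.isIntegral_of_subsingleton Z.hom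
  haveI : IsIntegral (A4 Y ⊗ A4 Y).left := GeometricallyIntegral.isIntegral_of_subsingleton (A4 Y ⊗ A4 Y).hom
  let i1 : Y ⟶ A4 Y := lift (𝟙 Y) (lift 1 (lift 1 1))
  haveI : IsMonHom i1 := isMonHom_of_mul _ fun T x y => by
    apply hom_ext4 <;> simp [i1, MonObj.mul_comp]
  let j1 : A4 Y ⟶ A4 Y ⊗ A4 Y := lift (𝟙 _) 1
  haveI : IsMonHom j1 := inferInstanceAs (IsMonHom (jA (A4 Y)))
  refine ⟨Z, hZg, inferInstance, hZp, hZi, (f4 ⊗ₘ f4) ≫ π, inferInstance, ?_, ?_, p ≫ q0 Y, inferInstance,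
    i1 ≫ j1 ≫ π, inferInstance, ?_, ?_, N, ?_⟩
  · rw [Over.comp_left]; infer_instance
  · rw [Over.comp_left]; infer_instance
  · simp only [Category.assoc]
    rw [← Category.assoc π p, hπp]
    simp [j1, i1, MonObj.comp_mul, MonObj.mul_comp, ← Category.assoc]
  · have h1 : topologicalKrullDim (A4 Y ⊗ A4 Y).left = (D : ℕ) :=
      ((MiscFlat6.dim_le_of_isIntegralHom w.left).2 inferInstance).trans hD
    exact ((MiscFlat6.dim_le_of_isIntegralHom π.left).2 inferInstance).symm.trans h1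
  have hsym : P hM (𝟙 (A4 Y ⊗ A4 Y))⁻¹ = P hM (𝟙 _) := by
    simp only [cM, cL4, GrpObj.inv_comp, show ∀ g : _ ⟶ Y, P hLY g = P hLa.1 (g ≫ v) from fun g => P_pb hLa.1 v g,
      hsymL]
  rw [lam_self hM hsym, pullA_clA] at hNe
  have hM2 := AmpleThLib.tensorPow_isInvertible hM 2
  have e2 : clA (AmpleDevLib.isInvertible_pb π.left hN) = clA hM2 := by
    rw [hNe, clA_pow hM 2, ← natCast_zsmul]
    rfl
  obtain ⟨φ⟩ := (clA_eq_iff _ _).1 e2
  have hNa : CohB1.IsAmple N := isAmple_of_pullback π hN (AmpleDevLib.isAmple_of_iso hM2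
    (AmpleDevLib.isInvertible_pb π.left hN) φ.symm ((AmpleThLib.isAmple_tensorPow_iff hM two_pos).1 hMa))
  refine ⟨hNa, ?_⟩
  let bπ : Z.left := (η[Z] : 𝟙_ (Over (Spec (CommRingCat.of k))) ⟶ Z).left (IsLocalRing.closedPoint k)
  have eπ := AVRRLib.euler_pullback π _ (fun y => hdeg y s₀) (CurvLib.isCoh_of_isInvertible hN)
  have hd4 : ∀ y, v4.left.finrank y = v4.left.finrank (v4.left ((η[A4 Y] :
      𝟙_ (Over (Spec (CommRingCat.of k))) ⟶ A4 Y).left (IsLocalRing.closedPoint k))) := fun y =>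
    AVAmpleLib.finrank_const v4 y _
  set d4 := v4.left.finrank (v4.left ((η[A4 Y] :
      𝟙_ (Over (Spec (CommRingCat.of k))) ⟶ A4 Y).left (IsLocalRing.closedPoint k))) with hd4def
  have hrk : K.hom.finrank s₀ = d4 ^ 2 * K0.hom.finrank s₀ :=
    AVIndexLib.rank_KL_pullback v4 hL0.1 hK0 hK
      (((MiscFlat6.dim_le_of_isIntegralHom v4.left).2 inferInstance).trans hg4) hd4
      (fun t => by rw [Subsingleton.elim (α := PrimeSpectrum k) t s₀]) s₀
  have ew := AVIndexLib.euler_pullback_square v4 hd4 (Λ := M0) hM0.1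
  have hd4pos : 0 < d4 := (Scheme.Hom.one_le_finrank_iff_surjective _).2 inferInstance _
  have hA := AVRRLib.chi_zsmul (A := A4 Y ⊗ A4 Y) (g := D)
    (((MiscFlat6.dim_le_of_isIntegralHom w.left).2 inferInstance).trans hD) hM 2
  rw [← hNe, AVAmpleLib.chi_clA, AVAmpleLib.chi_clA] at hA
  have e1 : AVAmpleLib.chiMod (A4 Y ⊗ A4 Y) ((Scheme.Modules.pullback π.left).obj N) =
      ((d4 ^ 2 * K0.hom.finrank s₀ : ℕ) : ℤ) * AVAmpleLib.chiMod Z N := by rw [← hrk]; exact eπ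
  have e3 : AVAmpleLib.chiMod (A4 Y ⊗ A4 Y) M = (d4 : ℤ) ^ 2 * AVAmpleLib.chiMod (A4 X ⊗ A4 X) M0 := ew
  rw [e1, e3] at hA
  rw [AVAmpleLib.chi_clA, AVAmpleLib.chi_clA]
  push_cast at hA
  have hd0 : ((d4 : ℚ) ^ 2) ≠ 0 := by positivity
  have : ((K0.hom.finrank s₀ : ℚ) * (AVAmpleLib.chiMod Z N : ℚ)) =
      (2 : ℚ) ^ D * (AVAmpleLib.chiMod (A4 X ⊗ A4 X) M0 : ℚ) := mul_left_cancel₀ hd0 (by linear_combination hA)
  exact_mod_cast this

end TateThmLib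

end
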